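import Cfsg.Agent.Lib.OddOrder.S12.Coherent
import Cfsg.Agent.Lib.OddOrder.Found.InvDadeKernel
import Cfsg.Agent.Lib.OddOrder.S8.Supports

/-!
Peterfalvi (12.4), (12.6): the kernel data of a maximal subgroup that is Frobenius with kernel `L_σ`, and the
orthogonality of the coherent images of two non-conjugate such subgroups.
-/

set_option autoImplicit false
set_option linter.unusedSectionVars false
set_option linter.style.haveILetI false
set_option maxHeartbeats 1000000

namespace CfsgLib.OddOrder.S12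

open Subgroup Cfsg CfsgLib.MinSimpleOdd CfsgLib.CharTheory
open scoped Pointwise

universe u
variable {G : Type u} [Group G] [Fintype G] (hG : IsMinSimpleOddOrder G) {L : Subgroup G} [Fintype L]
  (hL : IsCoatom L) (hfr : IsCoreFrobenius L)

include hG hL hfr

/-- The kernel data `(L_σ^#, L, R)` with a coherent extension: one sign, irreducible images, real map. -/
theorem exists_core_kernelData (hnil : Group.IsNilpotent (sigmaCore L)) :
    ∃ (S : Finset (L → ℂ)) (τ₁ : (L → ℂ) → (G → ℂ)) (ε : ℂ), (ε = 1 ∨ ε = -1) ∧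
      Found.IsKernelData ((sigmaCore L : Set G) \ {1}) L (supportR L) ((sigmaCore L).subgroupOf L) S τ₁ ∧
      (∀ ξ ∈ S, IsIrrCharacter L ξ ∧ conjFun ξ ∈ S ∧ conjFun ξ ≠ ξ ∧ IsIrrCharacter G (ε • τ₁ ξ) ∧
        τ₁ (conjFun ξ) = conjFun (τ₁ ξ)) ∧
      ∀ ξ ∈ S, ∀ η ∈ S, τ₁ ξ = τ₁ η → ξ = η := by
  classical
  haveI := core_normal hG hL
  set K := (sigmaCore L).subgroupOf L
  have hfin : (inducedIrrAbove K ⊥).Finite := inducedIrrAbove_finite K ⊥
  obtain ⟨-, τ₁, hτ₁, hag⟩ := core_coherent_of_nilpotent hG hL hfr hnil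
  obtain ⟨ε, hε, him, hinj⟩ := core_image hG hL hfr hτ₁ hag
  refine ⟨hfin.toFinset, τ₁, ε, hε, ⟨dade_sigmaCore hG hL, inferInstance, fun a => ?_, hfin.coe_toFinset, ?_, ?_⟩,
    fun ξ hξ => ?_, fun ξ hξ η hη => hinj ξ (hfin.mem_toFinset.mp hξ) η (hfin.mem_toFinset.mp hη)⟩
  · exact ⟨fun h => ⟨h.1, fun e => h.2 (congrArg Subtype.val e)⟩,
      fun h => ⟨h.1, fun e => h.2 (Subtype.ext e)⟩⟩
  · rw [hfin.coe_toFinset]; exact hτ₁
  · rw [hfin.coe_toFinset]; exact hag
  · have h := hfin.mem_toFinset.mp hξ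
    exact ⟨core_induced_irr hG hL hfr h, hfin.mem_toFinset.mpr (inducedIrrAbove_conj K ⊥ h),
      induced_conj_ne L K (hG.1.of_dvd_nat L.card_subgroup_dvd_card) (core_subgroupOf_lt_top hG hL)
        (centralizer_le_core hfr) h, him ξ h⟩

omit hfr

/-- The supports of two non-conjugate `L_σ^#` are disjoint. -/
theorem core_supp_disjoint {N : Subgroup G} (hN : IsCoatom N) (hn : ∀ g : G, N ≠ MulAut.conj g • L) :
    Disjoint (Found.dadeSupp ((sigmaCore L : Set G) \ {1}) (supportR L))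
      (Found.dadeSupp ((sigmaCore N : Set G) \ {1}) (supportR N)) :=
  S8.tilde_disjoint hG hL hN hn

end CfsgLib.OddOrder.S12
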