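import Cfsg.Agent.Lib.OddOrder.S12.Setup
import Cfsg.Agent.S1355
import Cfsg.Agent.S1379
import Cfsg.Agent.S1526

/-!
Peterfalvi (12.17): if every maximal subgroup with `κ = ∅` is a Frobenius group with kernel `M_σ`, then some
maximal subgroup has `κ ≠ ∅`.
-/

set_option autoImplicit false
set_option linter.unusedSectionVars false
set_option linter.style.haveILetI false
set_option maxHeartbeats 1000000

namespace CfsgLib.OddOrder.S12

open Subgroup Cfsg CfsgLib.MinSimpleOdd
open scoped Pointwise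

universe u
variable {G : Type u} [Group G] [Finite G] (hG : IsMinSimpleOddOrder G)

include hG

theorem sigmaCore_lt_coatom {M : Subgroup G} (hM : IsCoatom M) : sigmaCore M < M := by
  obtain ⟨-, -, h1, h2, -⟩ := Cfsg.Agent.S1355.result hG M hM
  exact lt_of_le_of_lt h1 h2

theorem normalizer_sigmaCore {M : Subgroup G} (hM : IsCoatom M) : normalizer (sigmaCore M : Set G) = M := by
  refine ((eq_or_lt_of_le (le_normalizer_sigmaCore hG hM le_rfl)).resolve_right fun h => ?_).symm
  exact normalizer_ne_top hG (sigmaCore_ne_bot hG hM) (ne_top_of_lt (sigmaCore_lt_coatom hG hM)) (hM.2 _ h)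

theorem not_all_kappa_empty (hfrob : ∀ M : Subgroup G, IsCoatom M → kappa M = ∅ → ∀ z ∈ sigmaCore M, z ≠ 1 →
    M ⊓ centralizer ({z} : Set G) ≤ sigmaCore M) :
    ∃ M : Subgroup G, IsCoatom M ∧ (kappa M).Nonempty := by
  classical
  by_contra hne
  push Not at hne
  have hκ : ∀ M : Subgroup G, IsCoatom M → kappa M = ∅ := fun M hM => hne M hM
  have hC : ∀ M : Subgroup G, IsCoatom M → ∀ x ∈ sigmaCore M, x ≠ 1 → centralizer ({x} : Set G) ≤ M := by
    intro M hM x hx hx1
    by_contra hxM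
    obtain ⟨N, hN⟩ := exists_sigmaOver hG hM hx hx1 hxM
    obtain ⟨⟨z, hz⟩, hz1⟩ := Subgroup.ne_bot_iff_exists_ne_one.mp hN.ne
    have hxN : x ∈ sigmaCore N := hfrob N hN.hN (hκ N hN.hN) z hz.1 (fun e => hz1 (Subtype.ext e))
      ⟨hN.le (Subgroup.mem_centralizer_singleton_iff.mpr rfl), Subgroup.mem_centralizer_singleton_iff.mpr
        (Subgroup.mem_centralizer_singleton_iff.mp hz.2).symm⟩
    exact hx1 (Subgroup.mem_bot.mp (hN.bot ▸ ⟨hxN, piCoreOf_le _ _ hx⟩))
  have hTI : ∀ M : Subgroup G, IsCoatom M → IsTISubset (sigmaCore M : Set G) := by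
    intro M hM g hg x hx hgx
    by_contra hx1
    obtain ⟨n, hn, hne'⟩ := sigmaCore_fusion hG hM hx hgx
    refine hg ?_
    rw [normalizer_sigmaCore hG hM]
    have hc : n⁻¹ * g ∈ M := hC M hM x hx hx1 (Subgroup.mem_centralizer_singleton_iff.mpr (by
      have : g * x * g⁻¹ = n * x * n⁻¹ := hne'.symm
      rw [mul_inv_eq_iff_eq_mul] at this
      rw [mul_assoc, this]; group))
    simpa using M.mul_mem hn hc
  let r : Setoid {M : Subgroup G // IsCoatom M} :=
    { r := fun A B => ∃ g : G, (B : Subgroup G) = MulAut.conj g • (A : Subgroup G)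
      iseqv := ⟨fun A => ⟨1, by rw [map_one, one_smul]⟩,
        fun ⟨g, hg⟩ => ⟨g⁻¹, by rw [hg, CfsgLib.conj_smul_mul, inv_mul_cancel, map_one, one_smul]⟩,
        fun ⟨g, hg⟩ ⟨h, hh⟩ => ⟨h * g, by rw [hh, hg, CfsgLib.conj_smul_mul]⟩⟩ }
  let ι := Quotient r
  haveI : Fintype ι := Fintype.ofFinite _
  let rep : ι → Subgroup G := fun i => (i.out : {M : Subgroup G // IsCoatom M}).1
  have hrep : ∀ i, IsCoatom (rep i) := fun i => i.out.2
  have hcls : ∀ M : Subgroup G, IsCoatom M → ∃ i, ∃ g : G, rep i = MulAut.conj g • M := by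
    intro M hM
    have h : r.r ⟨M, hM⟩ (Quotient.mk r ⟨M, hM⟩).out :=
      Setoid.symm (Quotient.exact (Quotient.out_eq (Quotient.mk r ⟨M, hM⟩)))
    exact ⟨_, h⟩
  have hcover : ∀ g : G, g ≠ 1 → ∃ i, ∃ x : G, x * g * x⁻¹ ∈ sigmaCore (rep i) := by
    intro g hg
    obtain ⟨M, hM, a, ⟨ha, ha1⟩, u, hu, y, rfl⟩ := (Cfsg.Agent.S1379.result hG).2.1 hκ g hg
    rw [supportR_eq_bot hG hM (hC M hM a ha ha1), Subgroup.mem_bot] at hu
    subst hu
    obtain ⟨i, c, hc⟩ := hcls M hM
    refine ⟨i, c * y⁻¹, ?_⟩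
    rw [hc, sigmaCore_conj hG hM, CfsgLib.mem_conj_smul_iff]
    simpa [mul_assoc] using ha
  have hι : 2 ≤ Fintype.card ι := by
    by_contra hlt
    have hsub : Subsingleton ι := Fintype.card_le_one_iff_subsingleton.mp (by omega)
    obtain ⟨M, hM⟩ : ∃ M : Subgroup G, IsCoatom M := by
      obtain h | ⟨M, hM, -⟩ := eq_top_or_exists_le_coatom (⊥ : Subgroup G)
      · exact absurd h fun e => by
          haveI := hG.2.1
          exact absurd e bot_ne_top
      · exact ⟨M, hM⟩
    obtain ⟨i, c, hc⟩ := hcls M hM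
    have hall : ∀ g : G, g ≠ 1 → g ∈ tildeOf (rep i) ((sigmaCore (rep i) : Set G) \ {1}) := by
      intro g hg
      obtain ⟨j, x, hx⟩ := hcover g hg
      rw [Subsingleton.elim j i] at hx
      exact ⟨x * g * x⁻¹, ⟨hx, fun e => hg (conj_eq_one_iff.mp e)⟩, 1, one_mem _, x⁻¹, by group⟩
    have hge : Nat.card G - 1 ≤ Set.ncard (tildeOf (rep i) ((sigmaCore (rep i) : Set G) \ {1})) := by
      refine le_trans ?_ (Set.ncard_le_ncard (s := {g : G | g ≠ 1}) (fun g hg => hall g hg) (Set.toFinite _))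
      rw [show {g : G | g ≠ 1} = ({1} : Set G)ᶜ from rfl, Set.ncard_compl, Set.ncard_singleton]
    rw [ncard_tildeOf hG (hrep i)] at hge
    have hlt' := sigmaCore_lt_coatom hG (hrep i)
    obtain ⟨k, hk⟩ := Subgroup.card_dvd_of_le hlt'.le
    have hk2 : 2 ≤ k := by
      by_contra hk2
      have hle : Nat.card (rep i) ≤ Nat.card (sigmaCore (rep i)) := by
        rw [hk]
        calc Nat.card (sigmaCore (rep i)) * k ≤ Nat.card (sigmaCore (rep i)) * 1 := Nat.mul_le_mul le_rfl (by omega)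
          _ = _ := mul_one _
      exact hlt'.ne (Subgroup.eq_of_le_of_card_ge hlt'.le hle)
    have hG' : Nat.card G = Nat.card (sigmaCore (rep i)) * k * (rep i).index := by
      rw [← hk, Subgroup.card_mul_index]
    have hs : 2 ≤ Nat.card (sigmaCore (rep i)) := by
      have := (Subgroup.one_lt_card_iff_ne_bot _).mpr (sigmaCore_ne_bot hG (hrep i))
      omega
    have hidx : 1 ≤ (rep i).index := Nat.one_le_iff_ne_zero.mpr Subgroup.index_ne_zero_of_finite
    have h2 : 2 * ((Nat.card (sigmaCore (rep i))) * (rep i).index) ≤ Nat.card G := by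
      rw [hG', mul_right_comm _ k, mul_comm 2]
      exact Nat.mul_le_mul le_rfl hk2
    have h3 : (Nat.card (sigmaCore (rep i)) - 1) * (rep i).index + (rep i).index =
        Nat.card (sigmaCore (rep i)) * (rep i).index := by
      rw [← Nat.succ_mul, Nat.succ_eq_add_one, Nat.sub_add_cancel (by omega)]
    have h4 : 1 ≤ (Nat.card (sigmaCore (rep i)) - 1) * (rep i).index := Nat.mul_pos (by omega) hidx
    omega
  refine Cfsg.Agent.S1526.result hG.1 hι rep (fun i => sigmaCore (rep i))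
    (fun i => sigmaCore_lt_coatom hG (hrep i)) (fun i => sigmaCore_ne_bot hG (hrep i))
    (fun i x hx h hh => conj_mem_core hG (hrep i) hx hh) (fun i => hfrob _ (hrep i) (hκ _ (hrep i)))
    (fun i j hij => Nat.coprime_of_dvd fun p hp h1 h2 => hij ?_)
    (fun i => ⟨hTI _ (hrep i), normalizer_sigmaCore hG (hrep i)⟩) hcover
  haveI := Fact.mk hp
  have hr : r.r i.out j.out := sigma_disjointness hG (hrep i) (hrep j)
    ((sigmaCore_hall hG (hrep i)).1.2.1 p hp h1) ((sigmaCore_hall hG (hrep j)).1.2.1 p hp h2)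
  rw [← Quotient.out_eq i, ← Quotient.out_eq j]
  exact Quotient.sound hr

end CfsgLib.OddOrder.S12
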