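import Cfsg.Agent.Lib.OddOrder.S12.Setup
import Cfsg.Agent.Lib.CharTheory.DadeIso
import Cfsg.Agent.Lib.CharTheory.DadeVirtual

/-!
Section 12, lemma 12.1: for non-conjugate maximal `L`, `N` with `κ(N) = ∅`, the Dade images from `N` of functions
with zero sums over the cosets of `N_σ` have zero averages over the cosets `a R(a)`, `a ∈ L_σ^#`.
-/

set_option autoImplicit false
set_option linter.unusedSectionVars false
set_option linter.style.haveILetI false
set_option maxHeartbeats 1000000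

namespace CfsgLib.OddOrder.S12

open Subgroup Cfsg CfsgLib.MinSimpleOdd
open scoped Pointwise

universe u
variable {G : Type u} [Group G] [Finite G]

theorem exists_pow_left {x r : G} (hc : Commute x r) (hcop : (orderOf x).Coprime (orderOf r)) :
    ∃ m : ℕ, (x * r) ^ m = x := by
  obtain ⟨m, hm1, hm0⟩ := Nat.chineseRemainder hcop 1 0
  refine ⟨m, ?_⟩
  rw [hc.mul_pow, (pow_eq_pow_iff_modEq.mpr hm1).trans (pow_one x),
    (pow_eq_pow_iff_modEq.mpr hm0).trans (pow_zero r), mul_one]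

variable (hG : IsMinSimpleOddOrder G) {L N : Subgroup G} (hL : IsCoatom L) (hN : IsCoatom N)
  (hn : ∀ g : G, N ≠ MulAut.conj g • L) (hκ : kappa N = ∅)

include hG hL hN hn hκ

/-- The normalised situation: an element `a r` of a coset `a R_L(a)` lies in `N̂_σ` outside `N_σ`. -/
theorem coset_in_hat {a r : G} (ha : a ∈ sigmaCore L) (ha1 : a ≠ 1) (hr : r ∈ supportR L a)
    (hn' : a * r ∈ sigmaHat N) :
    supportR L a = sigmaCore N ⊓ centralizer ({a} : Set G) ∧ a ∈ N ∧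
      (∀ p : ℕ, p.Prime → p ∣ orderOf a → p ∉ sigma N) ∧
      ∀ s ∈ supportR L a, a * s ∈ sigmaHat N ∧ a * s ∉ sigmaCore N := by
  obtain ⟨hmem, z, hz, hz1, hzc⟩ := hn'
  have hcr : Commute a r :=
    (Subgroup.mem_centralizer_singleton_iff.mp (supportR_le_centralizer hG hL ha ha1 hr)).symm
  have hcop : (orderOf a).Coprime (orderOf r) := Nat.coprime_of_dvd fun p hp h1 h2 =>
    supportR_order hG hL ha ha1 hr p hp h2 (order_sigma hG hL ha p hp h1)
  obtain ⟨m, hm⟩ := exists_pow_left hcr hcop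
  have haN : a ∈ N := hm ▸ N.pow_mem hmem m
  have haz : a * z = z * a := by
    rw [← hm]; exact ((show Commute _ z from hzc).pow_left m).eq
  have hσ : ∀ p : ℕ, p.Prime → p ∣ orderOf a → p ∉ sigma N := fun p hp hd hpN => by
    haveI := Fact.mk hp
    obtain ⟨g, hg⟩ := sigma_disjointness hG hL hN (order_sigma hG hL ha p hp hd) hpN
    exact hn g hg
  rcases Cfsg.Agent.S1432.result hG N hN z hz hz1 a ⟨haN, Subgroup.mem_centralizer_singleton_iff.mpr haz⟩ ha1 hσ
    with ⟨h, -⟩ | ⟨-, -, -, huniq⟩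
  · obtain ⟨p, hp, hpd⟩ := exists_prime_dvd_order ha1
    exact absurd (hκ ▸ h p hp hpd) (Set.notMem_empty p)
  have hCN : centralizer ({a} : Set G) ≤ N := by
    rcases Cfsg.Agent.S1432.result hG N hN z hz hz1 a ⟨haN, Subgroup.mem_centralizer_singleton_iff.mpr haz⟩ ha1 hσ
      with ⟨h, -⟩ | ⟨-, -, hle, -⟩
    · obtain ⟨p, hp, hpd⟩ := exists_prime_dvd_order ha1
      exact absurd (hκ ▸ h p hp hpd) (Set.notMem_empty p)
    · exact hle
  have hR : supportR L a = sigmaCore N ⊓ centralizer ({a} : Set G) := by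
    rcases supportR_cases hG hL ha ha1 with ⟨hle, -⟩ | ⟨N₁, hN₁, h⟩
    · exact absurd (huniq L hL hle).symm (by have := hn 1; rwa [map_one, one_smul] at this)
    · rw [h, huniq N₁ hN₁.hN hN₁.le]
  have haσ : a ∉ sigmaCore N := fun h => by
    obtain ⟨p, hp, hpd⟩ := exists_prime_dvd_order ha1
    exact hσ p hp hpd (order_sigma hG hN h p hp hpd)
  refine ⟨hR, haN, hσ, fun s hs => ?_⟩
  rw [hR] at hs
  have hsc : s * a = a * s := Subgroup.mem_centralizer_singleton_iff.mp hs.2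
  refine ⟨⟨N.mul_mem haN (hCN hs.2), ?_⟩, fun h => haσ ?_⟩
  · by_cases hs1 : s = 1
    · exact ⟨z, hz, hz1, by rw [hs1, mul_one]; exact haz⟩
    · exact ⟨s, hs.1, hs1, by rw [← mul_assoc, hsc]⟩
  · simpa using (sigmaCore N).mul_mem h ((sigmaCore N).inv_mem hs.1)

theorem vanish {f : N → ℂ}
    (hf : IsClassFunction N f)
    (hsum : ∀ g : N, (g : G) ∉ sigmaCore N →
      ∑ᶠ k ∈ ((sigmaCore N).subgroupOf N : Set N), f (g * k) = 0)
    {a : G} (ha : a ∈ sigmaCore L) (ha1 : a ≠ 1) :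
    ∑ᶠ u ∈ (supportR L a : Set G), dadeIsometry (sigmaHat N \ {1}) N (supportR N) f (a * u) = 0 := by
  classical
  have hD := dade_hat hG hN hκ
  haveI : Fintype N := Fintype.ofFinite N
  by_cases hex : ∃ r ∈ supportR L a, ∃ n ∈ sigmaHat N \ {1}, ∃ u ∈ supportR N n, ∃ y : G,
      y * (a * r) * y⁻¹ = n * u
  swap
  · refine finsum_mem_eq_zero_of_forall_eq_zero fun r hr => ?_
    rw [dadeIsometry, dif_neg]
    rintro ⟨b, hb, y, u, hu, e⟩
    exact hex ⟨r, hr, b, hb, u, hu, y, e⟩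
  obtain ⟨r, hr, n, hnA, u, hu, y, e⟩ := hex
  have hns : n ∉ sigmaCore N := fun hns => by
    have h1 : a * r ∈ tildeOf L ((sigmaCore L : Set G) \ {1}) := ⟨a, ⟨ha, ha1⟩, r, hr, 1, by group⟩
    have h2 : a * r ∈ tildeOf N ((sigmaCore N : Set G) \ {1}) :=
      ⟨n, ⟨hns, hnA.2⟩, u, hu, y⁻¹, by rw [← e]; group⟩
    exact (tildeOf_disjoint hG hL hN hn).le ⟨h1, h2⟩
  rw [supportR_hat_eq_bot hG hN hκ hnA.1 hns, Subgroup.mem_bot] at hu
  subst hu
  rw [mul_one] at e
  set a' := y * a * y⁻¹ with ha'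
  have hL' := conj_isCoatom hL y
  have ha'σ : a' ∈ sigmaCore (MulAut.conj y • L) := by
    rw [sigmaCore_conj hG hL, CfsgLib.mem_conj_smul_iff]
    simpa [ha', mul_assoc] using ha
  have ha'1 : a' ≠ 1 := fun h => ha1 (conj_eq_one_iff.mp h)
  have hn'' : ∀ g : G, N ≠ MulAut.conj g • MulAut.conj y • L := fun g h => hn (g * y) (by rwa [← CfsgLib.conj_smul_mul])
  have hR' : supportR (MulAut.conj y • L) a' = MulAut.conj y • supportR L a := supportR_conj hG hL ha ha1 y
  have hr' : y * r * y⁻¹ ∈ supportR (MulAut.conj y • L) a' := by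
    rw [hR', CfsgLib.mem_conj_smul_iff]; simpa [mul_assoc] using hr
  obtain ⟨hR, haN, hσ, hall⟩ := coset_in_hat hG hL' hN hn'' hκ ha'σ ha'1 hr'
    (by rw [show a' * (y * r * y⁻¹) = y * (a * r) * y⁻¹ by rw [ha']; group, e]; exact hnA.1)
  -- the coset, moved into `N`
  have hval : ∀ s ∈ supportR L a, ∃ h : a' * (y * s * y⁻¹) ∈ N,
      dadeIsometry (sigmaHat N \ {1}) N (supportR N) f (a * s) = f ⟨a' * (y * s * y⁻¹), h⟩ := by
    intro s hs
    have hs' : y * s * y⁻¹ ∈ supportR (MulAut.conj y • L) a' := by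
      rw [hR', CfsgLib.mem_conj_smul_iff]; simpa [mul_assoc] using hs
    obtain ⟨hh, hout⟩ := hall _ hs'
    refine ⟨hh.1, CfsgLib.Dade.dade_apply hD hf (a := ⟨_, hh.1⟩) ⟨hh, fun h1 => hout ?_⟩ (one_mem _)
      (x := y) (by show _ = a' * (y * s * y⁻¹) * 1; rw [ha']; group)⟩
    have h2 : a' * (y * s * y⁻¹) = 1 := Set.mem_singleton_iff.mp h1
    rw [h2]; exact one_mem _
  set K := (sigmaCore N).subgroupOf N with hK
  set g₀ : N := ⟨a', haN⟩
  have hg₀ : g₀ ∈ normalizer (K : Set N) := Subgroup.mem_normalizer_iff.mpr fun k => by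
    simp only [K, Subgroup.mem_subgroupOf, Subgroup.coe_mul, Subgroup.coe_inv, g₀]
    exact Subgroup.mem_normalizer_iff.mp (le_normalizer_sigmaCore hG hN le_rfl haN) k
  have hcop : (orderOf g₀).Coprime (Nat.card K) := by
    rw [← Subgroup.orderOf_coe, Nat.card_congr (Subgroup.subgroupOfEquivOfLe
      (show sigmaCore N ≤ N from piCoreOf_le _ _)).toEquiv]
    exact Nat.coprime_of_dvd fun p hp h1 h2 => hσ p hp h1 ((sigmaCore_hall hG hN).1.2.1 p hp h2)
  have hg₀σ : (g₀ : G) ∉ sigmaCore N := fun h => by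
    obtain ⟨p, hp, hpd⟩ := exists_prime_dvd_order ha'1
    exact hσ p hp hpd (order_sigma hG hN h p hp hpd)
  have hzero := CfsgLib.Dade.sum_coset_coprime K hg₀ hcop hf
  have hsum' : ∑ h ∈ Finset.univ.filter (fun h : N => h ∈ K), f (g₀ * h) = 0 := by
    rw [← hsum g₀ hg₀σ, finsum_mem_eq_toFinset_sum]
    refine Finset.sum_congr ?_ fun _ _ => rfl
    ext h
    simp [hK]
  rw [hsum', mul_zero] at hzero
  have hC : ∑ c ∈ Finset.univ.filter (fun c : N => c ∈ K ⊓ centralizer ({g₀} : Set N)), f (g₀ * c) = 0 :=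
    (mul_eq_zero.mp hzero.symm).resolve_left (Nat.cast_ne_zero.mpr Nat.card_pos.ne')
  haveI : Fintype G := Fintype.ofFinite G
  rw [finsum_mem_eq_toFinset_sum, ← hC]
  have hsN : ∀ s ∈ supportR L a, y * s * y⁻¹ ∈ sigmaCore N ∧ y * s * y⁻¹ ∈ centralizer ({a'} : Set G) := by
    intro s hs
    have h : y * s * y⁻¹ ∈ supportR (MulAut.conj y • L) a' := by
      rw [hR', CfsgLib.mem_conj_smul_iff]; simpa [mul_assoc] using hs
    rwa [hR, Subgroup.mem_inf] at h
  refine Finset.sum_bij (fun s hs => (⟨y * s * y⁻¹, piCoreOf_le _ _ (hsN s (Set.mem_toFinset.mp hs)).1⟩ : N))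
    (fun s hs => ?_) (fun s _ t _ h => by simpa using congrArg Subtype.val h) (fun c hc => ?_) (fun s hs => ?_)
  · obtain ⟨h1, h2⟩ := hsN s (Set.mem_toFinset.mp hs)
    simp only [Finset.mem_filter, Finset.mem_univ, true_and, Subgroup.mem_inf, K, Subgroup.mem_subgroupOf]
    exact ⟨h1, Subgroup.mem_centralizer_singleton_iff.mpr
      (Subtype.ext (Subgroup.mem_centralizer_singleton_iff.mp h2))⟩
  · simp only [Finset.mem_filter, Finset.mem_univ, true_and, Subgroup.mem_inf, K, Subgroup.mem_subgroupOf] at hc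
    have h : (c : G) ∈ supportR (MulAut.conj y • L) a' := by
      rw [hR]
      exact ⟨hc.1, Subgroup.mem_centralizer_singleton_iff.mpr
        (congrArg Subtype.val (Subgroup.mem_centralizer_singleton_iff.mp hc.2))⟩
    rw [hR', CfsgLib.mem_conj_smul_iff] at h
    refine ⟨y⁻¹ * c * y, Set.mem_toFinset.mpr (by simpa [mul_assoc] using h), Subtype.ext ?_⟩
    show y * (y⁻¹ * c * y) * y⁻¹ = c
    group
  · obtain ⟨h, e'⟩ := hval s (Set.mem_toFinset.mp hs)
    rw [e']
    rfl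

end CfsgLib.OddOrder.S12
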