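import Cfsg.Agent.Lib.OddOrder.S12.Pairs
import Cfsg.Agent.Lib.OddOrder.S12.Vanish
import Cfsg.Agent.Lib.MinSimpleOdd.KappaFacts
import Cfsg.Agent.S1536
import Cfsg.Agent.S1359

/-!
Section 12, lemma 12.2 and its consequences for a maximal subgroup `N` with `κ(N) = ∅`.
-/

set_option autoImplicit false
set_option linter.unusedSectionVars false
set_option linter.style.haveILetI false
set_option maxHeartbeats 1000000

namespace CfsgLib.OddOrder.S12

open Subgroup Cfsg CfsgLib.MinSimpleOdd CfsgLib.CharTheory CfsgLib.Dade CfsgLib.OddOrder.Found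
open scoped Pointwise ComplexConjugate

universe u

section Generic

variable {G : Type u} [Group G] [Fintype G] {A : Set G} {N : Subgroup G} [Fintype N] {H : G → Subgroup G}
  {K : Subgroup N} [K.Normal] [Fintype K]

/-- **(12.2 b)** `⟨τ(Ind θ - Ind θ'), e⟩ = 0` for non-trivial irreducible `θ`, `θ'` of the same degree. -/
theorem OrthData.inner_ind_sub (d : OrthData A N H K) {e : G → ℂ} (he : Outside A H K e) {θ θ' : K → ℂ}
    (hθ : IsIrrCharacter K θ) (hθ1 : θ ≠ fun _ => 1) (hθ' : IsIrrCharacter K θ') (hθ'1 : θ' ≠ fun _ => 1)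
    (hdeg : θ 1 = θ' 1) :
    classInner (dadeIsometry A N H (indFun K θ - indFun K θ')) e = 0 := by
  classical
  let Λ := innerForm (N := N) A H e
  change Λ (indFun K θ - indFun K θ') = 0
  by_cases heq : indFun K θ = indFun K θ'
  · rw [heq, sub_self, map_zero]
  obtain ⟨C, hC, hCa, hCin⟩ := d.setting.degree_eq K hθ hθ1
  obtain ⟨C', hC', hC'a, hC'in⟩ := d.setting.degree_eq K hθ' hθ'1
  by_cases hconj : indFun K θ' = conjFun (indFun K θ)
  · have h : indFun K θ - indFun K θ' = ∑ χ ∈ C, (χ - conjFun χ) := by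
      rw [hconj, hC, Finset.sum_sub_distrib]
      congr 1
      funext x
      simp [conjFun, Finset.sum_apply, map_sum]
    rw [h, map_sum]
    refine Finset.sum_eq_zero fun χ hχ => ?_
    obtain ⟨μ, hμ, -, hτ, h1, h2⟩ := d.exists_pair he (hCa χ hχ).1
    change classInner (dadeIsometry A N H (χ - conjFun χ)) e = 0
    rw [hτ, classInner_sub_left, classInner_irr_ne hμ he.1 h1.symm,
      classInner_irr_ne (show IsIrrCharacter G (conjFun μ) from isIrrCharacter_conjChar hμ) he.1 h2.symm, sub_zero]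
  have hne : ∀ (C : Finset (N → ℂ)) (θ : K → ℂ), indFun K θ = ∑ χ ∈ C, χ → (∀ χ ∈ C, IsIrrCharacter N χ) →
      ∀ χ ∈ C, classInner (indFun K θ) χ ≠ 0 := fun C θ hs hirr χ hχ => by
    rw [hs, classInner_sum_irr hirr (hirr χ hχ), if_pos hχ]
    exact one_ne_zero
  have hsame : ∀ {φ φ' : K → ℂ}, IsIrrCharacter K φ → IsIrrCharacter K φ' → ∀ {χ : N → ℂ}, IsIrrCharacter N χ →
      classInner (indFun K φ) χ ≠ 0 → classInner (indFun K φ') χ ≠ 0 → indFun K φ = indFun K φ' :=
    fun {φ φ'} hφ hφ' {χ} hχ h h' => by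
      obtain ⟨g, rfl⟩ := indFun_eq_of_common hφ hφ' hχ h h'
      exact indFun_conjNormFun K g φ'
  have hflip : ∀ {φ : K → ℂ} {χ : N → ℂ}, classInner (indFun K φ) χ ≠ 0 →
      classInner (indFun K (conjFun φ)) (conjFun χ) ≠ 0 := fun {φ χ} h h0 => h (by
        have := congrArg conj h0
        rw [map_zero, indFun_conjFun] at this
        rw [← this]
        simp [classInner, conjFun, map_sum])
  rw [hC, hC']
  refine d.inner_signed_sum he C C' (fun χ hχ => (hCa χ hχ).1) (fun χ hχ => (hC'a χ hχ).1) ?_ ?_ ?_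
  · rw [Finset.disjoint_left]
    intro χ hχ hχ'
    exact heq (hsame hθ hθ' (hCa χ hχ).1.1 (hne C θ hC (fun ψ h => (hCa ψ h).1.1) χ hχ)
      (hne C' θ' hC' (fun ψ h => (hC'a ψ h).1.1) χ hχ'))
  · intro χ hχ hχ'
    have i1 := hne C θ hC (fun ψ h => (hCa ψ h).1.1)
    have i2 := hne C' θ' hC' (fun ψ h => (hC'a ψ h).1.1)
    rcases hχ with hχ | hχ <;> rcases hχ' with hχ' | hχ'
    · exact (i1 _ hχ') (d.conj_not_common hθ hθ1 (hCa χ hχ).1.1 (i1 χ hχ))
    · refine hconj ?_
      rw [← indFun_conjFun]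
      exact hsame hθ' (isIrrCharacter_conjChar hθ) (hC'a _ hχ').1.1 (i2 _ hχ') (hflip (i1 χ hχ))
    · refine hconj ?_
      have := hsame hθ (isIrrCharacter_conjChar hθ') (hCa _ hχ').1.1 (i1 _ hχ') (hflip (i2 χ hχ))
      rw [this, ← indFun_conjFun]
      exact congrArg _ (funext fun n => (Complex.conj_conj _).symm)
    · exact (i2 _ hχ') (d.conj_not_common hθ' hθ'1 (hC'a χ hχ).1.1 (i2 χ hχ))
  · rw [← hC, ← hC', indFun_apply_one, indFun_apply_one, hdeg]

/-- **(12.2 b)** The Fourier coefficients of `ρ e` on `K` are equal on non-trivial characters of equal degree. -/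
theorem OrthData.rho_fourier (d : OrthData A N H K) {e : G → ℂ} (he : Outside A H K e) {θ θ' : K → ℂ}
    (hθ : IsIrrCharacter K θ) (hθ1 : θ ≠ fun _ => 1) (hθ' : IsIrrCharacter K θ') (hθ'1 : θ' ≠ fun _ => 1)
    (hdeg : θ 1 = θ' 1) :
    classInner θ (fun k : K => dadeRho A N H e k) = classInner θ' (fun k : K => dadeRho A N H e k) := by
  have hcl := isClassFunction_dadeRho d.dade (isClassFunction_irr he.1)
  rw [← sub_eq_zero, ← frobenius_reciprocity K θ hcl, ← frobenius_reciprocity K θ' hcl, ← classInner_sub_left,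
    ← classInner_dade_dadeRho d.dade ?_ ?_ (isClassFunction_irr he.1)]
  · exact d.inner_ind_sub he hθ hθ1 hθ' hθ'1 hdeg
  · exact isClassFunction_sub (isClassFunction_char (isCharacter_indFun K (isCharacter_of_irr hθ)))
      (isClassFunction_char (isCharacter_indFun K (isCharacter_of_irr hθ')))
  · intro x hx
    by_cases hx1 : x = 1
    · subst hx1
      rw [Pi.sub_apply, indFun_apply_one, indFun_apply_one, hdeg, sub_self]
    · have hxK : x ∉ K := fun h => hx (d.mem_of_kernel h hx1)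
      have hz : ∀ g : N, g⁻¹ * x * g ∉ K := fun g h => hxK (by
        have := (inferInstance : K.Normal).conj_mem _ h g
        simpa [mul_assoc] using this)
      rw [Pi.sub_apply, indFun_eq_zero_of_not_isConj K θ hz, indFun_eq_zero_of_not_isConj K θ' hz, sub_self]

/-- **(12.2 a)** `ρ e` takes equal values at `y` and at `y z`. -/
theorem OrthData.rho_mul (d : OrthData A N H K) {e : G → ℂ} (he : Outside A H K e) {y z : N} (hy : y ∉ K)
    (hz : z ∈ K) (hcomm : y * z = z * y) (hyA : (y : G) ∈ A) (hwA : ((y * z : N) : G) ∈ A) :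
    dadeRho A N H e (y * z) = dadeRho A N H e y := by
  classical
  let bump : N → N → ℂ := fun w x => ∑ g : N, if g * w * g⁻¹ = x then 1 else 0
  have hbc : ∀ w, IsClassFunction N (bump w) := fun w a b => by
    refine Fintype.sum_bijective (fun g => b⁻¹ * g) (Group.mulLeft_bijective _) _ _ fun g => ?_
    refine if_congr ⟨fun h => ?_, fun h => ?_⟩ rfl rfl
    · calc b⁻¹ * g * w * (b⁻¹ * g)⁻¹ = b⁻¹ * (g * w * g⁻¹) * b := by group
        _ = a := by rw [h]; group
    · calc g * w * g⁻¹ = b * (b⁻¹ * g * w * (b⁻¹ * g)⁻¹) * b⁻¹ := by group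
        _ = b * a * b⁻¹ := by rw [h]
  have hbi : ∀ w (ψ : N → ℂ), IsClassFunction N ψ → classInner (bump w) ψ = conj (ψ w) := fun w ψ hψ => by
    simp only [classInner, bump, Finset.sum_mul, ite_mul, one_mul, zero_mul]
    rw [Finset.sum_comm]
    simp only [Finset.sum_ite_eq, Finset.mem_univ, if_true, show ∀ g : N, ψ (g * w * g⁻¹) = ψ w from fun g => hψ w g,
      Finset.sum_const, Finset.card_univ, nsmul_eq_mul]
    rw [← mul_assoc, Nat.card_eq_fintype_card, inv_mul_cancel₀ (Nat.cast_ne_zero.mpr Fintype.card_ne_zero), one_mul]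
  have hb0 : ∀ w x, (∀ g : N, g * w * g⁻¹ ≠ x) → bump w x = 0 := fun w x h =>
    Finset.sum_eq_zero fun g _ => if_neg (h g)
  have hyz : y * z ∉ K := fun h => hy (by simpa using K.mul_mem h (K.inv_mem hz))
  set φ := bump (y * z) - bump y with hφ
  have hφc : IsClassFunction N φ := isClassFunction_sub (hbc _) (hbc _)
  have hφK : ∀ k ∈ K, φ k = 0 := fun k hk => by
    have h : ∀ w, w ∉ K → bump w k = 0 := fun w hw => hb0 w k fun g e' => hw (by
      have := (inferInstance : K.Normal).conj_mem _ hk g⁻¹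
      rw [← e'] at this
      simpa [mul_assoc] using this)
    rw [hφ, Pi.sub_apply, h _ hyz, h _ hy, sub_zero]
  have hφA : ∀ x : N, (x : G) ∉ A → φ x = 0 := fun x hx => by
    have h : ∀ w : N, (w : G) ∈ A → bump w x = 0 := fun w hw => hb0 w x fun g e' => hx (by
      rw [← e']
      simpa using d.dade.conj_mem g g.2 w hw)
    rw [hφ, Pi.sub_apply, h _ hwA, h _ hyA, sub_zero]
  have h0 : classInner (dadeIsometry A N H φ) e = 0 := d.inner_eq_zero he hφc hφK fun χ hχ hn => by
    rw [hφ, classInner_sub_left, hbi _ _ (isClassFunction_irr hχ), hbi _ _ (isClassFunction_irr hχ), hcomm]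
    have hker : ∀ n ∈ K, χ n = χ 1 := fun n hn' => by
      by_contra h
      exact hn ⟨hχ, n, hn', h⟩
    rw [apply_mul_of_kernel K (isCharacter_of_irr hχ) hker ⟨z, hz⟩ y, sub_self]
  have hec := isClassFunction_irr he.1
  rw [classInner_dade_dadeRho d.dade hφc hφA hec, hφ, classInner_sub_left,
    hbi _ _ (isClassFunction_dadeRho d.dade hec), hbi _ _ (isClassFunction_dadeRho d.dade hec), sub_eq_zero] at h0
  exact (starRingEnd ℂ).injective h0

end Generic

variable {G : Type u} [Group G] [Fintype G] (hG : IsMinSimpleOddOrder G) {N : Subgroup G} (hN : IsCoatom N)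
  (hκ : kappa N = ∅)

include hG hN

theorem normal_core : ((sigmaCore N).subgroupOf N).Normal :=
  ⟨fun k hk g => conj_mem_core hG hN g.2 hk⟩

include hκ

theorem setting_core : @Setting N _ ((sigmaCore N).subgroupOf N) (normal_core hG hN) := by
  haveI := normal_core hG hN
  letI := Fintype.ofFinite N
  obtain ⟨hle, hπ, hidx⟩ := (sigmaCore_hall hG hN).1
  have hcard : Nat.card ((sigmaCore N).subgroupOf N) = Nat.card (sigmaCore N) :=
    Nat.card_congr (Subgroup.subgroupOfEquivOfLe hle).toEquiv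
  refine ⟨Nat.coprime_of_dvd fun p hp h1 h2 => hidx p hp (hπ p hp (hcard ▸ h1)) h2, fun θ hθ hθ1 x y hx hy => ?_⟩
  obtain ⟨U, hU⟩ := exists_sigmaDecomposition hG hN (K := ⊥) inferInstance
    ⟨bot_le, fun p hp hd => absurd (Nat.dvd_one.mp (by simpa using hd)) hp.ne_one,
      fun p _ hpk => absurd hpk (by simp [hκ])⟩
  obtain ⟨hUN, -, -, hdec⟩ := hU.compl
  haveI hcomm := Cfsg.Agent.S1359.result hG N hN ⊥ U hU
  have key : ∀ w : N, conjNormFun ((sigmaCore N).subgroupOf N) w θ = θ →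
      ∃ v : N, (v : G) ∈ Subgroup.closure ((U : Set G) ∩ sigmaHat N) ∧
        v * w⁻¹ ∈ (sigmaCore N).subgroupOf N := by
    intro w hw
    obtain ⟨v, hv, s, hs, hvs⟩ := hdec w w.2
    rw [bot_sup_eq] at hs
    set v' : N := ⟨v, hUN hv⟩
    set s' : N := ⟨s, hle hs⟩
    have hvs' : w = v' * s' := Subtype.ext hvs
    have hvT : v' ∈ inertia ((sigmaCore N).subgroupOf N) θ := by
      have := (inertia _ θ).mul_mem ((mem_inertia _).mpr hw)
        ((inertia _ θ).inv_mem (le_inertia _ (isClassFunction_irr hθ) (show s' ∈ (sigmaCore N).subgroupOf N from hs)))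
      rwa [hvs', mul_inv_cancel_right] at this
    refine ⟨v', Subgroup.subset_closure ⟨hv, ?_⟩, ?_⟩
    · obtain ⟨h, hh, hh1, hhc⟩ := (Cfsg.Agent.S1536.result _ (Nat.coprime_of_dvd fun p hp h1 h2 =>
        hidx p hp (hπ p hp (hcard ▸ h1)) h2) v').mp ⟨θ, hθ, hθ1, (mem_inertia _).mp hvT⟩
      exact ⟨hUN hv, h, hh, fun e => hh1 (Subtype.ext e), congrArg Subtype.val hhc⟩
    · rw [hvs', mul_inv_rev, ← mul_assoc]
      exact (inferInstance : ((sigmaCore N).subgroupOf N).Normal).conj_mem _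
        (((sigmaCore N).subgroupOf N).inv_mem hs) v'
  obtain ⟨a, ha, hax⟩ := key x hx
  obtain ⟨b, hb, hby⟩ := key y hy
  rw [← QuotientGroup.eq_one_iff, QuotientGroup.mk_mul, QuotientGroup.mk_mul, QuotientGroup.mk_mul,
    QuotientGroup.mk_inv, QuotientGroup.mk_inv]
  have e1 : (x : N ⧸ (sigmaCore N).subgroupOf N) = a := by
    rw [eq_comm, ← mul_inv_eq_one, ← QuotientGroup.mk_inv, ← QuotientGroup.mk_mul, QuotientGroup.eq_one_iff]
    exact hax
  have e2 : (y : N ⧸ (sigmaCore N).subgroupOf N) = b := by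
    rw [eq_comm, ← mul_inv_eq_one, ← QuotientGroup.mk_inv, ← QuotientGroup.mk_mul, QuotientGroup.eq_one_iff]
    exact hby
  have hab : a * b = b * a := Subtype.ext
    (by simpa using congrArg Subtype.val (hcomm.is_comm.comm (⟨_, ha⟩ : Subgroup.closure ((U : Set G) ∩ sigmaHat N)) ⟨_, hb⟩))
  rw [e1, e2, ← QuotientGroup.mk_mul, hab, QuotientGroup.mk_mul]
  group

theorem orthData_core : @OrthData G _ (sigmaHat N \ {1}) N (supportR N)
    ((sigmaCore N).subgroupOf N) (normal_core hG hN) := by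
  haveI := normal_core hG hN
  letI := Fintype.ofFinite N
  refine ⟨dade_hat hG hN hκ, setting_core hG hN hκ, fun x hx hx1 k hk hc => ?_,
    hG.1.of_dvd_nat (Subgroup.card_subgroup_dvd_card N)⟩
  by_contra hk1
  exact hx ⟨⟨x.2, k, hk, fun e => hk1 (Subtype.ext e), congrArg Subtype.val hc⟩,
    fun e => hx1 (Subtype.ext e)⟩

variable {L : Subgroup G} (hL : IsCoatom L) (hn : ∀ g : G, N ≠ MulAut.conj g • L)

include hL hn

/-- **(12.1)** The Dade images from `L_σ^#` are orthogonal to those of admissible functions of `N`. -/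
theorem dade_inner_adm [Fintype L] [Fintype N] [Fintype ((sigmaCore N).subgroupOf N)]
    {α : L → ℂ} (hα : IsClassFunction L α)
    (hαA : ∀ x : L, (x : G) ∉ (sigmaCore L : Set G) \ {1} → α x = 0) {f : N → ℂ}
    (hf : Adm (sigmaHat N \ {1}) ((sigmaCore N).subgroupOf N) f) :
    classInner (dadeIsometry ((sigmaCore L : Set G) \ {1}) L (supportR L) α)
      (dadeIsometry (sigmaHat N \ {1}) N (supportR N) f) = 0 := by
  have hdN := dade_hat hG hN hκ
  rw [classInner_dade_dadeRho (dade_sigmaCore hG hL) hα hαA (isClassFunction_dade hdN hf.1)]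
  refine (congrArg _ (funext fun a => ?_ : dadeRho _ L (supportR L) _ = (0 : L → ℂ))).trans (by simp [classInner])
  by_cases ha : (a : G) ∈ (sigmaCore L : Set G) \ {1}
  · rw [dadeRho_of_mem ha, vanish hG hL hN hn hκ hf.1 (fun g hg => ?_) ha.1 ha.2, mul_zero]
    · rfl
    · classical
      rw [finsum_mem_eq_finite_toFinset_sum _ (Set.toFinite _),
        Finset.sum_subtype _ (p := fun u => u ∈ (sigmaCore N).subgroupOf N) (fun u => by simp)]
      exact hf.2.2 g hg
  · rw [dadeRho_of_notMem ha]; rfl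

/-- An irreducible carrying `τ_L α` lies outside the images from `N`. -/
theorem outside_of_dade [Fintype L] [Fintype N] [Fintype ((sigmaCore N).subgroupOf N)]
    {α : L → ℂ} (hα : IsClassFunction L α)
    (hαA : ∀ x : L, (x : G) ∉ (sigmaCore L : Set G) \ {1} → α x = 0) {e : G → ℂ} (he : IsIrrCharacter G e)
    (hne : e ≠ conjFun e) {ε : ℂ} (hε : ε ≠ 0)
    (hτ : dadeIsometry ((sigmaCore L : Set G) \ {1}) L (supportR L) α = ε • (e - conjFun e)) :
    Outside (sigmaHat N \ {1}) (supportR N) ((sigmaCore N).subgroupOf N) e := by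
  refine ⟨he, hne, fun f hf => ?_⟩
  have h := dade_inner_adm hG hN hκ hL hn hα hαA hf
  rw [hτ, classInner_smul_left] at h
  exact (mul_eq_zero.mp h).resolve_left hε

omit hL hn

/-- **(12.2 a)** `e` is constant on `y z`, for `y` in `N - N_σ` and `z` in `C(y) ∩ N_σ`, when `C(y) ∩ N_σ ≠ 1`. -/
theorem apply_mul_eq [Fintype N] [Fintype ((sigmaCore N).subgroupOf N)] {e : G → ℂ}
    (he : Outside (sigmaHat N \ {1}) (supportR N) ((sigmaCore N).subgroupOf N) e) {y z w : G} (hy : y ∈ N)
    (hys : y ∉ sigmaCore N) (hz : z ∈ sigmaCore N) (hyz : y * z = z * y) (hw : w ∈ sigmaCore N) (hw1 : w ≠ 1)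
    (hyw : y * w = w * y) : e (y * z) = e y := by
  classical
  haveI := normal_core hG hN
  have d := orthData_core hG hN hκ
  have hle : sigmaCore N ≤ N := piCoreOf_le _ _
  have h1 : y ∈ sigmaHat N := ⟨hy, w, hw, hw1, hyw⟩
  have hys' : y * z ∉ sigmaCore N := fun h => hys (by simpa using mul_mem h (inv_mem hz))
  have h2 : y * z ∈ sigmaHat N := by
    by_cases hz1 : z = 1
    · rw [hz1, mul_one]; exact h1
    · exact ⟨N.mul_mem hy (hle hz), z, hz, hz1, by rw [← mul_assoc, ← hyz]⟩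
  have key : ∀ {x : G} (hx : x ∈ sigmaHat N) (_ : x ∉ sigmaCore N),
      dadeRho (sigmaHat N \ {1}) N (supportR N) e ⟨x, hx.1⟩ = e x := fun {x} hx hxs => by
    have hxA : ((⟨x, hx.1⟩ : N) : G) ∈ sigmaHat N \ {1} := ⟨hx, fun h => hxs (by rw [show x = 1 from h]; exact one_mem _)⟩
    refine dadeRho_eq_of_const hxA fun u hu => ?_
    rw [supportR_hat_eq_bot hG hN hκ hx hxs, Subgroup.mem_bot] at hu
    rw [hu, mul_one]
  rw [← key h1 hys, ← key h2 hys']
  exact d.rho_mul he (y := ⟨y, hy⟩) (z := ⟨z, hle hz⟩) hys hz (Subtype.ext hyz)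
    ⟨h1, fun h => hys (by rw [show y = 1 from h]; exact one_mem _)⟩
    ⟨h2, fun h => hys' (by rw [show y * z = 1 from h]; exact one_mem _)⟩

end CfsgLib.OddOrder.S12
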