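import Cfsg.Agent.Lib.OddOrder.S12.Local
import Cfsg.Agent.Lib.OddOrder.S12.Orth
import Cfsg.Agent.Lib.OddOrder.S12.CoherentData
import Cfsg.Agent.Lib.OddOrder.S12.NotAllTypeI
import Cfsg.Agent.Lib.CharTheory.ThreeDegrees
import Cfsg.Agent.Lib.CharTheory.FeitBounds
import Cfsg.Agent.Lib.CharTheory.Integral
import Cfsg.Agent.Lib.MinSimpleOdd.SigmaOverFrobenius
import Cfsg.Agent.S1494
import Cfsg.Agent.S1495
import Cfsg.Agent.S1436
import Cfsg.Agent.Lib.MinSimpleOdd.DecompBasics

/-!
Peterfalvi (12.16): the norm inequality excluding the local configuration, and (12.17).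
-/

set_option autoImplicit false
set_option linter.unusedSectionVars false
set_option linter.style.haveILetI false
set_option maxHeartbeats 1600000

namespace CfsgLib.OddOrder.S12

open Subgroup Cfsg CfsgLib.MinSimpleOdd CfsgLib.CharTheory CfsgLib.Dade CfsgLib.OddOrder.Found
open scoped Pointwise ComplexConjugate IsMulCommutative

universe u

section Coset

variable {K : Type u} [Group K] [Fintype K] (N : Subgroup K) [N.Normal] [Fintype N]

theorem cosetAvg_integral {f : K → ℂ} (hf : IsCharacter K f) (g : K) : IsIntegral ℤ (cosetAvg N f g) := by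
  classical
  have e : cosetAvg N f g = ∑ χ : IrrCharacter K, classInner f χ.1 * cosetAvg N χ.1 g := by
    conv_lhs => rw [eq_sum_irr (isClassFunction_char hf)]
    simp only [cosetAvg, Finset.sum_apply, Pi.smul_apply, smul_eq_mul]
    rw [Finset.sum_comm, Finset.mul_sum]
    refine Finset.sum_congr rfl fun χ _ => ?_
    rw [← Finset.mul_sum]; ring
  rw [e]
  refine IsIntegral.sum _ fun χ _ => ?_
  obtain ⟨n, hn⟩ := classInner_char_nat hf (isCharacter_of_irr χ.2)
  rw [hn]
  refine (show IsIntegral ℤ (n : ℂ) by simpa using isIntegral_algebraMap (R := ℤ) (A := ℂ) (x := (n : ℤ))).mul ?_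
  rcases kernel_or_cosetAvg_eq_zero N χ.2 with h | h
  · rw [cosetAvg_irr_of_kernel N (isCharacter_of_irr χ.2) h]
    exact isIntegral_of_char (isCharacter_of_irr χ.2) g
  · rw [h]; exact isIntegral_zero

end Coset

variable {G : Type u} [Group G] [Fintype G] (hG : IsMinSimpleOddOrder G)

include hG

theorem not_kappa_of_over {M N : Subgroup G} (hM : IsCoatom M) {p : ℕ} (hp : p ∈ Cfsg.tau2 M) {y : G}
    (hy : y ∈ sigmaCore M) (hy1 : y ≠ 1) (hN : SigmaOver M y N) : kappa N = ∅ := by
  by_contra hne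
  obtain ⟨-, -, E, hE, -, hEc, -⟩ :=
    hN.frobenius_cyclic hG hM hy hy1 (Set.nonempty_iff_ne_empty.mpr hne)
  haveI := hEc
  haveI := Fact.mk hp.1
  obtain ⟨E', hE', -⟩ := exists_complement_ge hG hM (bot_le : (⊥ : Subgroup G) ≤ M) fun r hr hd =>
    absurd (Subgroup.card_bot (G := G) ▸ hd) hr.not_dvd_one
  obtain ⟨A, hAE, hA, hA2⟩ := exists_elementary_in_complement hG hM hE' hp
  have hdec : ∀ a : A, ∃ e : E, ∃ b ∈ sigmaCore M, (a : G) = e * b := fun a => by
    obtain ⟨e, he, b, hb, h⟩ := hE.2.2.2 a (hE'.1 (hAE a.2))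
    exact ⟨⟨e, he⟩, b, hb, h⟩
  choose f b hb hab using hdec
  have hker : ∀ a : A, (a : G) ∈ sigmaCore M → a = 1 := fun a ha => by
    have h : (a : G) ∈ E' ⊓ sigmaCore M := ⟨hAE a.2, ha⟩
    rw [hE'.2.2.1, Subgroup.mem_bot] at h
    exact Subtype.ext h
  have hinj : Function.Injective f := fun a c e => by
    refine (inv_mul_eq_one.mp (hker (a⁻¹ * c) ?_))
    rw [Subgroup.coe_mul, Subgroup.coe_inv, hab a, hab c, e, show ((f c : G) * b a)⁻¹ * (f c * b c) =
      (b a)⁻¹ * b c by group]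
    exact mul_mem (inv_mem (hb a)) (hb c)
  have hpow : ∀ a : A, f a ^ p = 1 := fun a => by
    have hn : ((f a : G) * b a) ^ p * ((f a : G) ^ p)⁻¹ ∈ sigmaCore M := by
      clear hinj
      generalize p = n
      induction n with
      | zero => simp
      | succ n ih =>
        have hm : (f a : G) ∈ M := hE.1 (f a).2
        have h1 := conj_mem_core hG hM (x := (f a : G) * b a * (f a : G)⁻¹) (M.pow_mem hm n)
          (conj_mem_core hG hM hm (hb a))
        have := mul_mem ih h1
        convert this using 1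
        rw [pow_succ ((f a : G) * b a), pow_succ (f a : G)]
        simp [mul_assoc]
    have he : (f a : G) ^ p ∈ E ⊓ sigmaCore M := by
      refine ⟨E.pow_mem (f a).2 p, ?_⟩
      have := inv_mem hn
      rw [← hab, hA.2 a a.2, one_mul, inv_inv] at this
      exact this
    rw [hE.2.2.1, Subgroup.mem_bot] at he
    exact Subtype.ext he
  classical
  haveI := Fintype.ofFinite E
  haveI := Fintype.ofFinite A
  have h := IsCyclic.card_pow_eq_one_le (α := E) hp.1.pos
  have h2 : Fintype.card A ≤ (Finset.univ.filter fun e : E => e ^ p = 1).card :=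
    Finset.card_le_card_of_injOn f (fun a _ => by simp [hpow a]) hinj.injOn
  rw [← Nat.card_eq_fintype_card, hA2] at h2
  nlinarith [hp.1.two_le, h2.trans h]

theorem false_of_pairData {M L A : Subgroup G} {p : ℕ} {x z : G} (d : PairData M L p A x z) (hκ : kappa L = ∅)
    (hfr : IsCoreFrobenius L) : False := by
  classical
  haveI := Fact.mk d.hp.1
  have hM := d.hM
  have hL := d.hL
  haveI := core_normal hG hL
  haveI : ((sigmaCore M).subgroupOf M).Normal := core_normal hG hM
  haveI := normal_core hG hM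
  letI : Fintype L := Fintype.ofFinite L
  letI : Fintype M := Fintype.ofFinite M
  have hnilL := nilpotent_of_kappa_empty hG hL hκ
  obtain ⟨S, τ₁, ε, hε, D, hS, hinj⟩ := exists_core_kernelData hG hL hfr hnilL
  set KL := (sigmaCore L).subgroupOf L with hKL
  -- a character of degree `e`
  have hKLs : Group.IsSolvable KL := by
    haveI := hnilL
    exact Group.isSolvable_of_isSolvable_injective (f := (Subgroup.subgroupOfEquivOfLe
      (show sigmaCore L ≤ L from piCoreOf_le _ _)).toMonoidHom) (MulEquiv.injective _)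
  obtain ⟨θ, hθ, hθ1, -, hθd⟩ := exists_linear_above KL ⊥ hKLs
    (bot_lt_iff_ne_bot.mpr (core_subgroupOf_ne_bot hG hL))
  set ζ := indFun KL θ with hζdef
  have hζS : ζ ∈ S := by
    rw [← Finset.mem_coe, D.set_eq]
    exact ⟨θ, hθ, hθ1, fun a ha => by rw [show a = 1 from Subtype.ext (Subgroup.mem_bot.mp ha)], rfl⟩
  obtain ⟨hζi, hζc, hζne, heirr, hreal⟩ := hS ζ hζS
  set e := (sigmaCore L).relIndex L with hedef
  have hζe : ζ 1 = (e : ℂ) := by rw [hζdef, indFun_apply_one, hθd, mul_one]; rfl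
  set η := τ₁ ζ with hη
  set e₀ := ε • η with he₀
  have hεε : ε * ε = 1 := by rcases hε with h | h <;> rw [h] <;> norm_num
  have hεc : conj ε = ε := by rcases hε with h | h <;> rw [h] <;> simp
  have hηe : ∀ g, η g = ε * e₀ g := fun g => by
    rw [he₀, Pi.smul_apply, smul_eq_mul, ← mul_assoc, hεε, one_mul]
  have hηc : IsClassFunction G η := D.isClassFunction_image hζS
  -- `e₀` lies outside the images of non-conjugate groups with `κ = ∅`
  have hcj : τ₁ (conjFun ζ) = conjFun η := hreal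
  have hconj_e₀ : conjFun e₀ = ε • conjFun η := by
    funext g; simp [conjFun, he₀, hεc]
  have he₀ne : e₀ ≠ conjFun e₀ := fun h => by
    refine hζne (hinj _ hζc _ hζS ?_)
    rw [hcj]
    funext g
    have h' := congrFun h g
    rw [hconj_e₀, he₀] at h'
    simp only [Pi.smul_apply, smul_eq_mul] at h'
    exact (mul_left_cancel₀ (by rintro rfl; simp at hεε) h').symm
  have hout : ∀ N : Subgroup G, IsCoatom N → kappa N = ∅ → (∀ g : G, N ≠ MulAut.conj g • L) →
      ∀ [Fintype N] [Fintype ((sigmaCore N).subgroupOf N)],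
        Outside (sigmaHat N \ {1}) (supportR N) ((sigmaCore N).subgroupOf N) e₀ := by
    intro N hN hκN hn _ _
    have hm : ζ - conjFun ζ ∈ zspanOn (S : Set (L → ℂ)) {1}ᶜ :=
      ⟨Submodule.sub_mem _ (D.mem_span hζS) (D.mem_span hζc), fun y hy => by
        rw [not_not.mp hy, Pi.sub_apply, conjFun_one_eq hζi, sub_self]⟩
    refine outside_of_dade hG hN hκN hL hn (α := ζ - conjFun ζ) (D.span_class hm) (fun y hy => D.span_vanish hm hy)
      heirr he₀ne (ε := ε) (by rintro rfl; simp at hεε) ?_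
    rw [← D.agree _ hm, isometryOn_sub D.iso (D.mem_span hζS) (D.mem_span hζc), hcj, ← hη, hconj_e₀]
    funext g
    simp only [Pi.sub_apply, Pi.smul_apply, smul_eq_mul, he₀]
    linear_combination (-(η g - conjFun η g)) * hεε
  have he₀c := isClassFunction_irr heirr
  have hxM : x ∈ M := (d.AM d.xA).2
  have hxL : x ∈ sigmaCore L := d.AL d.xA
  have hxs : x ∉ sigmaCore M := fun h => d.hp.2.1 (order_sigma hG hM h p d.hp.1 (d.xord ▸ dvd_rfl))
  -- values of `ρ` on `L_σ^#`
  obtain ⟨m, hm⟩ := D.rho_eq hηc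
  have hρL : ∀ a : L, (a : G) ∈ (sigmaCore L : Set G) \ {1} →
      dadeRho _ L (supportR L) η a = ζ a + m := fun a ha => by
    rw [hm a ha, Finset.sum_eq_single ζ (fun ξ hξ hne => by
      rw [hη, D.classInner_image hζS hξ, if_neg (Ne.symm hne), zero_div, zero_mul]) (fun h => absurd hζS h),
      hη, D.classInner_image hζS hζS, if_pos rfl, classInner_irr_self hζi]
    ring
  set KM := (sigmaCore M).subgroupOf M with hKMdef
  letI : Fintype KM := Fintype.ofFinite _
  have houtM := hout M hM d.κM d.not_conj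
  have hsame : ∀ y : G, y ∈ zpowers x → y ≠ 1 → centralizer ({y} : Set G) = centralizer ({x} : Set G) := by
    intro y hy hy1
    rw [centralizer_zpowers, centralizer_zpowers x, Subgroup.eq_of_le_of_card_ge (Subgroup.zpowers_le.mpr hy) (by
      obtain ⟨i, rfl⟩ := Subgroup.mem_zpowers_iff.mp hy
      rw [Nat.card_zpowers, Nat.card_zpowers, d.xord, orderOf_eq_prime (by
        rw [← zpow_natCast, ← zpow_mul, mul_comm, zpow_mul, zpow_natCast, show x ^ p = 1 from d.xord ▸ pow_orderOf_eq_one x, one_zpow]) hy1])]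
  have hρx : ∀ y : G, y ∈ zpowers x → y ≠ 1 → ∀ hy : y ∈ L, η y = ζ ⟨y, hy⟩ + m := by
    intro y hy hy1 hyL
    have hyC : centralizer ({y} : Set G) ≤ M := (hsame y hy hy1).le.trans d.centralizer_le
    have hyσ : y ∈ sigmaCore L := Subgroup.zpowers_le.mpr hxL hy
    have hys : y ∉ sigmaCore M := fun h => hxs (by
      have h1 : zpowers y = zpowers x := Subgroup.eq_of_le_of_card_ge (Subgroup.zpowers_le.mpr hy) (by
        obtain ⟨i, rfl⟩ := Subgroup.mem_zpowers_iff.mp hy
        rw [Nat.card_zpowers, Nat.card_zpowers, d.xord, orderOf_eq_prime (by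
          rw [← zpow_natCast, ← zpow_mul, mul_comm, zpow_mul, zpow_natCast, show x ^ p = 1 from d.xord ▸ pow_orderOf_eq_one x, one_zpow]) hy1])
      exact Subgroup.zpowers_le.mpr h (h1 ▸ mem_zpowers x))
    have hw : y * z = z * y := by
      have : z ∈ centralizer ({y} : Set G) := by
        rw [hsame y hy hy1]; exact Subgroup.mem_centralizer_singleton_iff.mpr d.zx.symm
      exact (Subgroup.mem_centralizer_singleton_iff.mp this).symm
    rw [← hρL ⟨y, hyL⟩ ⟨hyσ, hy1⟩, dadeRho_eq_of_const (a := (⟨y, hyL⟩ : L)) (show _ ∈ _ \ _ from ⟨hyσ, hy1⟩)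
      (fun u hu => ?_)]
    rcases supportR_cases hG hL hyσ hy1 with ⟨-, h⟩ | ⟨N, hN, h⟩
    · rw [h, Subgroup.mem_bot] at hu
      rw [hu, mul_one]
    · obtain rfl := hN.uniq M hM hyC
      rw [h] at hu
      rw [hηe, hηe, apply_mul_eq hG hM d.κM houtM ((Subgroup.zpowers_le.mpr hxM) hy) hys hu.1
        (Subgroup.mem_centralizer_singleton_iff.mp hu.2).symm d.zM d.z_ne hw]
  -- the orders
  set h := Nat.card (sigmaCore L) with hhdef
  have hh : Nat.card KL = h := Nat.card_congr (Subgroup.subgroupOfEquivOfLe (piCoreOf_le _ _)).toEquiv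
  have hLcard : Nat.card L = h * e := by rw [← KL.card_mul_index, hh]; rfl
  have he3 : 3 ≤ e := by
    obtain ⟨j, hj⟩ := hG.1.of_dvd_nat ((Subgroup.relIndex_dvd_card (sigmaCore L) L).trans
      (Subgroup.card_subgroup_dvd_card L))
    have : e ≠ 1 := fun h1 => (core_subgroupOf_lt_top hG hL).ne (Subgroup.index_eq_one.mp h1)
    omega
  have hbound : 2 * e ≤ p + 1 := d.index_le hG hκ hfr
  have hp2 : p ^ 2 ∣ h := d.hA2 ▸ Subgroup.card_dvd_of_le d.AL
  have hbig : (e : ℕ) ^ 2 + 2 * e + 1 < h := by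
    have := Nat.le_of_dvd Nat.card_pos hp2
    nlinarith
  -- the mean square on `L`
  have hζsum : ∑ a : L, (if (a : G) ∈ (sigmaCore L : Set G) \ {1} then Complex.normSq (ζ a + m) else 0) =
      (h : ℝ) * e - (e : ℝ) ^ 2 - 2 * e * m.re + ((h : ℝ) - 1) * Complex.normSq m := by
    have hoff : ∀ a : L, ¬ (a : G) ∈ (sigmaCore L : Set G) \ {1} → a ≠ 1 → ζ a = 0 :=
      fun a ha ha1 => D.vanish hζS ha ha1
    have hone : ∑ a : L, ζ a = 0 := by
      have := inducedAbove_orth_one KL (D.mem hζS)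
      simp only [classInner, map_one, mul_one, mul_eq_zero, inv_eq_zero, Nat.cast_eq_zero, Nat.card_pos.ne',
        false_or] at this
      exact this
    have hnorm : ∑ a : L, Complex.normSq (ζ a) = (h : ℝ) * e := by
      have := classInner_irr_self hζi
      rw [classInner_self_eq_meanSq, Complex.ofReal_eq_one, meanSq, inv_mul_eq_one₀
        (Nat.cast_ne_zero.mpr Fintype.card_ne_zero)] at this
      rw [← this, ← Nat.card_eq_fintype_card, hLcard]
      push_cast; ring
    have hfil : (Finset.univ.filter fun a : L => (a : G) ∈ (sigmaCore L : Set G) \ {1}).card = h - 1 := by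
      rw [show (Finset.univ.filter fun a : L => (a : G) ∈ (sigmaCore L : Set G) \ {1}) =
        (Finset.univ.filter fun a : L => a ∈ KL).erase 1 from by
          ext a
          simp only [Finset.mem_filter, Finset.mem_univ, true_and, Finset.mem_erase]
          exact ⟨fun ha => ⟨fun e => ha.2 (congrArg Subtype.val e), ha.1⟩,
            fun ha => ⟨ha.2, fun e => ha.1 (Subtype.ext e)⟩⟩,
        Finset.card_erase_of_mem (by simp [KL.one_mem]), ← Fintype.card_subtype, ← Nat.card_eq_fintype_card]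
      exact congrArg (· - 1) hh
    have key : ∀ a : L, (if (a : G) ∈ (sigmaCore L : Set G) \ {1} then Complex.normSq (ζ a + m) else 0) =
        (Complex.normSq (ζ a) + 2 * (ζ a * conj m).re) - (if a = 1 then ((e : ℝ) ^ 2 + 2 * e * m.re) else 0) +
          (if (a : G) ∈ (sigmaCore L : Set G) \ {1} then Complex.normSq m else 0) := fun a => by
      by_cases ha : (a : G) ∈ (sigmaCore L : Set G) \ {1}
      · rw [if_pos ha, if_pos ha, if_neg (show ¬ a = 1 from fun h1 => ha.2 (by rw [h1]; rfl)), Complex.normSq_add]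
        ring
      · rw [if_neg ha, if_neg ha]
        by_cases ha1 : a = 1
        · subst ha1
          rw [if_pos rfl, hζe, Complex.normSq_natCast]
          simp
          ring
        · rw [if_neg ha1, hoff a ha ha1]
          simp
    rw [Finset.sum_congr rfl fun a _ => key a, Finset.sum_add_distrib, Finset.sum_sub_distrib, Finset.sum_add_distrib,
      ← Finset.mul_sum, ← Complex.re_sum, ← Finset.sum_mul, hone, hnorm, Finset.sum_ite_eq', if_pos (Finset.mem_univ _),
      ← Finset.sum_filter, Finset.sum_const, hfil, nsmul_eq_mul, Nat.cast_sub Nat.card_pos]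
    simp [hhdef, Nat.card_eq_fintype_card]
    ring
  have hρLsum : meanSq (dadeRho ((sigmaCore L : Set G) \ {1}) L (supportR L) η) =
      ((h : ℝ) * e - (e : ℝ) ^ 2 - 2 * e * m.re + ((h : ℝ) - 1) * Complex.normSq m) / ((h : ℝ) * e) := by
    rw [meanSq, ← Nat.card_eq_fintype_card, hLcard, div_eq_inv_mul, ← hζsum]
    push_cast
    congr 1
    refine Finset.sum_congr rfl fun a _ => ?_
    split_ifs with ha
    · rw [hρL a ha]
    · rw [dadeRho_of_notMem ha, map_zero]
  have hη1 : classInner η η = 1 := by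
    rw [hη, D.classInner_image hζS hζS, if_pos rfl, classInner_irr_self hζi]
  have hGsum : ∑ g : G, Complex.normSq (η g) = Nat.card G := by
    have := hη1
    rw [classInner_self_eq_meanSq, Complex.ofReal_eq_one, meanSq, inv_mul_eq_one₀
      (Nat.cast_ne_zero.mpr Fintype.card_ne_zero)] at this
    rw [← this, Nat.card_eq_fintype_card]
  have hGpos : (0 : ℝ) < Nat.card G := Nat.cast_pos.mpr Nat.card_pos
  set TL := Finset.univ.filter (· ∈ dadeSupp ((sigmaCore L : Set G) \ {1}) (supportR L)) with hTL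
  set TM := Finset.univ.filter (· ∈ dadeSupp ((sigmaCore M : Set G) \ {1}) (supportR M)) with hTM
  have hleL := meanSq_dadeRho_le (dade_sigmaCore hG hL) hηc
  have hleM := meanSq_dadeRho_le (dade_sigmaCore hG hM) hηc
  have htwo : meanSq (dadeRho ((sigmaCore L : Set G) \ {1}) L (supportR L) η) +
      meanSq (dadeRho ((sigmaCore M : Set G) \ {1}) M (supportR M) η) ≤ 1 := by
    refine (add_le_add hleL hleM).trans ?_
    rw [← mul_add, ← Finset.sum_union (Finset.disjoint_left.mpr fun g hg hg' => Set.disjoint_left.mp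
      (core_supp_disjoint hG hL hM d.not_conj) (Finset.mem_filter.mp hg).2 (Finset.mem_filter.mp hg').2),
      inv_mul_le_iff₀ hGpos, mul_one, ← hGsum]
    exact Finset.sum_le_sum_of_subset_of_nonneg (Finset.subset_univ _) fun _ _ _ => Complex.normSq_nonneg _
  have hMnn : (0 : ℝ) ≤ meanSq (dadeRho ((sigmaCore M : Set G) \ {1}) M (supportR M) η) :=
    mul_nonneg (by positivity) (Finset.sum_nonneg fun _ _ => Complex.normSq_nonneg _)
  have hhe : (0 : ℝ) < (h : ℝ) * e := mul_pos (Nat.cast_pos.mpr Nat.card_pos) (by exact_mod_cast (by omega : 0 < e))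
  have hmlt : Complex.normSq m < 1 := by
    by_contra hge
    push Not at hge
    have h1 : ((h : ℝ) * e - (e : ℝ) ^ 2 - 2 * e * m.re + ((h : ℝ) - 1) * Complex.normSq m) ≤ (h : ℝ) * e := by
      have := hρLsum ▸ (le_add_of_nonneg_right hMnn).trans htwo
      rwa [div_le_one hhe] at this
    have hre : m.re ≤ Complex.normSq m := by
      have : m.re * m.re ≤ Complex.normSq m := Complex.re_sq_le_normSq m
      nlinarith
    have hb : ((e : ℝ) ^ 2 + 2 * e + 1) < (h : ℝ) := by exact_mod_cast hbig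
    nlinarith
  -- `m = 0`
  have hxL' : x ∈ L := (d.AM d.xA).1
  have hm0 : m = 0 := by
    have hn : Nat.card G ≠ 0 := Nat.card_pos.ne'
    haveI : NeZero (Nat.card G) := ⟨hn⟩
    obtain ⟨a, b, ha, hb, hab⟩ := D.iso.2.2.2 _ (D.mem_span hζS)
    have hLdvd : Nat.card L ∣ Nat.card G := Subgroup.card_subgroup_dvd_card L
    have hζmem : ∀ y : L, ζ y ∈ rootField (Nat.card G) := fun y => by
      obtain ⟨s, hs, hpow⟩ := exists_roots_pow (isCharacter_of_irr hζi) y
      have h1 := hpow 1
      simp only [pow_one, Multiset.map_id'] at h1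
      rw [h1]
      refine multiset_sum_mem s fun w hw => mem_rootField hn ?_
      obtain ⟨c, hc⟩ := hLdvd
      rw [hc, pow_mul, hs w hw, one_pow]
    let ζ' : rootField (Nat.card G) := ⟨ζ ⟨x, hxL'⟩, hζmem _⟩
    let u : rootField (Nat.card G) := ⟨a x, char_mem_rootField ha x⟩ - ⟨b x, char_mem_rootField hb x⟩ - ζ'
    have hu : (u : ℂ) = m := by
      have := hρx x (mem_zpowers x) d.x_ne hxL'
      rw [hη, hab, Pi.sub_apply] at this
      show a x - b x - ζ ⟨x, hxL'⟩ = m
      rw [this]; ring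
    by_contra hm0
    have hint : IsIntegral ℤ (u : ℂ) :=
      ((isIntegral_of_char ha x).sub (isIntegral_of_char hb x)).sub (isIntegral_of_char (isCharacter_of_irr hζi) _)
    have hall : ∀ σ : rootField (Nat.card G) →ₐ[ℚ] ℂ, σ u = m := fun σ => by
      obtain ⟨j, hj, hjσ⟩ := exists_pow_of_galois_hom hn σ
      have hζσ : σ ζ' = ζ (⟨x, hxL'⟩ ^ j) := by
        obtain ⟨s, hs, hpow⟩ := exists_roots_pow (isCharacter_of_irr hζi) (⟨x, hxL'⟩ : L)
        have hmem : ∀ w ∈ s, w ∈ rootField (Nat.card G) := fun w hw => mem_rootField hn (by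
          obtain ⟨c, hc⟩ := hLdvd
          rw [hc, pow_mul, hs w hw, one_pow])
        let t : Multiset (rootField (Nat.card G)) := s.attach.map fun w => ⟨w.1, hmem w.1 w.2⟩
        have et : ζ' = t.sum := by
          apply Subtype.ext
          show ζ ⟨x, hxL'⟩ = algebraMap (rootField (Nat.card G)) ℂ t.sum
          rw [map_multiset_sum, Multiset.map_map]
          have := hpow 1
          simp only [pow_one, Multiset.map_id'] at this
          rw [this]
          congr 1
          exact (Multiset.attach_map_val s).symm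
        rw [et, map_multiset_sum, Multiset.map_map, hpow j]
        congr 1
        conv_rhs => rw [← Multiset.attach_map_val s, Multiset.map_map]
        refine Multiset.map_congr rfl fun w _ => hjσ _ ?_
        obtain ⟨c, hc⟩ := hLdvd
        show (w.1 : ℂ) ^ Nat.card G = 1
        rw [hc, pow_mul, hs w.1 w.2, one_pow]
      have hy1 : x ^ j ≠ 1 := fun e1 => by
        have h1 := orderOf_dvd_of_pow_eq_one e1
        rw [d.xord] at h1
        exact d.hp.1.ne_one (Nat.eq_one_of_dvd_coprimes hj h1 (d.xord ▸ orderOf_dvd_natCard x))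
      have := hρx (x ^ j) (Subgroup.pow_mem _ (mem_zpowers x) j) hy1 (L.pow_mem hxL' j)
      rw [hη, hab, Pi.sub_apply] at this
      rw [map_sub, map_sub, galois_apply_char ha x σ hjσ, galois_apply_char hb x σ hjσ, hζσ, this]
      show ζ ⟨x ^ j, _⟩ + m - ζ (⟨x, hxL'⟩ ^ j) = m
      rw [show (⟨x, hxL'⟩ : L) ^ j = ⟨x ^ j, L.pow_mem hxL' j⟩ from Subtype.ext (by simp)]
      ring
    have hne : u ≠ 0 := fun e => hm0 (by rw [← hu, e]; rfl)
    have hle := card_le_sum_normSq hn u hint hne
    rw [Finset.sum_congr rfl fun σ _ => by rw [hall σ], Finset.sum_const, Finset.card_univ, nsmul_eq_mul] at hle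
    have hpos : (0 : ℝ) < Fintype.card (rootField (Nat.card G) →ₐ[ℚ] ℂ) := by
      exact_mod_cast Fintype.card_pos_iff.2 ⟨(rootField (Nat.card G)).val⟩
    nlinarith
  have hex : η x = ζ ⟨x, hxL'⟩ := by rw [hρx x (mem_zpowers x) d.x_ne hxL', hm0, add_zero]
  -- the values on `M_σ^#`
  set K := sigmaCore M with hKdef
  have hKM : K ≤ M := piCoreOf_le _ _
  have hρM : ∀ y : M, (y : G) ∈ (K : Set G) \ {1} → dadeRho ((K : Set G) \ {1}) M (supportR M) e₀ y = e₀ y := by
    intro y hy
    refine dadeRho_eq_of_const hy fun u hu => ?_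
    rcases supportR_cases hG hM hy.1 hy.2 with ⟨-, h⟩ | ⟨N, hN, h⟩
    · rw [h, Subgroup.mem_bot] at hu
      rw [hu, mul_one]
    · rw [h] at hu
      have hκN := not_kappa_of_over hG hM d.hp hy.1 hy.2 hN
      have hNL : ∀ g : G, N ≠ MulAut.conj g • L := fun g eq => by
        have hpN : p ∈ sigma N := by rw [eq, sigma_conj]; exact d.pL
        have hpM : p ∣ Nat.card M := d.xord ▸ Subgroup.orderOf_dvd_natCard M hxM
        obtain ⟨-, hτ⟩ := (Cfsg.Agent.S1436.result hG M hM y hy.1 hy.2 (hN.not_le hG hM) N hN.hN hN.le).1 ⟨p, hpN, hpM⟩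
        exact Set.notMem_empty p (hτ ▸ d.hp)
      letI : Fintype N := Fintype.ofFinite N
      letI : Fintype ((sigmaCore N).subgroupOf N) := Fintype.ofFinite _
      obtain ⟨⟨w, hw⟩, hw1⟩ := Subgroup.ne_bot_iff_exists_ne_one.mp hN.ne
      have hyN : (y : G) ∈ N := hN.le (Subgroup.mem_centralizer_singleton_iff.mpr rfl)
      have hyσ : (y : G) ∉ sigmaCore N := fun hh => by
        obtain ⟨q, hq, hqd⟩ := exists_prime_dvd_order hy.2
        exact (hN.tau2 q hq hqd).2.1 (order_sigma hG hN.hN hh q hq hqd)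
      exact apply_mul_eq hG hN.hN hκN (hout N hN.hN hκN hNL) hyN hyσ hu.1
        (Subgroup.mem_centralizer_singleton_iff.mp hu.2).symm hw.1 (fun e1 => hw1 (Subtype.ext e1))
        (Subgroup.mem_centralizer_singleton_iff.mp hw.2).symm
  -- the derived subgroup
  set D' := commutator KM with hD'def
  letI : Fintype D' := Fintype.ofFinite _
  set f : KM → ℂ := fun k => e₀ ((k : M) : G) with hf
  have hfc : IsCharacter KM f := isCharacter_restrict (isCharacter_restrict (isCharacter_of_irr heirr) M) KM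
  let ρK : KM → ℂ := fun k => dadeRho (sigmaHat M \ {1}) M (supportR M) e₀ k
  have hρK : ∀ k : KM, k ≠ 1 → ρK k = f k := fun k hk => by
    have hkσ : ((k : M) : G) ∈ (K : Set G) \ {1} := ⟨k.2, fun e1 => hk (Subtype.ext (Subtype.ext e1))⟩
    rw [hf]
    show dadeRho _ M _ e₀ (k : M) = e₀ _
    have hkA : ((k : M) : G) ∈ sigmaHat M \ {1} := ⟨⟨(k : M).2, _, k.2, hkσ.2, rfl⟩, hkσ.2⟩
    rw [← hρM (k : M) hkσ, dadeRho_of_mem hkσ, dadeRho_of_mem hkA]
  have dM := orthData_core hG hM d.κM
  -- the coset averages off `D'` agree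
  have hconst : ∀ z₁ z₂ : KM, z₁ ∉ D' → z₂ ∉ D' → cosetAvg D' f z₁ = cosetAvg D' f z₂ := by
    intro z₁ z₂ h1 h2
    let g : KM → ℂ := fun k => (if k * z₁⁻¹ ∈ D' then 1 else 0) - (if k * z₂⁻¹ ∈ D' then 1 else 0)
    have hshift : ∀ w : KM, ∀ φ : KM → ℂ, ∑ k : KM, (if k * w⁻¹ ∈ D' then (1 : ℂ) else 0) * φ k = ∑ v : D', φ ((v : KM) * w) := by
      intro w φ
      simp only [ite_mul, one_mul, zero_mul]
      rw [← Finset.sum_filter]
      refine (Finset.sum_bij (fun (v : D') _ => (v : KM) * w) (fun v _ => by simp [mul_inv_cancel_right])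
        (fun a _ b _ e1 => Subtype.ext (mul_right_cancel e1))
        (fun k hk => ⟨⟨k * w⁻¹, (Finset.mem_filter.mp hk).2⟩, Finset.mem_univ _, by simp⟩) (fun _ _ => rfl)).symm
    have hgc : IsClassFunction KM g := by
      intro a c
      have hcm : ∀ w : KM, c * a * c⁻¹ * w⁻¹ ∈ D' ↔ a * w⁻¹ ∈ D' := fun w => by
        have hcom : c * a * c⁻¹ * a⁻¹ ∈ D' := Subgroup.commutator_mem_commutator (Subgroup.mem_top c) (Subgroup.mem_top a)
        rw [show c * a * c⁻¹ * w⁻¹ = (c * a * c⁻¹ * a⁻¹) * (a * w⁻¹) by group, Subgroup.mul_mem_cancel_left _ hcom]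
      show (_ : ℂ) - _ = _ - _
      rw [if_congr (hcm z₁) rfl rfl, if_congr (hcm z₂) rfl rfl]
    have hg1 : g 1 = 0 := by
      show (_ : ℂ) - _ = 0
      rw [if_neg, if_neg, sub_self]
      · exact fun hh => h2 (by simpa using hh)
      · exact fun hh => h1 (by simpa using hh)
    have hgi : ∀ φ : KM → ℂ, classInner g φ = (Nat.card KM : ℂ)⁻¹ * ((∑ v : D', conj (φ ((v : KM) * z₁))) - ∑ v : D', conj (φ ((v : KM) * z₂))) := by
      intro φ
      simp only [classInner, g, sub_mul, Finset.sum_sub_distrib]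
      rw [hshift z₁ fun k => conj (φ k), hshift z₂ fun k => conj (φ k)]
    have hone : classInner g (fun _ => 1) = 0 := by rw [hgi]; simp
    have hzero : classInner g ρK = 0 := by
      obtain ⟨θ₀, hθ₀, hθ₀1, hθ₀k, hθ₀d⟩ : ∃ θ₀ : KM → ℂ, IsIrrCharacter KM θ₀ ∧ θ₀ ≠ (fun _ => 1) ∧
          (∀ v ∈ D', θ₀ v = θ₀ 1) ∧ θ₀ 1 = 1 := by
        haveI := nilpotent_of_kappa_empty hG hM d.κM
        haveI : Group.IsNilpotent KM := Group.nilpotent_of_mulEquiv (Subgroup.subgroupOfEquivOfLe hKM).symm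
        exact CfsgLib.CharTheory.exists_linear_trivial_on D' fun e1 => h1 (e1 ▸ Subgroup.mem_top _)
      rw [eq_sum_irr hgc, classInner_sum_left]
      have hterm : ∀ χ : IrrCharacter KM, classInner (classInner g χ.1 • χ.1) ρK =
          classInner g χ.1 * χ.1 1 * classInner θ₀ ρK := fun χ => by
        rw [classInner_smul_left, mul_assoc]
        by_cases hc0 : classInner g χ.1 = 0
        · rw [hc0, zero_mul, zero_mul]
        have hker : ∀ v ∈ D', χ.1 v = χ.1 1 := by
          refine (kernel_or_cosetAvg_eq_zero D' χ.2).resolve_right fun hav => hc0 ?_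
          rw [hgi]
          have h' : ∀ w, ∑ v : D', conj (χ.1 ((v : KM) * w)) = 0 := fun w => by
            have := congrFun hav w
            simp only [cosetAvg, Pi.zero_apply, mul_eq_zero, inv_eq_zero, Nat.cast_eq_zero, Nat.card_pos.ne',
              false_or] at this
            rw [← map_sum, this, map_zero]
          rw [h', h', sub_zero, mul_zero]
        have hd1 : χ.1 1 = 1 := by
          rw [(charDegree_spec' χ.2).1, ThreeDegrees.linear_of_kernel χ.2 hker, Nat.cast_one]
        have hne1 : χ.1 ≠ fun _ => 1 := fun e1 => hc0 (e1 ▸ hone)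
        rw [hd1, one_mul, dM.rho_fourier houtM χ.2 hne1 hθ₀ hθ₀1 (hd1.trans hθ₀d.symm)]
      rw [Finset.sum_congr rfl fun χ _ => hterm χ, ← Finset.sum_mul]
      have := congrFun (eq_sum_irr hgc) 1
      simp only [Finset.sum_apply, Pi.smul_apply, smul_eq_mul] at this
      rw [← this, hg1, zero_mul]
    rw [hgi, mul_eq_zero, or_iff_right (inv_ne_zero (Nat.cast_ne_zero.mpr Nat.card_pos.ne')), sub_eq_zero,
      ← map_sum, ← map_sum] at hzero
    have h12 := (starRingEnd ℂ).injective hzero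
    have hne1 : ∀ (w : KM), w ∉ D' → ∀ v : D', (v : KM) * w ≠ 1 := fun w hw v e1 => hw (by
      rw [eq_inv_of_mul_eq_one_right e1]; exact inv_mem v.2)
    rw [Finset.sum_congr rfl fun v _ => hρK _ (hne1 z₁ h1 v),
      Finset.sum_congr rfl fun v _ => hρK _ (hne1 z₂ h2 v)] at h12
    simp only [cosetAvg, h12]
  set z₀ : KM := ⟨⟨z, hKM d.zM⟩, d.zM⟩ with hz₀
  have hz₀D : z₀ ∉ D' := fun hh => d.zder (by
    have h1 : ((z₀ : M) : G) ∈ (D'.map KM.subtype).map M.subtype := ⟨_, ⟨_, hh, rfl⟩, rfl⟩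
    rw [hD'def, Subgroup.map_subtype_commutator, Subgroup.map_commutator, Subgroup.map_subgroupOf_eq_of_le hKM] at h1
    exact h1)
  set c := cosetAvg D' f z₀ with hc
  have hcint : IsIntegral ℤ c := cosetAvg_integral D' hfc z₀
  -- `c` is rational
  obtain ⟨C, hC⟩ : ∃ C : ℤ, c = (C : ℂ) := by
    suffices hq : ∃ q : ℚ, c = (q : ℂ) by
      obtain ⟨q, hq⟩ := hq
      obtain ⟨C, hC⟩ := exists_int_of_isIntegral_ratCast (q := q) (hq ▸ hcint)
      exact ⟨C, by rw [hq, hC]; norm_num⟩
    let val : KM → rootField (Nat.card G) := fun k => ⟨f k, char_mem_rootField (isCharacter_of_irr heirr) _⟩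
    let u : rootField (Nat.card G) := ((Nat.card D' : ℕ) : rootField (Nat.card G))⁻¹ * ∑ v : D', val ((v : KM) * z₀)
    have hu : (u : ℂ) = c := by
      show algebraMap (rootField (Nat.card G)) ℂ u = _
      simp only [u, map_mul, map_inv₀, map_natCast, map_sum]
      rfl
    rw [← hu]
    refine rat_of_fixed Nat.card_pos.ne' u fun σ => ?_
    obtain ⟨j, hj, hjσ⟩ := exists_pow_of_galois_hom Nat.card_pos.ne' σ
    have hjc : (Nat.card KM).Coprime j := (hj.coprime_dvd_right ((Subgroup.card_subgroup_dvd_card KM).trans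
      (Subgroup.card_subgroup_dvd_card M))).symm
    have hzj : z₀ ^ j ∉ D' := fun hh => hz₀D (by
      obtain ⟨i, hi⟩ := exists_pow_eq_self_of_coprime (x := z₀) (n := j)
        (hjc.symm.coprime_dvd_right (orderOf_dvd_natCard z₀))
      rw [← hi]; exact pow_mem hh i)
    rw [hu, hc, hconst z₀ (z₀ ^ j) hz₀D hzj]
    simp only [u, map_mul, map_inv₀, map_natCast, map_sum, cosetAvg]
    congr 1
    rw [Finset.sum_congr rfl fun (v : D') _ => show σ (val ((v : KM) * z₀)) = f (((v : KM) * z₀) ^ j) by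
      show σ _ = e₀ _
      rw [galois_apply_char (isCharacter_of_irr heirr) _ σ hjσ]; simp]
    let Φ : D' → D' := fun v => ⟨((v : KM) * z₀) ^ j * (z₀ ^ j)⁻¹, by
      rw [← QuotientGroup.eq_one_iff, QuotientGroup.mk_mul, QuotientGroup.mk_inv, QuotientGroup.mk_pow,
        QuotientGroup.mk_pow, QuotientGroup.mk_mul, (QuotientGroup.eq_one_iff _).mpr v.2, one_mul, mul_inv_cancel]⟩
    have hΦ : Function.Injective Φ := fun a b e1 => Subtype.ext (mul_right_cancel
      ((Nat.Coprime.pow_left_bijective hjc).1 (mul_right_cancel (congrArg Subtype.val e1))))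
    refine Fintype.sum_bijective Φ ⟨hΦ, Finite.surjective_of_injective hΦ⟩ _ _ fun v => ?_
    show f _ = f (((v : KM) * z₀) ^ j * (z₀ ^ j)⁻¹ * z₀ ^ j)
    rw [inv_mul_cancel_right]
  -- the congruence
  set ω := 1 - Complex.exp (2 * Real.pi * Complex.I / p) with hω
  have hωp : ∃ w : ℂ, IsIntegral ℤ w ∧ (p : ℂ) = ω * w := by
    have hprim := Complex.isPrimitiveRoot_exp p d.hp.1.ne_zero
    refine ⟨∏ i ∈ (Finset.range (p - 1)).erase 0, (1 - Complex.exp (2 * Real.pi * Complex.I / p) ^ (i + 1)),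
      IsIntegral.prod _ fun i _ => isIntegral_one.sub ((hprim.isIntegral d.hp.1.pos).pow _), ?_⟩
    obtain ⟨n, hn⟩ : ∃ n, p = n + 1 := ⟨p - 1, by have := d.hp.1.two_le; omega⟩
    have hpos : 0 ∈ Finset.range (p - 1) := Finset.mem_range.mpr (by have := d.hp.1.two_le; omega)
    subst hn
    have := hprim.prod_one_sub_pow_eq_order
    rw [Nat.add_sub_cancel] at hpos ⊢
    rw [← Finset.mul_prod_erase _ _ hpos, zero_add, pow_one] at this
    push_cast at this ⊢
    simp only [hω]
    push_cast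
    exact this.symm
  have hcong : ∀ (W : Type u) [Group W] [Fintype W] (χ : W → ℂ), IsGeneralizedCharacter W χ → ∀ a b : W,
      orderOf a = p → a * b = b * a → ∃ w : ℂ, IsIntegral ℤ w ∧ χ (a * b) - χ b = ω * w :=
    fun W _ _ χ hχ a b ha hab => Cfsg.Agent.S1494.result χ hχ p d.hp.1 a b ha hab
  have hζx : ∃ w : ℂ, IsIntegral ℤ w ∧ ζ ⟨x, hxL'⟩ - e = ω * w := by
    obtain ⟨w, hw, hw'⟩ := hcong L ζ (isGenChar_of_char (isCharacter_of_irr hζi)) ⟨x, hxL'⟩ 1
      (by rw [← Subgroup.orderOf_coe]; exact d.xord) (by rw [mul_one, one_mul])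
    exact ⟨w, hw, by rw [← hw', mul_one, hζe]⟩
  have hsumcong : ∃ w : ℂ, IsIntegral ℤ w ∧ (Nat.card D' : ℂ) * ((C : ℂ) - ε * e) = ω * w := by
    -- `x` permutes the coset
    have hDn : ∀ v : KM, v ∈ D' → ∀ g : M, (⟨g * v * g⁻¹, (inferInstance : KM.Normal).conj_mem v v.2 g⟩ : KM) ∈ D' :=
      fun v hv g => by
        have := Subgroup.map_commutator (⊤ : Subgroup KM) ⊤ (MulAut.conjNormal g : KM ≃* KM).toMonoidHom
        rw [Subgroup.map_top_of_surjective _ (MulEquiv.surjective _)] at this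
        exact this.le ⟨v, hv, Subtype.ext (by simp [MulAut.conjNormal_apply])⟩
    set xM : M := ⟨x, hxM⟩
    have hxo : orderOf xM = p := by rw [← Subgroup.orderOf_coe]; exact d.xord
    letI : MulAction (zpowers xM) D' :=
      { smul := fun g v => ⟨⟨(g : M) * (v : KM) * (g : M)⁻¹, (inferInstance : KM.Normal).conj_mem _ v.1.2 g⟩,
          hDn _ v.2 g⟩
        one_smul := fun v => Subtype.ext (Subtype.ext (show (1 : M) * (v : KM) * (1 : M)⁻¹ = (v : KM) by group))
        mul_smul := fun g g' v => Subtype.ext (Subtype.ext (show ((g : M) * g') * (v : KM) * ((g : M) * g')⁻¹ =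
          (g : M) * ((g' : M) * (v : KM) * (g' : M)⁻¹) * (g : M)⁻¹ by group)) }
    let F : D' → ℂ := fun v => f ((v : KM) * z₀)
    have hzx' : xM * (z₀ : M) = (z₀ : M) * xM := Subtype.ext d.zx
    have hF : ∀ (g : zpowers xM) (v : D'), F (g • v) = F v := fun g v => by
      obtain ⟨i, hi⟩ := Subgroup.mem_zpowers_iff.mp g.2
      show e₀ ((((g : M) * (v : KM) * (g : M)⁻¹) * (z₀ : M) : M) : G) = e₀ ((((v : KM) : M) * (z₀ : M) : M) : G)
      have hgz : (g : M) * (z₀ : M) * (g : M)⁻¹ = (z₀ : M) := by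
        rw [← hi, ((show Commute xM (z₀ : M) from hzx').zpow_left i).eq, mul_inv_cancel_right]
      rw [show (g : M) * (v : KM) * (g : M)⁻¹ * (z₀ : M) = (g : M) * ((v : KM) * (z₀ : M)) * (g : M)⁻¹ by
        conv_lhs => rw [← hgz]
        group]
      exact he₀c _ _
    have hpg : IsPGroup p (zpowers xM) := isPGroup_of_card (by rw [Nat.card_zpowers, hxo])
    set Fix := Finset.univ.filter fun v : D' => ∀ g : zpowers xM, g • v = v with hFix
    have hFint : ∀ v, IsIntegral ℤ (F v) := fun v => isIntegral_of_char hfc _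
    have hmain : ∀ T : Finset D', (∀ g : zpowers xM, ∀ v ∈ T, g • v ∈ T) → (∀ v ∈ T, v ∉ Fix) →
        ∃ w : ℂ, IsIntegral ℤ w ∧ ∑ v ∈ T, F v = (p : ℂ) * w := by
      intro T
      induction T using Finset.strongInduction with
      | _ T ih =>
      intro hTc hTf
      obtain rfl | ⟨v₀, hv₀⟩ := T.eq_empty_or_nonempty
      · exact ⟨0, isIntegral_zero, by simp⟩
      set O := (MulAction.orbit (zpowers xM) v₀).toFinset with hO
      have hOT : O ⊆ T := fun v hv => by
        obtain ⟨g, rfl⟩ := Set.mem_toFinset.mp hv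
        exact hTc g v₀ hv₀
      have hOc : O.card = p := by
        obtain ⟨n, hn⟩ := hpg.card_orbit v₀
        have h1 : Nat.card (MulAction.orbit (zpowers xM) v₀) ∣ Nat.card (zpowers xM) :=
          (dvd_of_eq (Nat.card_congr (MulAction.orbitEquivQuotientStabilizer (zpowers xM) v₀))).trans
            (Subgroup.index_dvd_card _)
        rw [Nat.card_zpowers, hxo, Nat.dvd_prime d.hp.1] at h1
        rw [hO, Set.toFinset_card, ← Nat.card_eq_fintype_card]
        refine h1.resolve_left fun h1' => hTf v₀ hv₀ (Finset.mem_filter.mpr ⟨Finset.mem_univ _, fun g => ?_⟩)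
        obtain ⟨⟨b, hb⟩, hall⟩ := Nat.card_eq_one_iff_exists.mp h1'
        have e1 := hall ⟨g • v₀, g, rfl⟩
        have e2 := hall ⟨v₀, MulAction.mem_orbit_self v₀⟩
        exact congrArg Subtype.val (e1.trans e2.symm)
      obtain ⟨w, hw, hw'⟩ := ih (T \ O) (Finset.sdiff_ssubset hOT ⟨v₀, Set.mem_toFinset.mpr (MulAction.mem_orbit_self v₀)⟩)
        (fun g v hv => by
          obtain ⟨hvT, hvO⟩ := Finset.mem_sdiff.mp hv
          refine Finset.mem_sdiff.mpr ⟨hTc g v hvT, fun hh => hvO ?_⟩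
          obtain ⟨g', hg'⟩ := Set.mem_toFinset.mp hh
          exact Set.mem_toFinset.mpr ⟨g⁻¹ * g', by
            show (g⁻¹ * g') • v₀ = v
            rw [mul_smul, show g' • v₀ = g • v from hg', inv_smul_smul]⟩)
        (fun v hv => hTf v (Finset.sdiff_subset hv))
      refine ⟨w + F v₀, hw.add (hFint v₀), ?_⟩
      rw [← Finset.sum_sdiff hOT, hw', mul_add, Finset.sum_congr rfl (g := fun _ => F v₀) fun v hv => by
        obtain ⟨g, rfl⟩ := Set.mem_toFinset.mp hv
        exact hF g v₀, Finset.sum_const, hOc, nsmul_eq_mul]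
    obtain ⟨w₁, hw₁, hw₁'⟩ := hmain (Finset.univ \ Fix) (fun g v hv => by
      obtain ⟨-, hvF⟩ := Finset.mem_sdiff.mp hv
      refine Finset.mem_sdiff.mpr ⟨Finset.mem_univ _, fun hh => hvF (Finset.mem_filter.mpr ⟨Finset.mem_univ _, ?_⟩)⟩
      have h' := (Finset.mem_filter.mp hh).2
      have hv' : v = g • v := by
        have := h' g⁻¹
        rwa [inv_smul_smul] at this
      rw [hv']; exact h') (fun v hv => (Finset.mem_sdiff.mp hv).2)
    have hfixv : ∀ v ∈ Fix, ∃ w : ℂ, IsIntegral ℤ w ∧ F v - ε * e = ω * w := by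
      intro v hv
      have hgv := (Finset.mem_filter.mp hv).2 ⟨xM, mem_zpowers xM⟩
      have hvx : x * ((v : KM) : M) = (((v : KM) : M) : G) * x := by
        have := congrArg (fun t : D' => (((t : KM) : M) : G)) hgv
        exact mul_inv_eq_iff_eq_mul.mp (show x * (((v : KM) : M) : G) * x⁻¹ = (((v : KM) : M) : G) from this)
      set y := (((v : KM) : M) : G) * z with hy
      have hyK : y ∈ K := K.mul_mem (v : KM).2 d.zM
      have hxy : x * y = y * x := by rw [hy, ← mul_assoc, hvx, mul_assoc, d.zx, ← mul_assoc]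
      obtain ⟨w, hw, hw'⟩ := hcong G e₀ (isGenChar_of_char (isCharacter_of_irr heirr)) x y d.xord hxy
      obtain ⟨w', hw2, hw2'⟩ := hζx
      have hval : e₀ (x * y) = ε * ζ ⟨x, hxL'⟩ := by
        rw [apply_mul_eq hG hM d.κM houtM hxM hxs hyK hxy d.zM d.z_ne d.zx, ← hex, hηe x, ← mul_assoc, hεε, one_mul]
      refine ⟨ε * w' - w, (IsIntegral.mul (by rcases hε with h | h <;> rw [h] <;>
        first | exact isIntegral_one | exact isIntegral_one.neg) hw2).sub hw, ?_⟩
      show e₀ y - ε * e = _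
      linear_combination ε * hw2' - hw' + hval
    choose! wF hwF hwF' using hfixv
    obtain ⟨wp, hwp, hwp'⟩ := hωp
    have hcardmod : (p : ℤ) ∣ (Nat.card D' : ℤ) - Fix.card := by
      have h1 := hpg.card_modEq_card_fixedPoints D'
      have h2 : Nat.card (MulAction.fixedPoints (zpowers xM) D') = Fix.card := by
        rw [Nat.card_eq_fintype_card, ← Set.toFinset_card]
        congr 1
        ext v
        simp [hFix, MulAction.mem_fixedPoints]
      rw [h2] at h1
      exact Nat.modEq_iff_dvd.mp h1.symm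
    obtain ⟨j, hj⟩ := hcardmod
    refine ⟨wp * w₁ + ∑ v ∈ Fix, wF v - wp * (j : ℂ) * (ε * e), ((hwp.mul hw₁).add (IsIntegral.sum _ hwF)).sub
      ((hwp.mul ((Algebra.IsIntegral.isIntegral (R := ℤ) j).map (Int.castRingHom ℂ).toIntAlgHom)).mul
        (IsIntegral.mul (by rcases hε with h | h <;> rw [h] <;> first | exact isIntegral_one | exact isIntegral_one.neg)
          (show IsIntegral ℤ (e : ℂ) by simpa using isIntegral_algebraMap (R := ℤ) (A := ℂ) (x := (e : ℤ))))), ?_⟩
    have hsum : (Nat.card D' : ℂ) * (C : ℂ) = ∑ v ∈ Finset.univ \ Fix, F v + ∑ v ∈ Fix, F v := by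
      rw [Finset.sum_sdiff (Finset.subset_univ _), ← hC, hc, cosetAvg, ← mul_assoc,
        mul_inv_cancel₀ (Nat.cast_ne_zero.mpr Nat.card_pos.ne'), one_mul]
    have hj' : (Nat.card D' : ℂ) - (Fix.card : ℂ) = (p : ℂ) * (j : ℂ) := by exact_mod_cast hj
    have hFs : ∑ v ∈ Fix, F v = (Fix.card : ℂ) * (ε * e) + ω * ∑ v ∈ Fix, wF v := by
      rw [Finset.mul_sum, ← Finset.sum_congr rfl hwF', Finset.sum_sub_distrib, Finset.sum_const, nsmul_eq_mul]
      ring
    linear_combination hsum + hw₁' + hFs - (ε * e) * hj' + (w₁ - (j : ℂ) * (ε * e)) * hwp'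
  obtain ⟨εz, hεz, hεz'⟩ : ∃ εz : ℤ, ε = (εz : ℂ) ∧ (εz = 1 ∨ εz = -1) := by
    rcases hε with h | h
    · exact ⟨1, by simp [h], Or.inl rfl⟩
    · exact ⟨-1, by simp [h], Or.inr rfl⟩
  obtain ⟨w, hw, hw'⟩ := hsumcong
  have hdvd : (p : ℤ) ∣ (Nat.card D' : ℤ) * (C - εz * e) :=
    Cfsg.Agent.S1495.result p d.hp.1 _ w hw (by push_cast; rw [← hεz]; exact hw')
  have hKMcard : Nat.card KM = Nat.card K := Nat.card_congr (Subgroup.subgroupOfEquivOfLe hKM).toEquiv
  have hpD : ¬ p ∣ Nat.card D' := fun hd => d.not_dvd hG (hKMcard ▸ hd.trans (Subgroup.card_subgroup_dvd_card D'))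
  have hdvd' : (p : ℤ) ∣ C - εz * e := ((Nat.prime_iff_prime_int.mp d.hp.1).dvd_or_dvd hdvd).resolve_left
    fun hh => hpD (Int.natCast_dvd_natCast.mp hh)
  have hC2 : ((e : ℝ) - 1) ^ 2 ≤ (C : ℝ) ^ 2 := by
    have hp0 : (2 : ℤ) * e ≤ p + 1 := by exact_mod_cast hbound
    have h1 : (e : ℤ) - 1 ≤ |C| := by
      obtain ⟨j, hj⟩ := hdvd'
      by_contra hlt
      push Not at hlt
      obtain ⟨hlo, hhi⟩ := abs_lt.mp hlt
      have : j = 0 := by
        rcases hεz' with rfl | rfl <;> nlinarith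
      subst this
      rcases hεz' with rfl | rfl <;> omega
    have h3 : ((e : ℤ) : ℝ) - 1 ≤ ((|C| : ℤ) : ℝ) := by exact_mod_cast h1
    push_cast at h3
    have he1 : (1 : ℝ) ≤ (e : ℝ) := by exact_mod_cast (by omega : 1 ≤ e)
    rw [← sq_abs (C : ℝ)]
    exact pow_le_pow_left₀ (by linarith) h3 2
  -- the part of the norm on `M_σ`
  set k := Nat.card KM with hkdef
  set k' := Nat.card D' with hk'def
  have ht : 5 ≤ D'.index := by
    have h5 := d.five_le_relIndex hG
    have e1 : ⁅sigmaCore M, sigmaCore M⁆.relIndex (sigmaCore M) = D'.index := by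
      have e2 := Subgroup.relIndex_map_map_of_injective (f := M.subtype.comp KM.subtype) D' ⊤
        (M.subtype_injective.comp KM.subtype_injective)
      rw [Subgroup.relIndex_top_right, ← Subgroup.map_map, ← Subgroup.map_map, hD'def, Subgroup.map_subtype_commutator,
        ← MonoidHom.range_eq_map, Subgroup.range_subtype, Subgroup.map_commutator,
        Subgroup.map_subgroupOf_eq_of_le hKM] at e2
      exact e2
    exact e1 ▸ h5
  have hsumM : ((k : ℝ) - k') * (C : ℝ) ^ 2 ≤ ∑ a : M, Complex.normSq (dadeRho ((K : Set G) \ {1}) M (supportR M) η a) := by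
    set T := Finset.univ.filter fun q : KM => q ∉ D' with hT
    have hTcard : (T.card : ℝ) = (k : ℝ) - k' := by
      have h1 := Finset.card_filter_add_card_filter_not (s := (Finset.univ : Finset KM)) (fun q => q ∈ D')
      have h2 : (Finset.univ.filter fun q : KM => q ∈ D').card = k' := by
        rw [← Fintype.card_subtype, hk'def, Nat.card_eq_fintype_card]
      rw [h2, Finset.card_univ, ← Nat.card_eq_fintype_card] at h1
      have : ((k' + T.card : ℕ) : ℝ) = (k : ℝ) := by exact_mod_cast h1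
      push_cast at this
      linarith
    have hSum : ∑ q ∈ T, f q = (T.card : ℂ) * (C : ℂ) := by
      have hcomm : (k' : ℂ) * ∑ q ∈ T, f q = (k' : ℂ) * ((T.card : ℂ) * (C : ℂ)) := by
        have hinv : ∀ v : D', ∑ q ∈ T, f ((v : KM) * q) = ∑ q ∈ T, f q := fun v =>
          Finset.sum_nbij' (fun q => (v : KM) * q) (fun q => (v : KM)⁻¹ * q)
            (fun q hq => by simpa [hT, Subgroup.mul_mem_cancel_left _ v.2] using hq)
            (fun q hq => by simpa [hT, Subgroup.mul_mem_cancel_left _ (inv_mem v.2)] using hq)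
            (fun q _ => inv_mul_cancel_left _ _) (fun q _ => mul_inv_cancel_left _ _) (fun q _ => rfl)
        calc (k' : ℂ) * ∑ q ∈ T, f q = ∑ v : D', ∑ q ∈ T, f ((v : KM) * q) := by
              rw [Finset.sum_congr rfl fun v _ => hinv v, Finset.sum_const, Finset.card_univ, nsmul_eq_mul,
                hk'def, Nat.card_eq_fintype_card]
          _ = ∑ q ∈ T, ∑ v : D', f ((v : KM) * q) := Finset.sum_comm
          _ = ∑ q ∈ T, (k' : ℂ) * (C : ℂ) := Finset.sum_congr rfl fun q hq => by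
              rw [← hC, hc, hconst z₀ q hz₀D (Finset.mem_filter.mp hq).2, cosetAvg, hk'def, ← mul_assoc,
                mul_inv_cancel₀ (Nat.cast_ne_zero.mpr Nat.card_pos.ne'), one_mul]
          _ = _ := by rw [Finset.sum_const, nsmul_eq_mul]; ring
      exact mul_left_cancel₀ (Nat.cast_ne_zero.mpr Nat.card_pos.ne') hcomm
    have hsq : ∑ q ∈ T, Complex.normSq (f q) = ∑ q ∈ T, Complex.normSq (f q - C) + (T.card : ℝ) * (C : ℝ) ^ 2 := by
      have hre : ∑ q ∈ T, (f q).re = (T.card : ℝ) * C := by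
        have := congrArg Complex.re hSum
        simpa [Complex.re_sum] using this
      rw [Finset.sum_congr rfl fun q _ => show Complex.normSq (f q - C) =
          Complex.normSq (f q) + ((C : ℝ) ^ 2 - 2 * (C : ℝ) * (f q).re) by
        simp [Complex.normSq_apply]; ring, Finset.sum_add_distrib, Finset.sum_sub_distrib, Finset.sum_const,
        nsmul_eq_mul, ← Finset.mul_sum, hre]
      ring
    rw [← hTcard]
    refine le_trans (le_trans (le_add_of_nonneg_left (Finset.sum_nonneg fun q _ => Complex.normSq_nonneg _)) hsq.ge) ?_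
    rw [← Finset.sum_map T ⟨Subtype.val, Subtype.val_injective⟩
      (fun a : M => Complex.normSq (dadeRho ((K : Set G) \ {1}) M (supportR M) η a)) |>.trans
        (Finset.sum_congr rfl fun q hq => ?_)]
    · exact Finset.sum_le_sum_of_subset_of_nonneg (Finset.subset_univ _) fun _ _ _ => Complex.normSq_nonneg _
    · have hqne : q ≠ 1 := fun e1 => (Finset.mem_filter.mp hq).2 (e1 ▸ one_mem _)
      have hqA : ((q : M) : G) ∈ (K : Set G) \ {1} := ⟨q.2, fun e1 => hqne (Subtype.ext (Subtype.ext e1))⟩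
      show Complex.normSq (dadeRho _ M _ η (q : M)) = Complex.normSq (e₀ ((q : M) : G))
      rw [show η = ε • e₀ from funext hηe, dadeRho_smul, Pi.smul_apply, hρM _ hqA, smul_eq_mul, map_mul,
        show Complex.normSq ε = 1 by rcases hε with h | h <;> rw [h] <;> simp, one_mul]
  -- the final inequality
  set uu := Nat.card ↥(L ⊓ M) with huu
  have hMcard : Nat.card M = uu * k := by
    rw [hKMcard, huu]
    exact card_complIn d.sov.compl
  have huh : uu ≤ h := Nat.le_of_dvd Nat.card_pos (Subgroup.card_dvd_of_le (d.meet_le hG hfr))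
  have hkk : k = k' * D'.index := (D'.card_mul_index).symm
  rw [hm0, map_zero, Complex.zero_re, mul_zero, mul_zero, sub_zero, add_zero] at hρLsum
  have hfinal : ((k : ℝ) - k') * (C : ℝ) ^ 2 / ((uu : ℝ) * k) ≤ (e : ℝ) / h := by
    have h1 : ((k : ℝ) - k') * (C : ℝ) ^ 2 / ((uu : ℝ) * k) ≤
        meanSq (dadeRho ((K : Set G) \ {1}) M (supportR M) η) := by
      rw [meanSq, ← Nat.card_eq_fintype_card, hMcard, Nat.cast_mul, div_eq_inv_mul]
      exact mul_le_mul_of_nonneg_left hsumM (by positivity)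
    rw [hρLsum] at htwo
    have hh1 : (0 : ℝ) < h := Nat.cast_pos.mpr Nat.card_pos
    have he1 : (0 : ℝ) < e := by exact_mod_cast (by omega : 0 < e)
    have h2 : ((h : ℝ) * e - (e : ℝ) ^ 2) / ((h : ℝ) * e) = 1 - (e : ℝ) / h := by
      field_simp
    rw [h2] at htwo
    linarith
  have hk0 : (0 : ℝ) < k := Nat.cast_pos.mpr Nat.card_pos
  have hu0 : (0 : ℝ) < uu := Nat.cast_pos.mpr Nat.card_pos
  have hh0 : (0 : ℝ) < h := Nat.cast_pos.mpr Nat.card_pos
  rw [div_le_div_iff₀ (mul_pos hu0 hk0) hh0] at hfinal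
  have h5 : 5 * (k' : ℝ) ≤ k := by
    have : 5 * k' ≤ k := by rw [hkk]; nlinarith
    exact_mod_cast this
  have he3' : (3 : ℝ) ≤ e := by exact_mod_cast he3
  have huh' : (uu : ℝ) ≤ h := by exact_mod_cast huh
  have h6 : (4 / 5 : ℝ) * k * ((e : ℝ) - 1) ^ 2 * h ≤ (e : ℝ) * ((uu : ℝ) * k) := by
    refine le_trans ?_ hfinal
    have : (4 / 5 : ℝ) * k ≤ (k : ℝ) - k' := by linarith
    exact mul_le_mul_of_nonneg_right (mul_le_mul this hC2 (sq_nonneg _) (by linarith)) hh0.le
  have h7 : (e : ℝ) * ((uu : ℝ) * k) ≤ (e : ℝ) * ((h : ℝ) * k) := by gcongr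
  have h8 : (4 / 5 : ℝ) * ((e : ℝ) - 1) ^ 2 ≤ (e : ℝ) := by
    refine le_of_mul_le_mul_right (a := (k : ℝ) * h) ?_ (mul_pos hk0 hh0)
    calc _ = (4 / 5 : ℝ) * k * ((e : ℝ) - 1) ^ 2 * h := by ring
      _ ≤ _ := h6.trans h7
      _ = _ := by ring
  nlinarith

/-- **(12.16)**, given that no maximal subgroup with `κ ≠ ∅` has an element whose centraliser leads to one with
`κ = ∅`. -/
theorem frobenius_of_over (hover : ∀ L M : Subgroup G, IsCoatom L → (kappa L).Nonempty → ∀ x ∈ sigmaCore L,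
      (orderOf x).Prime → SigmaOver L x M → kappa M = ∅ → False)
    {M : Subgroup G} (hM : IsCoatom M) (hκ : kappa M = ∅) : IsCoreFrobenius M := by
  classical
  by_contra hf
  obtain ⟨q, hq⟩ := exists_offending hG hM hκ hf
  have hex : ∃ q, ∃ N : Subgroup G, Offending N q := ⟨q, M, hq⟩
  obtain ⟨N, hN⟩ := Nat.find_spec hex
  obtain ⟨L, A, x, z, d⟩ := exists_pairData hG hN
  by_cases hκL : kappa L = ∅
  · exact false_of_pairData hG d hκL (d.frobenius hG hκL fun N' q' h' => Nat.find_min' hex ⟨N', h'⟩)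
  · exact hover L _ d.hL (Set.nonempty_iff_ne_empty.mpr hκL) x (d.AL d.xA) (d.xord ▸ d.hp.1) d.sov d.κM

/-- **(12.17)** Some maximal subgroup has `κ ≠ ∅`. -/
theorem exists_kappa_nonempty : ∃ M : Subgroup G, IsCoatom M ∧ (kappa M).Nonempty := by
  by_contra hne
  push Not at hne
  obtain ⟨M, hM, hk⟩ := not_all_kappa_empty hG fun M hM hκ =>
    frobenius_of_over hG (fun L _ hL hk => absurd hk (Set.not_nonempty_iff_eq_empty.mpr (hne L hL))) hM hκ
  exact hk.ne_empty (hne M hM)

end CfsgLib.OddOrder.S12
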