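import Cfsg.Agent.Lib.MinSimpleOdd.KappaPair
import Cfsg.Agent.Lib.MinSimpleOdd.NonabelianTau
import Cfsg.Agent.Lib.MinSimpleOdd.SigmaElement
import Cfsg.Agent.Lib.MinSimpleOdd.FittingRankThree
import Cfsg.Agent.S1372
import Cfsg.Agent.S1382
import Cfsg.Agent.S1383
import Cfsg.Agent.S1355

/-!
Peterfalvi (12.16), the case `κ(L) ≠ ∅` (blueprint S12, 2.7): the group `L` over `x` is not of type II-V, given
that type V subgroups have a TI kernel (10.10) and the shape of `L_σ` for types III, IV (11.9).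
-/

set_option autoImplicit false
set_option linter.unusedSectionVars false
set_option linter.style.haveILetI false
set_option maxHeartbeats 1000000

namespace CfsgLib.OddOrder.S12

open Subgroup Cfsg CfsgLib.MinSimpleOdd
open scoped Pointwise

universe u
variable {G : Type u} [Group G] [Finite G]

/-- The shape of `L_σ` for a subgroup of type III or IV (11.9): `L_σ = H U₁` with `H` elementary abelian of order
`r ^ n`, `n ≥ 3`, and `U₁` cyclic of order prime to `r`, normalising `H`. -/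
def HasThreeFourShape (L : Subgroup G) : Prop :=
  ∃ (r n : ℕ) (H U₁ : Subgroup G), r.Prime ∧ 3 ≤ n ∧ sigmaCore L = H ⊔ U₁ ∧ IsElementaryAbelian r H ∧
    Nat.card H = r ^ n ∧ IsCyclic U₁ ∧ ¬ r ∣ Nat.card U₁ ∧ U₁ ≤ normalizer (H : Set G)

theorem false_of_shape {L M : Subgroup G} (hG : IsMinSimpleOddOrder G) (hL : IsCoatom L) {x : G}
    (hx : x ∈ sigmaCore L) (hxo : (orderOf x).Prime) (hov : SigmaOver L x M) (h : HasThreeFourShape L) : False := by
  classical
  obtain ⟨r, n, H, U₁, hr, hn, hS, ⟨hHc, hHe⟩, hHn, hUc, hrU, hUH⟩ := h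
  set p := orderOf x
  haveI := Fact.mk hxo
  have hτ : p ∈ tau2 M := hov.tau2 p hxo dvd_rfl
  have hcop : ∀ z ∈ H, z ∈ U₁ → z = 1 := fun z hzH hzU => orderOf_eq_one_iff.mp <| Nat.eq_one_of_dvd_coprimes
    ((hr.coprime_iff_not_dvd.mpr hrU)) (orderOf_dvd_of_pow_eq_one (hHe z hzH)) (Subgroup.orderOf_dvd_natCard _ hzU)
  have hHn' : ∀ u ∈ U₁, ∀ a ∈ H, u * a * u⁻¹ ∈ H := fun u hu a ha => (Subgroup.mem_normalizer_iff.mp (hUH hu) a).mp ha
  have hpow : ∀ (k : ℕ), ∀ a ∈ H, ∀ u ∈ U₁, ∃ b ∈ H, (a * u) ^ k = b * u ^ k := by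
    intro k
    induction k with
    | zero => exact fun a _ u _ => ⟨1, one_mem _, by simp⟩
    | succ k ih =>
      intro a ha u hu
      obtain ⟨b, hb, e⟩ := ih a ha u hu
      refine ⟨b * (u ^ k * a * (u ^ k)⁻¹), H.mul_mem hb (hHn' _ (U₁.pow_mem hu k) a ha), ?_⟩
      rw [pow_succ, e, pow_succ]; group
  have hdec : ∀ a ∈ sigmaCore L, a ^ p = 1 → ∃ h ∈ H, ∃ u ∈ U₁, h * u = a ∧ u ^ p = 1 := fun a ha hap => by
    obtain ⟨h, hh, u, hu, e⟩ := CfsgLib.mem_sup_of_le_normalizer hUH (hS ▸ ha)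
    refine ⟨h, hh, u, hu, e, ?_⟩
    obtain ⟨b, hb, e'⟩ := hpow p h hh u hu
    rw [e, hap] at e'
    have hmem : u ^ p ∈ H := by rw [eq_inv_of_mul_eq_one_right e'.symm]; exact H.inv_mem hb
    exact hcop _ hmem (U₁.pow_mem hu p)
  by_cases hpr : p = r
  · -- `x ∈ H`, an abelian subgroup of rank at least three
    obtain ⟨h, hh, u, hu, e, hup⟩ := hdec x hx (pow_orderOf_eq_one x)
    have hu1 : u = 1 := orderOf_eq_one_iff.mp <| Nat.eq_one_of_dvd_coprimes (hr.coprime_iff_not_dvd.mpr hrU)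
      (hpr ▸ orderOf_dvd_of_pow_eq_one hup) (Subgroup.orderOf_dvd_natCard _ hu)
    have hxH : x ∈ H := by rw [← e, hu1, mul_one]; exact hh
    have hHM : H ≤ M := fun a ha => hov.le (Subgroup.mem_centralizer_singleton_iff.mpr
      (congrArg Subtype.val (hHc.is_comm.comm ⟨a, ha⟩ ⟨x, hxH⟩)))
    have hle := hτ.2.2.1 (H.subgroupOf M)
      ⟨⟨fun a b => Subtype.ext (Subtype.ext (by
        have e := congrArg (fun z : H => (z : G)) (hHc.is_comm.comm (⟨((a : M) : G), a.2⟩ : H) ⟨((b : M) : G), b.2⟩)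
        exact e))⟩⟩
      (fun a ha => Subtype.ext (by have := hHe _ ha; rw [hpr]; exact this))
    rw [Nat.card_congr (Subgroup.subgroupOfEquivOfLe hHM).toEquiv, hHn, hpr] at hle
    exact absurd hle (not_le.mpr (Nat.pow_lt_pow_right hr.one_lt (by omega)))
  · -- an elementary abelian subgroup of order `p²` embeds in the cyclic group `U₁`
    obtain ⟨A, hAE, ⟨hAc, hAe⟩, hA2⟩ := exists_elementary_in_complement hG hov.hN hov.compl hτ
    have hpσ : p ∈ sigma L := order_sigma hG hL hx p hxo dvd_rfl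
    have hAS : A ≤ sigmaCore L := fun a ha => mem_sigmaCore_of_order hG hL (hAE ha).1 fun q hq hd => by
      rw [(Nat.prime_dvd_prime_iff_eq hq hxo).mp (hd.trans (orderOf_dvd_of_pow_eq_one (hAe a ha)))]
      exact hpσ
    choose hc hch uc huc ec eup using fun a : A => hdec a (hAS a.2) (hAe a a.2)
    let f : A → {u : U₁ // u ^ p = 1} := fun a => ⟨⟨uc a, huc a⟩, Subtype.ext (eup a)⟩
    have hf : Function.Injective f := fun a b e => by
      have e' : uc a = uc b := congrArg (fun z : {u : U₁ // u ^ p = 1} => ((z : U₁) : G)) e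
      have hd : (a : G) * (b : G)⁻¹ ∈ H := by
        rw [← ec a, ← ec b, e']
        convert H.mul_mem (hch a) (H.inv_mem (hch b)) using 1
        group
      have hp1 : ((a : G) * (b : G)⁻¹) ^ p = 1 := hAe _ (A.mul_mem a.2 (A.inv_mem b.2))
      refine Subtype.ext (mul_inv_eq_one.mp (orderOf_eq_one_iff.mp ?_))
      exact Nat.eq_one_of_dvd_coprimes ((Nat.coprime_primes hxo hr).mpr hpr) (orderOf_dvd_of_pow_eq_one hp1)
        (orderOf_dvd_of_pow_eq_one (hHe _ hd))
    haveI := hUc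
    haveI := Fintype.ofFinite U₁
    have hle := Nat.card_le_card_of_injective f hf
    rw [hA2, Nat.card_eq_fintype_card, Fintype.card_subtype] at hle
    have h2 := IsCyclic.card_pow_eq_one_le (α := U₁) hxo.pos
    have h3 : p ^ 2 ≤ p := le_trans hle (by convert h2)
    have h4 : p * 2 ≤ p ^ 2 := by rw [sq]; exact Nat.mul_le_mul_left _ hxo.two_le
    have := hxo.pos
    omega

/-- **(12.16, case `κ(L) ≠ ∅`)**. -/
theorem not_kappa_over (hG : IsMinSimpleOddOrder G) {L M : Subgroup G} (hL : IsCoatom L) (hk : (kappa L).Nonempty)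
    {x : G} (hx : x ∈ sigmaCore L) (hxo : (orderOf x).Prime) (hov : SigmaOver L x M)
    (hV : IsOfTypeV L → IsTISubset (fittingHallOf L : Set G))
    (h34 : IsOfTypeIII L ∨ IsOfTypeIV L → HasThreeFourShape L) : False := by
  classical
  have hx1 : x ≠ 1 := fun e => hxo.ne_one (by rw [e, orderOf_one])
  have hxL : x ∈ L := piCoreOf_le _ _ hx
  have hnot : ¬ centralizer ({x} : Set G) ≤ L := fun hle => by
    have hLM := hov.uniq L hL hle
    exact sigmaCore_ne_bot hG hov.hN (by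
      rw [← hov.bot, ← hLM, inf_eq_left.mpr (show sigmaCore L ≤ L from piCoreOf_le _ _)])
  obtain ⟨r, hr⟩ := hk
  obtain ⟨K, hK⟩ := CfsgLib.exists_isPiHallOf (kappa L) (M := L) (solvable_of_ne_top hG hL.1)
  have hK1 : K ≠ ⊥ := fun e => hK.2.2 r hr.1 hr (by rw [e, Subgroup.relIndex_bot_left]; exact hr.2.1)
  obtain ⟨T, P⟩ := (kappaData_of_hall hG hL hK hK1).exists_pair hG
  obtain ⟨U, hKU⟩ := exists_sigmaDecomposition hG hL P.cycK hK
  obtain ⟨hF0, hF1, hD1, hD2, -⟩ := Cfsg.Agent.S1355.result hG L hL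
  -- a TI set containing `x` with normaliser `L` contains `C(x)`
  have key : ∀ X : Subgroup G, IsTISubset (X : Set G) → x ∈ X → X ≠ ⊥ → X < L → L ≤ normalizer (X : Set G) →
      False := fun X hTI hxX hX hXL hn => hnot fun c hc => by
    have hN : normalizer (X : Set G) = L := by
      refine ((eq_or_lt_of_le hn).resolve_right fun h => ?_).symm
      exact normalizer_ne_top hG hX (ne_top_of_lt hXL) (hL.2 _ h)
    by_contra hcL
    have hcn : c ∉ normalizer (X : Set G) := by rw [hN]; exact hcL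
    refine hx1 (hTI c hcn x hxX ?_)
    rw [show c * x * c⁻¹ = x from mul_inv_eq_iff_eq_mul.mpr (Subgroup.mem_centralizer_singleton_iff.mp hc)]
    exact hxX
  by_cases hU : U = ⊥
  · by_cases hF : fittingHallOf L = sigmaCore L
    · refine key _ (hV ((Cfsg.Agent.S1383.result hG L hL K U hKU).mpr ⟨hK1, hU, hF⟩)) (hF.ge hx) hF0
        (lt_of_le_of_lt (hF1.trans hD1) hD2) ?_
      rw [hF]
      exact le_normalizer_sigmaCore hG hL le_rfl
    · exact false_of_shape hG hL hx hxo hov (h34 ((Cfsg.Agent.S1382.result hG L hL K U hKU).mpr ⟨hK1, hU, hF⟩))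
  · obtain ⟨-, hTI, hle⟩ := Cfsg.Agent.S1372.result hG L hL K U hKU hK1 hU
    have hFL : fittingOf L ≤ L := Subgroup.map_subtype_le _
    refine key _ hTI (hle hx) (fun e => sigmaCore_ne_bot hG hL (le_bot_iff.mp (e ▸ hle))) ?_ ?_
    · refine lt_of_le_of_ne hFL fun e => ?_
      have hnil : Group.IsNilpotent ↥(fittingOf L) := fittingOf_nilpotent L
      haveI : Group.IsNilpotent ↥L := e ▸ hnil
      haveI : Group.IsNilpotent ↥(⊤ : Subgroup L) := Group.nilpotent_of_mulEquiv Subgroup.topEquiv.symm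
      have htop : L ≤ fittingHallOf L := fun a ha =>
        ⟨⟨a, ha⟩, (le_sSup (show (⊤ : Subgroup L) ∈ {N : Subgroup L | N.Normal ∧ Group.IsNilpotent N ∧
            (Nat.card N).Coprime N.index} from ⟨inferInstance, inferInstance, by simp⟩) :
            (⊤ : Subgroup L) ≤ fittingHall L) (Subgroup.mem_top _), rfl⟩
      exact lt_irrefl L (lt_of_le_of_lt (htop.trans (hF1.trans hD1)) hD2)
    · exact le_normalizer_fittingOf L

end CfsgLib.OddOrder.S12
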