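import Cfsg.Agent.Lib.MinSimpleOdd.FrobeniusType

/-!
Section 12: small facts on fixed-point-free automorphisms used for the local configuration of (12.16).
-/

set_option autoImplicit false
set_option linter.unusedSectionVars false
set_option linter.style.haveILetI false

namespace CfsgLib.OddOrder.S12

open Subgroup CfsgLib.MinSimpleOdd

universe u

/-- A nonabelian group of order `p q` is not fixed-point-free on an abelian group of order prime to `p`. -/
theorem no_fpf_pq {V : Type u} [CommGroup V] (β ζ : MulAut V) {p q : ℕ} (hq : 0 < q) (hβ : β ^ p = 1)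
    (hζ : ζ ^ q = 1) (hc : ∀ i : ℕ, Commute β (ζ ^ i * β⁻¹ * (ζ ^ i)⁻¹))
    (hfree : ∀ v, ζ v = v → v = 1)
    (hfree' : ∀ i : ℕ, 0 < i → i < q → ∀ v, (β * (ζ ^ i * β⁻¹ * (ζ ^ i)⁻¹)) v = v → v = 1) (v : V) :
    v ^ p = 1 := by
  have hrow : ∀ c : ℕ, ∏ i ∈ Finset.range q, (β ^ c * ζ ^ i * (β ^ c)⁻¹) v = 1 := fun c => by
    have h := prod_pow_eq_one ζ hζ hfree ((β ^ c)⁻¹ v)
    have h' := congrArg (β ^ c) h
    rw [map_prod, map_one] at h'
    rw [← h']
    exact Finset.prod_congr rfl fun i _ => by simp [MulAut.mul_apply]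
  have hall : ∏ c ∈ Finset.range p, ∏ i ∈ Finset.range q, (β ^ c * ζ ^ i * (β ^ c)⁻¹) v = 1 :=
    Finset.prod_eq_one fun c _ => hrow c
  rw [Finset.prod_comm, ← Finset.prod_erase_mul _ _ (Finset.mem_range.mpr hq)] at hall
  rw [Finset.prod_eq_one (fun i hi => ?_), one_mul] at hall
  · simpa using hall
  obtain ⟨hi0, hiq⟩ := Finset.mem_erase.mp hi
  have hρ : ∀ c : ℕ, β ^ c * ζ ^ i * (β ^ c)⁻¹ = (β * (ζ ^ i * β⁻¹ * (ζ ^ i)⁻¹)) ^ c * ζ ^ i := fun c => by
    rw [(hc i).mul_pow, conj_pow, inv_pow]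
    group
  simp only [hρ, MulAut.mul_apply]
  refine prod_pow_eq_one _ ?_ (hfree' i (Nat.pos_of_ne_zero hi0) (Finset.mem_range.mp hiq)) _
  rw [(hc i).mul_pow, hβ, conj_pow, inv_pow, hβ]
  group

variable {V : Type u} [CommGroup V] [Finite V] {R : Subgroup (MulAut V)}

/-- A fixed-point-free group of automorphisms has order dividing `|V| - 1`. -/
theorem card_dvd_pred (hfree : ∀ f ∈ R, ∀ v : V, v ≠ 1 → f v = v → f = 1) {S : Set V} (h1 : (1 : V) ∉ S)
    (hS : ∀ f ∈ R, ∀ v ∈ S, f v ∈ S) : Nat.card R ∣ Nat.card S := by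
  classical
  letI : MulAction R S :=
    { smul := fun f v => ⟨(f : MulAut V) v, hS f f.2 v v.2⟩
      one_smul := fun v => Subtype.ext rfl
      mul_smul := fun f g v => Subtype.ext rfl }
  have hst : ∀ v : S, MulAction.stabilizer R v = ⊥ := fun v => by
    rw [Subgroup.eq_bot_iff_forall]
    intro f hf
    exact Subtype.ext (hfree f f.2 v (fun e => h1 (e ▸ v.2)) (congrArg Subtype.val hf))
  rw [Nat.card_congr (MulAction.selfEquivOrbitsQuotientProd hst), Nat.card_prod]
  exact Dvd.intro_left _ rfl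

variable {p : ℕ} [Fact p.Prime]

/-- An abelian fixed-point-free group of odd order on `C_p × C_p` moving some line freely has order at most
`(p + 1) / 2`. -/
theorem two_mul_card_le (hV : Nat.card V = p ^ 2) (hexp : ∀ v : V, v ^ p = 1) (hodd : Odd (Nat.card R))
    (hp2 : p ≠ 2) (hcomm : ∀ f ∈ R, ∀ g ∈ R, f * g = g * f)
    (hfree : ∀ f ∈ R, ∀ v : V, v ≠ 1 → f v = v → f = 1) {x : V} (hx : x ≠ 1)
    (hline : ∀ f ∈ R, f x ∈ zpowers x → f = 1) : 2 * Nat.card R ≤ p + 1 := by
  classical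
  have hp : p.Prime := Fact.out
  have hall : Nat.card R ∣ (p - 1) * (p + 1) := by
    have h := card_dvd_pred hfree (S := {v : V | v ≠ 1}) (by simp) fun f hf v hv e => hv (by
      rw [← map_one f] at e
      exact f.injective e)
    have hcard : Nat.card {v : V | v ≠ 1} = p ^ 2 - 1 := by
      haveI := Fintype.ofFinite V
      change Nat.card {v : V // v ≠ 1} = _
      rw [Nat.card_eq_fintype_card, Fintype.card_subtype_compl, ← Nat.card_eq_fintype_card, hV,
        Fintype.card_subtype_eq]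
    rw [hcard] at h
    rwa [mul_comm, ← Nat.sq_sub_sq, one_pow]
  obtain ⟨k, hk⟩ := hodd
  obtain ⟨j, hj⟩ : Odd p := hp.odd_of_ne_two hp2
  have hdvd2 : ∀ {m : ℕ}, Nat.card R ∣ m → Even m → m ≠ 0 → 2 * Nat.card R ≤ m := by
    intro m hm hev hm0
    refine Nat.le_of_dvd (Nat.pos_of_ne_zero hm0) (Nat.Coprime.mul_dvd_of_dvd_of_dvd ?_ hev.two_dvd hm)
    exact Nat.coprime_two_left.mpr ⟨k, hk⟩
  by_cases hgcd : (Nat.card R).Coprime (p - 1)
  · exact hdvd2 (hgcd.dvd_of_dvd_mul_left hall) ⟨j + 1, by omega⟩ (by omega)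
  obtain ⟨r, hr, hrR, hrp⟩ := Nat.Prime.not_coprime_iff_dvd.mp hgcd
  haveI := Fact.mk hr
  obtain ⟨⟨f, hfR⟩, hf⟩ := exists_prime_orderOf_dvd_card' r hrR
  have hf' : orderOf f = r := by rw [← hf, ← Subgroup.orderOf_coe]
  obtain ⟨u, hu⟩ := exists_prime_orderOf_dvd_card' (G := (ZMod p)ˣ) r
    (by rw [Nat.card_eq_fintype_card, ZMod.card_units]; exact hrp)
  set i := (u : ZMod p).val
  have hord : ∀ v : V, v ≠ 1 → orderOf v = p := fun v hv => orderOf_eq_prime (hexp v) hv
  have hpow : ∀ (v : V) (a b : ℕ), (a : ZMod p) = b → v ^ a = v ^ b := fun v a b h => by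
    rw [pow_eq_pow_iff_modEq]
    exact ((ZMod.natCast_eq_natCast_iff _ _ _).mp h).of_dvd (orderOf_dvd_of_pow_eq_one (hexp v))
  have hi : ∀ n : ℕ, ((i ^ n : ℕ) : ZMod p) = ((u ^ n : (ZMod p)ˣ) : ZMod p) := fun n => by
    simp [i, ZMod.natCast_zmod_val]
  have hir : ∀ v : V, v ^ i ^ r = v := fun v => by
    conv_rhs => rw [← pow_one v]
    refine hpow v _ _ ?_
    rw [hi, ← hu, pow_orderOf_eq_one]
    simp
  let sc : MulAut V :=
    { toFun := fun v => v ^ i
      invFun := fun v => v ^ i ^ (r - 1)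
      left_inv := fun v => by
        show (v ^ i) ^ i ^ (r - 1) = v
        rw [← pow_mul, ← pow_succ', show r - 1 + 1 = r from Nat.succ_pred_eq_of_pos hr.pos, hir]
      right_inv := fun v => by
        show (v ^ i ^ (r - 1)) ^ i = v
        rw [← pow_mul, ← pow_succ, show r - 1 + 1 = r from Nat.succ_pred_eq_of_pos hr.pos, hir]
      map_mul' := fun a b => mul_pow a b i }
  have hsc : ∀ (n : ℕ) (v : V), (sc ^ n) v = v ^ i ^ n := fun n => by
    induction n with
    | zero => intro v; simp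
    | succ n ih =>
      intro v
      rw [pow_succ', MulAut.mul_apply, ih]
      show (v ^ i ^ n) ^ i = _
      rw [← pow_mul, ← pow_succ]
  -- an eigenvector
  obtain ⟨a, ha, l, hl⟩ : ∃ a : V, a ≠ 1 ∧ ∃ l : ℕ, f a = a ^ l := by
    by_contra hno
    push Not at hno
    have hfr := exists_fixed_of_commuting (r := r) f sc hr (hf' ▸ pow_orderOf_eq_one f)
      (MulEquiv.ext fun v => by rw [hsc, hir]; rfl) (MulEquiv.ext fun v => by simp [sc, MulAut.mul_apply])
      (fun m n hmn v hv => ?_) x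
    · have h1 := orderOf_dvd_of_pow_eq_one hfr
      rw [hord x hx, Nat.prime_dvd_prime_iff_eq hp hr] at h1
      have := hp.two_le
      have := Nat.le_of_dvd (by omega) hrp
      omega
    by_contra hv1
    rw [MulAut.mul_apply, hsc] at hv
    by_cases hm : r ∣ m
    · have hn : ¬ r ∣ n := hmn.resolve_left (not_not_intro hm)
      obtain ⟨c, rfl⟩ := hm
      rw [pow_mul, ← hf', pow_orderOf_eq_one, one_pow, MulAut.one_apply] at hv
      conv_rhs at hv => rw [← pow_one v]
      rw [pow_eq_pow_iff_modEq, hord v hv1, ← ZMod.natCast_eq_natCast_iff, hi, Nat.cast_one, Units.val_eq_one,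
        ← orderOf_dvd_iff_pow_eq_one, hu] at hv
      exact hn hv
    · obtain ⟨c, hc⟩ := exists_pow_eq_self_of_coprime (x := f) (n := m)
        (by rw [hf']; exact (hr.coprime_iff_not_dvd.mpr hm).symm)
      have hvi : v ^ i ^ n ≠ 1 := fun e => hv1 (by rw [← hv, e, map_one])
      obtain ⟨d, hd⟩ : ∃ d : ℕ, (f ^ m) v = v ^ d := by
        have hinv : (v ^ i ^ n) ^ (i ^ ((r - 1) * n)) = v := by
          rw [← pow_mul, ← pow_add, show n + (r - 1) * n = r * n by
            conv_rhs => rw [← Nat.succ_pred_eq_of_pos hr.pos]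
            rw [Nat.succ_mul]; simp [Nat.pred_eq_sub_one, add_comm]]
          rw [← hsc, pow_mul, show sc ^ r = 1 from MulEquiv.ext fun v => by rw [hsc, hir]; rfl,
            one_pow, MulAut.one_apply]
        refine ⟨i ^ ((r - 1) * n), ?_⟩
        conv_lhs => rw [← hinv]
        rw [map_pow, hv]
      have hpowc : ∀ t : ℕ, ((f ^ m) ^ t) v = v ^ d ^ t := fun t => by
        induction t with
        | zero => simp
        | succ t ih => rw [pow_succ', MulAut.mul_apply, ih, map_pow, hd, ← pow_mul, ← pow_succ']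
      exact hno v hv1 (d ^ c) (by rw [← hpowc, hc])
  have hfa : ∀ g ∈ R, g a ∈ zpowers a := by
    intro g hg
    by_contra hga
    refine (show f ≠ 1 from fun e => hr.ne_one (by rw [← hf', e, orderOf_one])) (hline f hfR ?_)
    have hg1 : g a ≠ 1 := fun e => ha (g.injective (by rw [e, map_one]))
    have hcard : Nat.card (zpowers a ⊔ zpowers (g a) : Subgroup V) = p ^ 2 := by
      obtain ⟨k', hk', hc⟩ := (Nat.dvd_prime_pow hp).mp
        (hV ▸ Subgroup.card_subgroup_dvd_card (zpowers a ⊔ zpowers (g a)))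
      have hlt : Nat.card (zpowers a) < Nat.card (zpowers a ⊔ zpowers (g a) : Subgroup V) := by
        refine lt_of_le_of_ne (Subgroup.card_le_of_le le_sup_left) fun e => hga ?_
        rw [Subgroup.eq_of_le_of_card_ge le_sup_left e.ge]
        exact Subgroup.mem_sup_right (mem_zpowers _)
      rw [Nat.card_zpowers, hord a ha, hc] at hlt
      rw [hc]
      interval_cases k' <;> simp_all
    have htop := Subgroup.eq_top_of_card_eq _ (hcard.trans hV.symm)
    obtain ⟨y, hy, z, hz, hxyz⟩ := Subgroup.mem_sup.mp (htop ▸ Subgroup.mem_top x)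
    have hscal : ∀ w : V, w ∈ zpowers a ∨ w ∈ zpowers (g a) → f w = w ^ l := by
      rintro w (hw | hw) <;> obtain ⟨n, rfl⟩ := Subgroup.mem_zpowers_iff.mp hw
      · rw [map_zpow, hl, ← zpow_natCast, ← zpow_mul, ← zpow_natCast, ← zpow_mul, mul_comm]
      · rw [map_zpow, ← MulAut.mul_apply, hcomm f hfR g hg, MulAut.mul_apply, hl, map_pow, ← zpow_natCast,
          ← zpow_mul, ← zpow_natCast, ← zpow_mul, mul_comm]
    rw [← hxyz, map_mul, hscal y (Or.inl hy), hscal z (Or.inr hz), ← mul_pow]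
    exact Subgroup.pow_mem _ (mem_zpowers _) _
  have h := card_dvd_pred hfree (S := {v : V | v ∈ zpowers a ∧ v ≠ 1}) (by simp) fun g hg v ⟨hv, hv1⟩ => by
    obtain ⟨n, rfl⟩ := Subgroup.mem_zpowers_iff.mp hv
    refine ⟨by rw [map_zpow]; exact Subgroup.zpow_mem _ (hfa g hg) n, fun e => hv1 (g.injective ?_)⟩
    rw [e, map_one]
  have hcard : Nat.card {v : V | v ∈ zpowers a ∧ v ≠ 1} = p - 1 := by
    haveI := Fintype.ofFinite V
    change Nat.card {v : V // v ∈ zpowers a ∧ v ≠ 1} = _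
    rw [Nat.card_congr (Equiv.subtypeSubtypeEquivSubtypeInter (fun v => v ∈ zpowers a) (fun v => v ≠ 1)).symm]
    haveI := Fintype.ofFinite (zpowers a)
    rw [Nat.card_congr (Equiv.subtypeEquivRight (fun v : zpowers a =>
      show ((v : V) ≠ 1 ↔ v ≠ 1) from not_congr OneMemClass.coe_eq_one)), Nat.card_eq_fintype_card,
      Fintype.card_subtype_compl, Fintype.card_subtype_eq, ← Nat.card_eq_fintype_card, Nat.card_zpowers, hord a ha]
  rw [hcard] at h
  exact (hdvd2 h ⟨j, by omega⟩ (by have := hp.two_le; omega)).trans (by omega)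

end CfsgLib.OddOrder.S12
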