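import Cfsg.Agent.Lib.OddOrder.S12.Setup
import Cfsg.Agent.Lib.OddOrder.Found.DadeTools
import Cfsg.Agent.Lib.CharTheory.SibleyKernel
import Cfsg.Agent.Lib.CharTheory.TIKernel
import Cfsg.Agent.S1355
import Cfsg.Agent.S1420
import Cfsg.Agent.S1529
import Cfsg.Agent.Lib.OddOrder.Found.Galois
import Cfsg.Agent.Lib.CharTheory.TI
import Cfsg.Agent.Lib.CharTheory.DadeIso

/-!
Peterfalvi (12.6): for a maximal subgroup `L` that is a Frobenius group with kernel `L_σ`, the characters induced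
from the non-principal irreducible characters of `L_σ` are irreducible and coherent for the Dade map of `L_σ^#`.
-/

set_option autoImplicit false
set_option linter.unusedSectionVars false
set_option linter.style.haveILetI false
set_option maxHeartbeats 1000000

namespace CfsgLib.OddOrder.S12

open Subgroup Cfsg CfsgLib.MinSimpleOdd CfsgLib.CharTheory
open scoped commutatorElement

universe u
variable {G : Type u} [Group G]

/-- `L` has a Frobenius kernel `L_σ`: centralisers in `L` of non-identity elements of `L_σ` lie in `L_σ`. -/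
def IsCoreFrobenius (L : Subgroup G) : Prop :=
  ∀ z ∈ sigmaCore L, z ≠ 1 → L ⊓ centralizer ({z} : Set G) ≤ sigmaCore L

variable [Fintype G] (hG : IsMinSimpleOddOrder G) {L : Subgroup G} [Fintype L] (hL : IsCoatom L)
  (hfr : IsCoreFrobenius L)

theorem centralizer_le_core (hfr : IsCoreFrobenius L) :
    ∀ k ∈ (sigmaCore L).subgroupOf L, k ≠ 1 → centralizer ({k} : Set L) ≤ (sigmaCore L).subgroupOf L :=
  fun k hk hk1 x hx => hfr k hk (fun e => hk1 (Subtype.ext e))
    ⟨x.2, mem_centralizer_singleton_iff.mpr (congrArg Subtype.val (mem_centralizer_singleton_iff.mp hx))⟩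

include hG hL

theorem core_normal : ((sigmaCore L).subgroupOf L).Normal :=
  ⟨fun _ hn x => conj_mem_core hG hL x.2 hn⟩

theorem core_subgroupOf_ne_bot : (sigmaCore L).subgroupOf L ≠ ⊥ := fun h =>
  sigmaCore_ne_bot hG hL (by
    rwa [Subgroup.subgroupOf_eq_bot, disjoint_iff, inf_eq_left.mpr (show sigmaCore L ≤ L from piCoreOf_le _ _)] at h)

theorem core_subgroupOf_lt_top : (sigmaCore L).subgroupOf L < ⊤ := lt_top_iff_ne_top.mpr fun h => by
  obtain ⟨-, -, h1, h2, -⟩ := Cfsg.Agent.S1355.result hG L hL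
  exact (lt_of_le_of_lt h1 h2).ne (le_antisymm (piCoreOf_le _ _) (Subgroup.subgroupOf_eq_top.mp h))

include hfr

theorem core_induced_irr {χ : L → ℂ} (hχ : χ ∈ inducedIrrAbove ((sigmaCore L).subgroupOf L) ⊥) :
    IsIrrCharacter L χ := by
  haveI := core_normal hG hL
  exact induced_irr_of_centralizer L _ (centralizer_le_core hfr) hχ

theorem core_eq_zero_off {α : L → ℂ} (hα : α ∈ zspanOn (inducedIrrAbove ((sigmaCore L).subgroupOf L) ⊥) {1}ᶜ)
    (x : L) (hx : (x : G) ∉ (sigmaCore L : Set G) \ {1}) : α x = 0 := by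
  classical
  haveI := core_normal hG hL
  by_cases hx1 : x = 1
  · exact hα.2 x fun h => h hx1
  exact (span_induced_props L _ hα.1).2 x fun h => hx ⟨h, fun e => hx1 (Subtype.ext e)⟩

/-- A coherence system for the Dade map of `L_σ^#`. -/
theorem exists_core_system :
    ∃ R, IsCoherenceSystem (inducedIrrAbove ((sigmaCore L).subgroupOf L) ⊥)
      (dadeIsometry ((sigmaCore L : Set G) \ {1}) L (supportR L)) R := by
  classical
  haveI := core_normal hG hL
  set K := (sigmaCore L).subgroupOf L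
  obtain ⟨h1, h2⟩ := Found.dade_isometryOn (dade_sigmaCore hG hL) (S := inducedIrrAbove K ⊥) (B := {1}ᶜ)
    (fun φ hφ => (span_induced_props L K (Submodule.subset_span hφ)).1)
    (fun α hα x hx => core_eq_zero_off hG hL hfr hα x hx)
  exact exists_coherenceSystem _ ((nontrivial_central_nonempty K K (core_subgroupOf_ne_bot hG hL) le_rfl).mono
      Set.sdiff_subset)
    (fun χ hχ => core_induced_irr hG hL hfr hχ)
    (fun χ hχ => ⟨inducedIrrAbove_conj K ⊥ hχ, induced_conj_ne L K (hG.1.of_dvd_nat L.card_subgroup_dvd_card)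
      (core_subgroupOf_lt_top hG hL) (centralizer_le_core hfr) hχ⟩) _ h1 h2

/-- The coherence criterion (S1521 with trivial normal subgroup). -/
theorem core_coherent (hnil : Group.IsNilpotent (sigmaCore L))
    (hgood : IsMulCommutative (sigmaCore L) ∨ (¬ ∃ p m : ℕ, p.Prime ∧ Nat.card (sigmaCore L) = p ^ m) ∨
      ∃ p m : ℕ, p.Prime ∧ Nat.card (sigmaCore L) = p ^ m ∧ (sigmaCore L).relIndex L ∣ p - 1) :
    IsCoherent (inducedIrrAbove ((sigmaCore L).subgroupOf L) ⊥) {1}ᶜ
      (dadeIsometry ((sigmaCore L : Set G) \ {1}) L (supportR L)) := by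
  classical
  haveI := core_normal hG hL
  obtain ⟨R, hR⟩ := exists_core_system hG hL hfr
  set K := (sigmaCore L).subgroupOf L with hKdef
  let eK := Subgroup.subgroupOfEquivOfLe (piCoreOf_le _ _ : sigmaCore L ≤ L)
  haveI : Group.IsNilpotent ↥(piCoreOf (sigma L) L) := hnil
  have hKnil : Group.IsNilpotent K := Group.nilpotent_of_mulEquiv eK.symm
  have hsolv : Group.IsSolvable K := inferInstance
  have hK1 : K ≠ ⊥ := core_subgroupOf_ne_bot hG hL
  have hKnt : Nontrivial K := (Subgroup.nontrivial_iff_ne_bot K).mpr hK1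
  have hcard : Nat.card K = Nat.card (sigmaCore L) := Nat.card_congr eK.toEquiv
  have hn : Group.IsNilpotent (↥K ⧸ (⊥ : Subgroup L).subgroupOf K) :=
    Group.nilpotent_of_surjective (QuotientGroup.mk' _) (QuotientGroup.mk'_surjective _)
  have hH1K : ⁅K, K⁆ < K := by
    refine lt_of_le_of_ne (Subgroup.commutator_le_left K K) fun h => ?_
    refine (IsSolvable.commutator_lt_top_of_nontrivial K).ne (Subgroup.map_injective K.subtype_injective ?_)
    rw [_root_.commutator_def, Subgroup.map_commutator, ← MonoidHom.range_eq_map, Subgroup.range_subtype, h]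
  refine Cfsg.Agent.S1521.result K hsolv _ R hR (hG.1.of_dvd_nat L.card_subgroup_dvd_card) ⊥ bot_le hn ⁅K, K⁆ (sup_bot_eq _).symm hH1K
    (core_subgroupOf_lt_top hG hL)
    (fun k hk hkN x hx => mem_of_conj_mem_normal K ⁅K, K⁆ (Subgroup.commutator_le_left K K)
      (centralizer_le_core hfr) hk hkN hx) ?_
  refine Or.inr (Or.inr ?_)
  rcases hgood with h | h | ⟨p, m, hp, hpm, he⟩
  · refine Or.inr (Or.inl (Subgroup.commutator_le.mpr fun x hx y hy => ?_))
    rw [Subgroup.mem_bot, commutatorElement_eq_one_iff_commute]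
    exact Subtype.ext (congrArg (fun q : sigmaCore L => (q : G))
      (h.is_comm.comm (⟨x.1, hx⟩ : sigmaCore L) ⟨y.1, hy⟩))
  · refine Or.inl fun ⟨p, m, hp, hpm⟩ => h ⟨p, m, hp, ?_⟩
    rwa [Subgroup.relIndex_bot_left, hcard] at hpm
  · exact Or.inr (Or.inr ⟨p, m, hp, by rw [Subgroup.relIndex_bot_left, hcard, hpm], he⟩)

omit hG hL hfr in
/-- For trivial complements and a trivial intersection set the Dade map is induction. -/
theorem dade_eq_indFun_of_bot {A : Set G} {H : G → Subgroup G} (hD : DadeHypothesis A L H)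
    (hH : ∀ a ∈ A, H a = ⊥) (hTI : ∀ g : G, g ∉ L → ∀ s ∈ A, g * s * g⁻¹ ∈ A → s = 1) {α : L → ℂ}
    (hα : IsClassFunction L α) (hαA : ∀ x : L, (x : G) ∉ A → α x = 0) : dadeIsometry A L H α = indFun L α := by
  classical
  funext g
  by_cases h : ∃ a : L, (a : G) ∈ A ∧ ∃ x : G, ∃ u ∈ H (a : G), x * g * x⁻¹ = (a : G) * u
  · obtain ⟨a, ha, x, u, hu, hx⟩ := h
    rw [CfsgLib.Dade.dade_apply hD hα ha hu hx]
    rw [hH _ ha, Subgroup.mem_bot] at hu
    rw [hu, mul_one] at hx
    have e : indFun L α g = indFun L α a := by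
      rw [← hx]; exact (indFun_isClassFunction L α g x).symm
    rw [e, indFun_apply_of_TI L A hTI hα hαA (hαA 1 hD.one_not_mem) a ha]
  · rw [dadeIsometry, dif_neg h]
    simp only [indFun]
    refine (mul_eq_zero_of_right _ (Finset.sum_eq_zero fun x _ => ?_)).symm
    simp only [extendByZero]
    by_cases hm : x⁻¹ * g * x ∈ L
    · rw [show x⁻¹ * g * x = ((⟨_, hm⟩ : L) : G) from rfl, Subtype.val_injective.extend_apply]
      refine hαA _ fun ha => h ⟨⟨_, hm⟩, ha, x⁻¹, 1, one_mem _, ?_⟩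
      simp
    · rw [Function.extend_apply' _ _ _ fun ⟨y, hy⟩ => hm (hy ▸ y.2)]
      rfl

/-- A non-abelian `p`-kernel with a centraliser outside `L`: the complement order divides `p - 1`. -/
theorem relIndex_dvd_of_centralizer (hnil : Group.IsNilpotent (sigmaCore L)) (hab : ¬ IsMulCommutative (sigmaCore L))
    {p m : ℕ} (hp : p.Prime) (hpm : Nat.card (sigmaCore L) = p ^ m)
    (hC : ∃ h ∈ sigmaCore L, h ≠ 1 ∧ ¬ centralizer ({h} : Set G) ≤ L) : (sigmaCore L).relIndex L ∣ p - 1 := by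
  classical
  haveI := Fact.mk hp
  have hKp : IsPGroup p (sigmaCore L) := IsPGroup.iff_card.mpr ⟨m, hpm⟩
  obtain ⟨h, hh, hh1, hhL⟩ : ∃ h ∈ sigmaCore L, orderOf h = p ∧ ¬ centralizer ({h} : Set G) ≤ L := by
    obtain ⟨a, ha, ha1, haL⟩ := hC
    obtain ⟨k, hk⟩ := (IsPGroup.iff_orderOf.mp hKp) ⟨a, ha⟩
    rw [← Subgroup.orderOf_coe] at hk
    have hd : p ∣ orderOf a := by
      rcases k with _ | k
      · exact absurd (orderOf_eq_one_iff.mp (by simpa using hk)) ha1
      · exact hk ▸ dvd_pow_self p (Nat.succ_ne_zero k)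
    refine ⟨a ^ (orderOf a / p), pow_mem ha _, orderOf_pow_orderOf_div (orderOf_pos a).ne' hd, fun hle => haL ?_⟩
    refine fun c hc => hle (Subgroup.mem_centralizer_singleton_iff.mpr ?_)
    exact ((show Commute c a from Subgroup.mem_centralizer_singleton_iff.mp hc).pow_right _).eq
  have hhne : h ≠ 1 := fun e => hp.ne_one (by rw [← hh1, e, orderOf_one])
  obtain ⟨N, hN⟩ := exists_sigmaOver hG hL hh hhne hhL
  have hτ : p ∈ tau2 N := hN.tau2 p hp (hh1 ▸ dvd_rfl)
  have hKN : ¬ sigmaCore L ≤ N := fun hle => hab <| (Cfsg.Agent.S1420.result hG N hN.hN (L ⊓ N) hN.compl).1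
    (sigmaCore L) hle hnil fun q hq hd => by
      rw [(Nat.prime_dvd_prime_iff_eq hq hp).mp (hq.dvd_of_dvd_pow (hpm ▸ hd))]
      exact hτ.2.1
  haveI := core_normal hG hL
  set K := (sigmaCore L).subgroupOf L with hKdef
  let Z : Subgroup L :=
    { carrier := {x | x ∈ K ∧ (∀ k ∈ K, x * k = k * x) ∧ x ^ p = 1}
      mul_mem' := fun {a b} ha hb => ⟨K.mul_mem ha.1 hb.1,
        fun k hk => ((show Commute a k from ha.2.1 k hk).mul_left (hb.2.1 k hk)).eq,
        by rw [(show Commute a b from ha.2.1 b hb.1).mul_pow, ha.2.2, hb.2.2, one_mul]⟩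
      one_mem' := ⟨K.one_mem, fun k _ => (Commute.one_left k).eq, one_pow p⟩
      inv_mem' := fun {a} ha => ⟨K.inv_mem ha.1, fun k hk => (show Commute a k from ha.2.1 k hk).inv_left.eq,
        by rw [inv_pow, ha.2.2, inv_one]⟩ }
  have hZn : Z.Normal := ⟨fun z hz x => ⟨(inferInstance : K.Normal).conj_mem z hz.1 x, fun k hk => by
      have h1 := hz.2.1 (x⁻¹ * k * x) (by simpa using (inferInstance : K.Normal).conj_mem k hk x⁻¹)
      calc x * z * x⁻¹ * k = x * (z * (x⁻¹ * k * x)) * x⁻¹ := by group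
        _ = x * ((x⁻¹ * k * x) * z) * x⁻¹ := by rw [h1]
        _ = k * (x * z * x⁻¹) := by group, by rw [conj_pow, hz.2.2, mul_one, mul_inv_cancel]⟩⟩
  let hK' : L := ⟨h, piCoreOf_le _ _ hh⟩
  have hnotZ : hK' ∉ Z := fun hz => hKN fun k hk => hN.le (Subgroup.mem_centralizer_singleton_iff.mpr
    (congrArg Subtype.val (hz.2.1 ⟨k, piCoreOf_le _ _ hk⟩ hk)).symm)
  -- `Z` and `h` generate an elementary abelian subgroup of `N`
  let S : Set L := (Z : Set L) ∪ {hK'}
  have hcomm : ∀ a ∈ S, ∀ b ∈ S, a * b = b * a := by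
    rintro a (ha | ha) b (hb | hb)
    · exact ha.2.1 b hb.1
    · exact ha.2.1 b (by rw [Set.mem_singleton_iff.mp hb]; exact hh)
    · exact (hb.2.1 a (by rw [Set.mem_singleton_iff.mp ha]; exact hh)).symm
    · rw [Set.mem_singleton_iff.mp ha, Set.mem_singleton_iff.mp hb]
  haveI hXc : IsMulCommutative (closure S) := Subgroup.isMulCommutative_closure hcomm
  have hexp : ∀ a ∈ closure S, a ^ p = 1 := fun a ha => by
    induction ha using Subgroup.closure_induction with
    | mem y hy =>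
      rcases hy with hy | hy
      · exact hy.2.2
      · rw [Set.mem_singleton_iff.mp hy]
        exact Subtype.ext (by simpa [hh1] using pow_orderOf_eq_one h)
    | one => exact one_pow p
    | mul a b ha hb ea eb =>
      rw [(show Commute a b from congrArg Subtype.val (hXc.is_comm.comm ⟨a, ha⟩ ⟨b, hb⟩)).mul_pow, ea, eb, one_mul]
    | inv a _ ea => rw [inv_pow, ea, inv_one]
  have hSN : ∀ a ∈ closure S, (a : G) ∈ N := fun a ha => hN.le (Subgroup.mem_centralizer_singleton_iff.mpr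
    (congrArg (fun q : closure S => ((q : L) : G))
      (hXc.is_comm.comm ⟨a, ha⟩ ⟨hK', subset_closure (Or.inr rfl)⟩)))
  let f : closure S →* N := ⟨⟨fun a => ⟨((a : L) : G), hSN _ a.2⟩, rfl⟩, fun _ _ => rfl⟩
  have hf : Function.Injective f := fun a b e =>
    Subtype.ext (Subtype.ext (congrArg (fun q : N => (q : G)) e))
  have hle : Nat.card (closure S) ≤ p ^ 2 := by
    rw [Nat.card_congr (MonoidHom.ofInjective hf).toEquiv]
    refine hτ.2.2.1 f.range ⟨⟨fun ⟨_, a, ha⟩ ⟨_, b, hb⟩ => Subtype.ext ?_⟩⟩ ?_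
    · subst ha hb
      show f a * f b = f b * f a
      rw [← map_mul, ← map_mul, hXc.is_comm.comm a b]
    · rintro _ ⟨a, rfl⟩
      rw [← map_pow, show a ^ p = 1 from Subtype.ext (hexp a a.2), map_one]
  have hZS : Z < closure S := lt_of_le_of_ne (fun z hz => subset_closure (Or.inl hz))
    fun e => hnotZ (e ▸ subset_closure (Or.inr rfl))
  have hlt : Nat.card Z < Nat.card (closure S) := Set.Finite.card_lt_card (Set.toFinite _) hZS
  have hZp : IsPGroup p Z := fun z => ⟨1, Subtype.ext (by simpa using z.2.2.2)⟩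
  obtain ⟨j, hj⟩ := IsPGroup.iff_card.mp hZp
  have hj1 : j ≤ 1 := by
    by_contra hcon
    have := Nat.pow_le_pow_right hp.pos (show 2 ≤ j by omega)
    omega
  obtain ⟨z, hz, hzo, hzc⟩ := exists_central hKp (sigmaCore_ne_bot hG hL)
  have hzp : z ^ p = 1 := hzo ▸ pow_orderOf_eq_one z
  have hZ1 : Nat.card Z ≠ 1 := fun e => hp.ne_one (by
    have hm : (⟨z, piCoreOf_le _ _ hz⟩ : L) ∈ Z :=
      ⟨hz, fun k hk => Subtype.ext (by have := hzc (k : G) hk; exact this.symm), Subtype.ext (by simpa using hzp)⟩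
    rw [Subgroup.card_eq_one.mp e, Subgroup.mem_bot] at hm
    have hz1 : z = 1 := congrArg Subtype.val hm
    rw [← hzo, hz1, orderOf_one])
  have hj' : j = 1 := by
    rcases Nat.eq_zero_or_pos j with hj0 | hj0
    · exact absurd (by rw [hj, hj0, pow_zero]) hZ1
    · omega
  have := index_dvd_card_sub_one' K Z fun k hk hk1 x =>
    ⟨fun e => centralizer_le_core hfr k hk.1 hk1 (Subgroup.mem_centralizer_singleton_iff.mpr e),
      fun hx => (hk.2.1 x hx).symm⟩
  rwa [hj, hj', pow_one] at this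

/-- **Peterfalvi (12.6)**: a Frobenius kernel `L_σ` gives coherence for the Dade map of `L_σ^#`. -/
theorem core_coherent_of_nilpotent (hnil : Group.IsNilpotent (sigmaCore L)) :
    IsCoherent (inducedIrrAbove ((sigmaCore L).subgroupOf L) ⊥) {1}ᶜ
      (dadeIsometry ((sigmaCore L : Set G) \ {1}) L (supportR L)) := by
  classical
  by_cases hC : ∃ h ∈ sigmaCore L, h ≠ 1 ∧ ¬ centralizer ({h} : Set G) ≤ L
  · refine core_coherent hG hL hfr hnil ?_
    by_cases hab : IsMulCommutative (sigmaCore L)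
    · exact Or.inl hab
    by_cases hpg : ∃ p m : ℕ, p.Prime ∧ Nat.card (sigmaCore L) = p ^ m
    · obtain ⟨p, m, hp, hpm⟩ := hpg
      exact Or.inr (Or.inr ⟨p, m, hp, hpm, relIndex_dvd_of_centralizer hG hL hfr hnil hab hp hpm hC⟩)
    · exact Or.inr (Or.inl hpg)
  push Not at hC
  have hTI : ∀ g : G, ∀ x ∈ sigmaCore L, g * x * g⁻¹ ∈ sigmaCore L → x ≠ 1 → g ∈ L := by
    intro g x hx hgx hx1
    obtain ⟨n, hn, hne⟩ := sigmaCore_fusion hG hL hx hgx
    have hc : n⁻¹ * g ∈ L := hC x hx hx1 (Subgroup.mem_centralizer_singleton_iff.mpr (by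
      calc n⁻¹ * g * x = n⁻¹ * (g * x * g⁻¹) * g := by group
        _ = n⁻¹ * (n * x * n⁻¹) * g := by rw [hne]
        _ = x * (n⁻¹ * g) := by group))
    simpa using L.mul_mem hn hc
  obtain ⟨-, -, h1, h2, -⟩ := Cfsg.Agent.S1355.result hG L hL
  have hlt : sigmaCore L < L := lt_of_le_of_lt h1 h2
  have hN : normalizer (sigmaCore L : Set G) = L := by
    refine ((eq_or_lt_of_le (le_normalizer_sigmaCore hG hL le_rfl)).resolve_right fun h => ?_).symm
    exact normalizer_ne_top hG (sigmaCore_ne_bot hG hL) (ne_top_of_lt hlt) (hL.2 _ h)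
  obtain ⟨⟨α, hα⟩, τ₁, hτ₁, hag⟩ := sibley_ti_kernel (sigmaCore L) L (piCoreOf_le _ _) hN
    (hG.1.of_dvd_nat L.card_subgroup_dvd_card) (sigmaCore_ne_bot hG hL) (core_subgroupOf_lt_top hG hL) hnil
    (fun g hg x hx hgx => by
      by_contra hx1
      exact hg (hN.symm ▸ hTI g x hx hgx hx1)) (centralizer_le_core hfr)
  refine ⟨⟨α, hα⟩, τ₁, hτ₁, fun β hβ => (hag β hβ).trans ?_⟩
  haveI := core_normal hG hL
  refine (dade_eq_indFun_of_bot (dade_sigmaCore hG hL)
    (fun a ha => supportR_eq_bot hG hL (hC a ha.1 ha.2))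
    (fun g hg x hx hgx => absurd (hTI g x hx.1 hgx.1 hx.2) hg)
    (isGenChar_iff_coeff_int.mp (span_induced_props L _ hβ.1).1).1
    (fun x hx => core_eq_zero_off hG hL hfr hβ x hx)).symm

/-- The coherent images: one sign, irreducible, injective, commuting with complex conjugation. -/
theorem core_image {τ₁ : (L → ℂ) → (G → ℂ)}
    (hτ₁ : IsLinearIsometryOn (zspan (inducedIrrAbove ((sigmaCore L).subgroupOf L) ⊥)) τ₁)
    (hag : ∀ α ∈ zspanOn (inducedIrrAbove ((sigmaCore L).subgroupOf L) ⊥) {1}ᶜ,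
      τ₁ α = dadeIsometry ((sigmaCore L : Set G) \ {1}) L (supportR L) α) :
    ∃ ε : ℂ, (ε = 1 ∨ ε = -1) ∧
      (∀ χ ∈ inducedIrrAbove ((sigmaCore L).subgroupOf L) ⊥, IsIrrCharacter G (ε • τ₁ χ) ∧
        τ₁ (conjFun χ) = conjFun (τ₁ χ)) ∧
      ∀ χ ∈ inducedIrrAbove ((sigmaCore L).subgroupOf L) ⊥, ∀ ψ ∈ inducedIrrAbove ((sigmaCore L).subgroupOf L) ⊥,
        τ₁ χ = τ₁ ψ → χ = ψ := by
  classical
  haveI := core_normal hG hL
  set K := (sigmaCore L).subgroupOf L
  have hconj : ∀ χ ∈ inducedIrrAbove K ⊥, conjFun χ ∈ inducedIrrAbove K ⊥ ∧ conjFun χ ≠ χ := fun χ hχ =>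
    ⟨inducedIrrAbove_conj K ⊥ hχ, induced_conj_ne L K (hG.1.of_dvd_nat L.card_subgroup_dvd_card)
      (core_subgroupOf_lt_top hG hL) (centralizer_le_core hfr) hχ⟩
  obtain ⟨χ₀, hχ₀⟩ : (inducedIrrAbove K ⊥).Nonempty :=
    (nontrivial_central_nonempty K K (core_subgroupOf_ne_bot hG hL) le_rfl).mono Set.sdiff_subset
  obtain ⟨ε, hε, hirr, hinj⟩ := Cfsg.Agent.S1529.result L (inducedIrrAbove K ⊥)
    (fun χ hχ => core_induced_irr hG hL hfr hχ)
    ⟨_, (hconj χ₀ hχ₀).1, _, hχ₀, (hconj χ₀ hχ₀).2⟩ τ₁ hτ₁ (fun α hα h1 => by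
      rw [hag α ⟨hα, fun x hx => by rw [Set.notMem_compl_iff, Set.mem_singleton_iff] at hx; rw [hx, h1]⟩]
      exact Found.dade_apply_one (dade_sigmaCore hG hL) α)
  refine ⟨ε, hε, fun χ hχ => ⟨hirr χ hχ, ?_⟩, hinj⟩
  obtain ⟨hc, hne⟩ := hconj χ hχ
  have hm : χ - conjFun χ ∈ zspanOn (inducedIrrAbove K ⊥) {1}ᶜ := by
    refine ⟨Submodule.sub_mem _ (Submodule.subset_span hχ) (Submodule.subset_span hc), fun x hx => ?_⟩
    rw [Set.notMem_compl_iff, Set.mem_singleton_iff] at hx
    obtain ⟨d, -, hd⟩ := irr_degree_pos (core_induced_irr hG hL hfr hχ)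
    simp [hx, conjFun, hd]
  have hlin : τ₁ (χ - conjFun χ) = τ₁ χ - τ₁ (conjFun χ) := by
    have hmc : conjFun χ ∈ Submodule.span ℤ (inducedIrrAbove K ⊥) := Submodule.subset_span hc
    rw [sub_eq_add_neg, ← neg_one_zsmul (conjFun χ), hτ₁.1 _ (Submodule.subset_span hχ) _
      (Submodule.smul_mem _ _ hmc), hτ₁.2.1 _ hmc, neg_one_zsmul, ← sub_eq_add_neg]
  have hskew : conjFun (τ₁ χ) - conjFun (τ₁ (conjFun χ)) = τ₁ (conjFun χ) - τ₁ χ := by
    have e1 := hag _ hm
    rw [hlin] at e1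
    have e2 : dadeIsometry ((sigmaCore L : Set G) \ {1}) L (supportR L) (conjFun (χ - conjFun χ)) =
        -dadeIsometry ((sigmaCore L : Set G) \ {1}) L (supportR L) (χ - conjFun χ) := by
      rw [show conjFun (χ - conjFun χ) = (-1 : ℂ) • (χ - conjFun χ) from funext fun x => by simp [conjFun],
        Found.dade_smul, neg_one_smul]
    rw [Found.dade_conjFun, ← e1] at e2
    funext g
    have := congrFun e2 g
    simp only [conjFun, Pi.sub_apply, Pi.neg_apply, map_sub] at this ⊢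
    rw [this]; ring
  have hεc : (starRingEnd ℂ) ε = ε := by rcases hε with rfl | rfl <;> simp
  have hεε : ε * ε = 1 := by rcases hε with rfl | rfl <;> simp
  set a := ε • τ₁ χ with ha
  set b := ε • τ₁ (conjFun χ) with hb
  have hab : a ≠ b := fun e => hne (hinj χ hχ _ hc (funext fun g => by
    have := congrArg (fun f => ε * f g) e
    simp only [ha, hb, Pi.smul_apply, smul_eq_mul, ← mul_assoc, hεε, one_mul] at this
    exact this)).symm
  have e : conjFun a - conjFun b = b - a := funext fun g => by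
    have := congrFun hskew g
    simp only [ha, hb, conjFun, Pi.sub_apply, Pi.smul_apply, smul_eq_mul, map_mul, hεc] at this ⊢
    linear_combination ε * this
  have hba : conjFun a = b := by
    by_contra hcne
    have h := congrArg (fun f => classInner f b) e
    have hca : IsIrrCharacter G (conjFun a) := Found.isIrr_galois Found.conjAut (hirr χ hχ)
    have hcb : IsIrrCharacter G (conjFun b) := Found.isIrr_galois Found.conjAut (hirr _ hc)
    have hb' : IsIrrCharacter G b := hirr _ hc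
    have ha' : IsIrrCharacter G a := hirr χ hχ
    simp only [classInner_sub_left] at h
    rw [classInner_irr_ne hca hb' hcne, classInner_irr_ne ha' hb' hab, classInner_irr hcb hb',
      classInner_irr hb' hb', if_pos rfl] at h
    split_ifs at h <;> norm_num at h
  funext g
  have := congrFun hba g
  simp only [ha, hb, conjFun, Pi.smul_apply, smul_eq_mul, map_mul, hεc] at this
  show τ₁ (conjFun χ) g = (starRingEnd ℂ) (τ₁ χ g)
  linear_combination (-ε) * this + ((starRingEnd ℂ) (τ₁ χ g) - τ₁ (conjFun χ) g) * hεε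

end CfsgLib.OddOrder.S12
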