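import Cfsg.Agent.Lib.OddOrder.S12.Setup
import Cfsg.Agent.Lib.OddOrder.S12.Coherent
import Cfsg.Agent.Lib.OddOrder.S12.Action
import Cfsg.Agent.Lib.MinSimpleOdd.NonTI
import Cfsg.Agent.Lib.MinSimpleOdd.FrobeniusType
import Cfsg.Agent.Lib.Signalizer.Coprime
import Cfsg.Agent.S1408
import Cfsg.Agent.S1417
import Cfsg.Agent.S1418
import Cfsg.Agent.S1360
import Cfsg.Agent.S1378

/-!
Peterfalvi (12.16), the local configuration: from a maximal `M` with `κ(M) = ∅` that is not Frobenius with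
kernel `M_σ` and a minimal offending prime `p` one gets a Frobenius `L` with kernel `L_σ ∋ x`, `M` being the
group over `C(x)`, with `2|L : L_σ| ≤ p + 1` and `M ∩ L ≤ L_σ`.
-/

set_option autoImplicit false
set_option linter.unusedSectionVars false
set_option linter.style.haveILetI false
set_option maxHeartbeats 1000000

namespace CfsgLib.OddOrder.S12

open Subgroup Cfsg CfsgLib.MinSimpleOdd
open scoped Pointwise commutatorElement IsMulCommutative

universe u
variable {G : Type u} [Group G] [Finite G]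

/-- `p` offends in `M`: an element of order `p` outside `M_σ` centralises a non-identity element of `M_σ`. -/
def Offending (M : Subgroup G) (p : ℕ) : Prop :=
  IsCoatom M ∧ kappa M = ∅ ∧ p.Prime ∧ ∃ y ∈ sigmaHat M, y ∉ sigmaCore M ∧ orderOf y = p

variable (hG : IsMinSimpleOddOrder G)

include hG

theorem exists_offending {M : Subgroup G} (hM : IsCoatom M) (hκ : kappa M = ∅) (h : ¬ IsCoreFrobenius M) :
    ∃ p, Offending M p := by
  simp only [IsCoreFrobenius, not_forall, SetLike.not_le_iff_exists] at h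
  obtain ⟨z, hz, hz1, a, ⟨haM, hac⟩, has⟩ := h
  have ha : a ∈ sigmaHat M := ⟨haM, z, hz, hz1, Subgroup.mem_centralizer_singleton_iff.mp hac⟩
  obtain ⟨k, hr, hrσ, -, hne, -, -⟩ := hat_outside hG hM hκ ha has
  refine ⟨_, hM, hκ, hr, a ^ k, ⟨M.pow_mem haM k, z, hz, hz1,
    ((show Commute a z from Subgroup.mem_centralizer_singleton_iff.mp hac).pow_left k).eq⟩, fun hs => ?_, rfl⟩
  exact hrσ (order_sigma hG hM hs _ hr dvd_rfl)

theorem Offending.tau2 {M : Subgroup G} {p : ℕ} (h : Offending M p) : p ∈ Cfsg.tau2 M := by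
  obtain ⟨hM, hκ, hp, y, hy, hys, hyo⟩ := h
  obtain ⟨k, hr, -, hτ, hne, -, -⟩ := hat_outside hG hM hκ hy hys
  have hd : orderOf (y ^ k) ∣ p := hyo ▸ orderOf_pow_dvd k
  rwa [(Nat.prime_dvd_prime_iff_eq hr hp).mp hd] at hτ

/-- The data attached to an offending pair. -/
structure PairData (M L : Subgroup G) (p : ℕ) (A : Subgroup G) (x z : G) : Prop where
  hM : IsCoatom M
  κM : kappa M = ∅
  hL : IsCoatom L
  hp : p ∈ Cfsg.tau2 M
  pL : p ∈ sigma L
  hA : IsElementaryAbelian p A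
  hA2 : Nat.card A = p ^ 2
  AM : A ≤ L ⊓ M
  AL : A ≤ sigmaCore L
  xA : x ∈ A
  xord : orderOf x = p
  sov : SigmaOver L x M
  zM : z ∈ sigmaCore M
  zx : x * z = z * x
  zder : z ∉ ⁅sigmaCore M, sigmaCore M⁆

theorem exists_pairData {M : Subgroup G} {p : ℕ} (h : Offending M p) : ∃ L A x z, PairData M L p A x z := by
  have hτ := h.tau2 hG
  obtain ⟨hM, hκ, hpp, -⟩ := h
  haveI := Fact.mk hpp
  obtain ⟨E, hE, -⟩ := exists_complement_ge hG hM (bot_le : (⊥ : Subgroup G) ≤ M) fun r hr hd =>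
    absurd (Subgroup.card_bot (G := G) ▸ hd) hr.not_dvd_one
  obtain ⟨A, hAE, hA, hA2⟩ := exists_elementary_in_complement hG hM hE hτ
  have hAM : A ≤ M := hAE.trans hE.1
  obtain ⟨hnil, -, -, hCA, -⟩ := Cfsg.Agent.S1417.result hG M hM p hτ A ⟨hAM, hA, hA2⟩
  set K := sigmaCore M with hK
  have hpK : ¬ p ∣ Nat.card K := fun hd => hτ.2.1 ((sigmaCore_hall hG hM).1.2.1 p hpp hd)
  have hAK : A ≤ normalizer (K : Set G) := hAM.trans (le_normalizer_sigmaCore hG hM le_rfl)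
  have hder : ⁅K, K⁆ < K := by
    haveI := hnil
    haveI : Nontrivial K := (Subgroup.nontrivial_iff_ne_bot K).mpr (sigmaCore_ne_bot hG hM)
    haveI : Group.IsSolvable K := inferInstance
    refine lt_of_le_of_ne (Subgroup.commutator_le_self K) fun e => ?_
    refine (IsSolvable.commutator_lt_top_of_nontrivial K).ne (Subgroup.map_injective K.subtype_injective ?_)
    rw [_root_.commutator_def, Subgroup.map_commutator, ← MonoidHom.range_eq_map, Subgroup.range_subtype, e]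
  obtain ⟨⟨B, hBA, hBi⟩, hBne⟩ : ∃ B : {B : Subgroup G // B ≤ A ∧ B.relIndex A ≤ p},
      ¬ K ⊓ centralizer ((B : Subgroup G) : Set G) ≤ ⁅K, K⁆ := by
    by_contra hno
    push Not at hno
    exact hder.not_ge ((CfsgLib.Signalizer.gen_index hA hpK hAK).le.trans (iSup_le hno))
  obtain ⟨z, ⟨hzK, hzc⟩, hzd⟩ := SetLike.not_le_iff_exists.mp hBne
  have hz1 : z ≠ 1 := fun e => hzd (e ▸ one_mem _)
  have hBne' : B ≠ A := fun e => hz1 (Subgroup.mem_bot.mp (hCA ▸ ⟨hzK, e ▸ hzc⟩))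
  have hB : Nat.card B = p := by
    refine card_line hA2 hBA (fun e => ?_) hBne'
    rw [e, Subgroup.relIndex_bot_left, hA2] at hBi
    nlinarith [hpp.two_le]
  obtain ⟨x, hxo, hxB⟩ := exists_gen hB
  have hxA : x ∈ A := hBA (hxB ▸ mem_zpowers x)
  have hne : sigmaCore M ⊓ centralizer (B : Set G) ≠ ⊥ := fun e => hz1 (Subgroup.mem_bot.mp (e ▸ ⟨hzK, hzc⟩))
  obtain ⟨hCx, huniq⟩ := (Cfsg.Agent.S1418.result hG M hM E hE p hτ A ⟨hAE, hA, hA2⟩).2.2 B hBA hB hne
  rw [← hxB, ← centralizer_zpowers] at hCx huniq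
  have hzx : x * z = z * x := hzc x (hxB ▸ mem_zpowers x)
  -- the maximal subgroup `L` with `p ∈ σ(L)` and `A ≤ L_σ`
  obtain ⟨L₀, hL₀, hpL₀⟩ := (Cfsg.Agent.S1378.result hG).1 p hpp
    ((hA2 ▸ dvd_pow_self p two_ne_zero : p ∣ Nat.card A).trans (Subgroup.card_subgroup_dvd_card A))
  obtain ⟨g, hg⟩ := sigma_conj_into hG hL₀ (Y := A) (fun e => by
      rw [e, Subgroup.card_bot] at hA2
      exact absurd hA2.symm (by simp [hpp.ne_one])) (fun r hr hd => by
      rw [hA2] at hd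
      rw [(Nat.prime_dvd_prime_iff_eq hr hpp).mp (hr.dvd_of_dvd_pow hd)]
      exact hpL₀)
  set L := MulAut.conj g⁻¹ • L₀ with hLdef
  have hL : IsCoatom L := conj_isCoatom hL₀ _
  have hAL : A ≤ sigmaCore L := by
    rw [hLdef, sigmaCore_conj hG hL₀]
    intro a ha
    rw [CfsgLib.mem_conj_smul_iff, inv_inv]
    refine hg ?_
    rw [CfsgLib.mem_conj_smul_iff]
    simpa [mul_assoc] using ha
  have hxM : ¬ centralizer ({x} : Set G) ≤ L := fun hle => hτ.2.1 (by
    rw [← huniq L hL hle, hLdef, sigma_conj]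
    exact hpL₀)
  have hx1 : x ≠ 1 := fun e => hpp.ne_one (by rw [← hxo, e, orderOf_one])
  obtain ⟨N, hN⟩ := exists_sigmaOver hG hL (hAL hxA) hx1 hxM
  obtain rfl : M = N := hN.uniq M hM hCx
  exact ⟨L, A, x, z, hM, hκ, hL, hτ, by rw [hLdef, sigma_conj]; exact hpL₀, hA, hA2,
    le_inf (hAL.trans (piCoreOf_le _ _)) hAM, hAL, hxA, hxo, hN, hzK, hzx, hzd⟩

namespace PairData

omit hG

variable {M L A : Subgroup G} {p : ℕ} {x z : G}

theorem prime (d : PairData M L p A x z) : p.Prime := d.hp.1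

theorem x_ne (d : PairData M L p A x z) : x ≠ 1 := fun e => d.hp.1.ne_one (by rw [← d.xord, e, orderOf_one])

theorem not_conj (d : PairData M L p A x z) (g : G) : M ≠ MulAut.conj g • L := fun e =>
  d.hp.2.1 (by rw [e, sigma_conj]; exact d.pL)

theorem z_ne (d : PairData M L p A x z) : z ≠ 1 := fun e => d.zder (e ▸ one_mem _)

theorem centralizer_le (d : PairData M L p A x z) : centralizer ({x} : Set G) ≤ M := d.sov.le

theorem not_dvd (hG : IsMinSimpleOddOrder G) (d : PairData M L p A x z) : ¬ p ∣ Nat.card (sigmaCore M) := fun hd =>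
  d.hp.2.1 ((sigmaCore_hall hG d.hM).1.2.1 p d.hp.1 hd)

/-- A normal central subgroup of the Sylow `p`-subgroup of `L_σ` inside `A`. -/
theorem exists_socle (hG : IsMinSimpleOddOrder G) (d : PairData M L p A x z)
    (hnil : Group.IsNilpotent (sigmaCore L)) :
    ∃ W : Subgroup G, W ≠ ⊥ ∧ W ≤ A ∧ L ≤ normalizer (W : Set G) ∧ sigmaCore L ≤ centralizer (W : Set G) ∧
      (W = A → ∀ S : Sylow p G, IsMulCommutative (S : Subgroup G)) := by
  haveI := Fact.mk d.hp.1
  obtain ⟨P, hPs, hP, hPi, hn, hmax⟩ := exists_core_sylow hG d.hL hnil p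
  have hAP : A ≤ P := hmax A d.AL (isPGroup_of_exp d.hA.2)
  let W : Subgroup G :=
    { carrier := {v | v ∈ P ∧ v ∈ centralizer (P : Set G) ∧ v ^ p = 1}
      one_mem' := ⟨one_mem _, one_mem _, one_pow p⟩
      mul_mem' := fun {a b} ha hb => ⟨mul_mem ha.1 hb.1, mul_mem ha.2.1 hb.2.1,
        by rw [(show Commute a b from hb.2.1 a ha.1).mul_pow, ha.2.2, hb.2.2, one_mul]⟩
      inv_mem' := fun {a} ha => ⟨inv_mem ha.1, inv_mem ha.2.1, by rw [inv_pow, ha.2.2, inv_one]⟩ }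
  have hPne : P ≠ ⊥ := fun e => d.x_ne (Subgroup.mem_bot.mp (e ▸ hAP d.xA))
  refine ⟨W, fun e => ?_, fun v hv => ?_, fun n hn' => ?_, ?_, fun e => ?_⟩
  · obtain ⟨v, hv, hvo, hvc⟩ := exists_central hP hPne
    have : v ∈ W := ⟨hv, hvc, hvo ▸ pow_orderOf_eq_one v⟩
    rw [e, Subgroup.mem_bot] at this
    exact d.hp.1.ne_one (by rw [← hvo, this, orderOf_one])
  · have hB := elementary_sup_zpowers d.hA hv.2.2 fun a ha => hv.2.1 a (hAP ha)
    rw [← (Cfsg.Agent.S1408.result hG M d.hM p d.hp.2.1 d.hp.2.2.1 d.hp.2.2.2).2 A (d.AM.trans inf_le_right) d.hA d.hA2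
      _ hB le_sup_left]
    exact Subgroup.mem_sup_right (mem_zpowers v)
  · have hnP := Subgroup.mem_normalizer_iff.mp (hn hn')
    refine mem_normalizer_of_conj_smul (Subgroup.eq_of_le_of_card_ge ?_ (CfsgLib.card_conj_smul n W).ge)
    rintro _ ⟨v, hv, rfl⟩
    show n * v * n⁻¹ ∈ W
    refine ⟨(hnP v).mp hv.1, fun y hy => ?_, by rw [conj_pow, hv.2.2]; group⟩
    have hy' : n⁻¹ * y * n ∈ P := (hnP _).mpr (by simpa [mul_assoc] using hy)
    calc y * (n * v * n⁻¹) = n * ((n⁻¹ * y * n) * v) * n⁻¹ := by group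
      _ = n * (v * (n⁻¹ * y * n)) * n⁻¹ := by rw [hv.2.1 _ hy']
      _ = n * v * n⁻¹ * y := by group
  · refine le_centralizer_of_sylows fun q hq => ?_
    haveI := Fact.mk hq
    haveI := hnil
    obtain ⟨Q, hQs, hQ, hQi, -, -⟩ := exists_core_sylow hG d.hL hnil q
    refine ⟨Q, hQs, hQi, fun y hy v hv => ?_⟩
    by_cases hqp : q = p
    · subst hqp
      exact (hv.2.1 y (hmax Q hQs hQ hy)).symm
    · obtain ⟨i, hi⟩ := hQ ⟨y, hy⟩
      have hy1 : y ^ q ^ i = 1 := by simpa using congrArg Subtype.val hi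
      have hco : (orderOf (⟨v, hPs hv.1⟩ : sigmaCore L)).Coprime (orderOf (⟨y, hQs hy⟩ : sigmaCore L)) := by
        rw [Subgroup.orderOf_mk, Subgroup.orderOf_mk]
        exact Nat.Coprime.coprime_dvd_left (orderOf_dvd_of_pow_eq_one hv.2.2)
          (Nat.Coprime.coprime_dvd_right (orderOf_dvd_of_pow_eq_one hy1)
            (((Nat.coprime_primes d.hp.1 hq).mpr (Ne.symm hqp)).pow_right i))
      exact congrArg Subtype.val (CfsgLib.commute_of_nilpotent _ _ hco)
  · -- `A` is central in `P`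
    have hPA : P ≤ centralizer (A : Set G) := fun y hy a ha => ((e.ge ha).2.1 y hy).symm
    have hPM : P ≤ M := fun y hy => d.centralizer_le
      (Subgroup.mem_centralizer_singleton_iff.mpr (hPA hy x d.xA).symm)
    have hPc := sigma'_pgroup_commutative hG d.hM hPM hP d.hp.2.1
    have hPidx : ¬ p ∣ P.index := by
      rw [← Subgroup.relIndex_mul_index hPs]
      exact fun hd => (d.hp.1.dvd_mul.mp hd).elim hPi ((sigmaCore_hall hG d.hL).2.2 p d.hp.1 d.pL)
    intro S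
    obtain ⟨g, hg⟩ := exists_conj_le_sylow hP hPidx S.2
    refine ⟨⟨fun a b => Subtype.ext ?_⟩⟩
    obtain ⟨a', ha', ha⟩ := hg a.2
    obtain ⟨b', hb', hb⟩ := hg b.2
    rw [Subgroup.coe_mul, Subgroup.coe_mul, ← ha, ← hb]
    show MulAut.conj g a' * MulAut.conj g b' = MulAut.conj g b' * MulAut.conj g a'
    rw [← map_mul, ← map_mul]
    exact congrArg _ (congrArg Subtype.val (hPc.is_comm.comm (⟨a', ha'⟩ : P) ⟨b', hb'⟩))

/-- **2.3**: with a minimal offending prime, `L` is a Frobenius group with kernel `L_σ`. -/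
theorem frobenius (hG : IsMinSimpleOddOrder G) (d : PairData M L p A x z) (hκ : kappa L = ∅)
    (hmin : ∀ (N : Subgroup G) (q : ℕ), Offending N q → p ≤ q) : IsCoreFrobenius L := by
  by_contra hf
  obtain ⟨q, hq⟩ := exists_offending hG d.hL hκ hf
  have hτ := hq.tau2 hG
  haveI := Fact.mk hq.2.2.1
  haveI := Fact.mk d.hp.1
  have hqodd : q ≠ 2 := fun e => by
    obtain ⟨-, -, -, y, -, -, hy⟩ := hq
    have h2 : 2 ∣ Nat.card G := by rw [← e, ← hy]; exact orderOf_dvd_natCard y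
    have := hG.1.of_dvd_nat h2
    exact absurd this (by decide)
  obtain ⟨W, hW1, hWA, hWn, hWc, -⟩ := d.exists_socle hG (nilpotent_of_kappa_empty hG d.hL hκ)
  obtain ⟨E, hE, -⟩ := exists_complement_ge hG d.hL (bot_le : (⊥ : Subgroup G) ≤ L) fun r hr hd =>
    absurd (Subgroup.card_bot (G := G) ▸ hd) hr.not_dvd_one
  obtain ⟨B, hBE, hB, hB2⟩ := exists_elementary_in_complement hG d.hL hE hτ
  obtain ⟨-, -, -, hCB, -⟩ := Cfsg.Agent.S1417.result hG L d.hL q hτ B ⟨hBE.trans hE.1, hB, hB2⟩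
  obtain ⟨b, hb, hbW⟩ : ∃ b ∈ B, ¬ W ≤ centralizer ({b} : Set G) := by
    by_contra hno
    push Not at hno
    refine hW1 (le_bot_iff.mp fun v hv => hCB ▸ ⟨d.AL (hWA hv), fun b hb => ?_⟩)
    exact (Subgroup.mem_centralizer_singleton_iff.mp (hno b hb hv)).symm
  have hbn : zpowers b ≤ normalizer (W : Set G) := Subgroup.zpowers_le.mpr (hWn (hE.1 (hBE hb)))
  letI : MulAction (zpowers b) W :=
    { smul := fun g w => ⟨(g : G) * w * (g : G)⁻¹, (Subgroup.mem_normalizer_iff.mp (hbn g.2) w).mp w.2⟩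
      one_smul := fun w => Subtype.ext (show (1 : G) * w * (1 : G)⁻¹ = w by group)
      mul_smul := fun g h w => Subtype.ext (show ((g : G) * h) * w * ((g : G) * h)⁻¹ =
        (g : G) * ((h : G) * w * (h : G)⁻¹) * (g : G)⁻¹ by group) }
  have hexpb : ∀ g ∈ zpowers b, g ^ q = 1 := fun g hg => by
    obtain ⟨i, rfl⟩ := Subgroup.mem_zpowers_iff.mp hg
    rw [← zpow_natCast, ← zpow_mul, mul_comm, zpow_mul, zpow_natCast, hB.2 b hb, one_zpow]
  have hcong := (isPGroup_of_exp hexpb).card_modEq_card_fixedPoints W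
  set F := W ⊓ centralizer ({b} : Set G)
  have hF : Nat.card (MulAction.fixedPoints (zpowers b) W) = Nat.card F := by
    refine Nat.card_congr ⟨fun w => ⟨w.1, w.1.2, Subgroup.mem_centralizer_singleton_iff.mpr ?_⟩,
      fun w => ⟨⟨w, w.2.1⟩, fun g => Subtype.ext ?_⟩, fun _ => rfl, fun _ => rfl⟩
    · have h := congrArg Subtype.val (w.2 ⟨b, mem_zpowers b⟩)
      exact (mul_inv_eq_iff_eq_mul.mp (show b * (w.1 : G) * b⁻¹ = w.1 from h)).symm
    · obtain ⟨i, hi⟩ := Subgroup.mem_zpowers_iff.mp g.2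
      show (g : G) * w * (g : G)⁻¹ = w
      rw [← hi, ((show Commute b (w : G) from (Subgroup.mem_centralizer_singleton_iff.mp w.2.2).symm).zpow_left i).eq,
        mul_inv_cancel_right]
  rw [hF] at hcong
  obtain ⟨i, hi, hWcard⟩ := (Nat.dvd_prime_pow d.hp.1).mp (d.hA2 ▸ Subgroup.card_dvd_of_le hWA)
  obtain ⟨j, hj, hFcard⟩ := (Nat.dvd_prime_pow d.hp.1).mp
    ((Subgroup.card_dvd_of_le (inf_le_left : F ≤ W)).trans (dvd_of_eq hWcard))
  have hji : j < i := lt_of_le_of_ne hj fun e => hbW ((Subgroup.eq_of_le_of_card_ge (inf_le_left : F ≤ W)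
    (by rw [hFcard, hWcard, e])).ge.trans inf_le_right)
  rw [hWcard, hFcard] at hcong
  have hqp : q ≠ p := fun e => hτ.2.1 (e ▸ d.pL)
  have hco : q.Coprime p := (Nat.coprime_primes hq.2.2.1 d.hp.1).mpr hqp
  have h1 : p ^ (i - j) ≡ 1 [MOD q] := Nat.ModEq.cancel_left_of_coprime (c := p ^ j) (hco.pow_right j)
    (by rw [← pow_add, Nat.add_sub_cancel' hji.le, mul_one]; exact hcong)
  have hlt : q < p := by
    have hpodd : p % 2 = 1 := by
      obtain ⟨k, hk⟩ := hG.1.of_dvd_nat (d.xord ▸ orderOf_dvd_natCard x)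
      omega
    obtain ⟨n, hn⟩ : Odd q := hq.2.2.1.odd_of_ne_two hqodd
    have h2 := d.hp.1.two_le
    have h3 : q ∣ p - 1 ∨ q ∣ p + 1 := by
      have hd : q ∣ p ^ (i - j) - 1 := (Nat.modEq_iff_dvd' (Nat.one_le_pow _ _ d.hp.1.pos)).mp h1.symm
      rcases (show i - j = 1 ∨ i - j = 2 by omega) with e | e <;> rw [e] at hd
      · exact Or.inl (by simpa using hd)
      · rw [show p ^ 2 - 1 = p ^ 2 - 1 ^ 2 by norm_num, Nat.sq_sub_sq] at hd
        exact (hq.2.2.1.dvd_mul.mp hd).symm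
    rcases h3 with h3 | h3
    · have := Nat.le_of_dvd (by omega) h3; omega
    · obtain ⟨c, hc⟩ := h3
      rcases c with _ | _ | c
      · omega
      · omega
      · nlinarith
  exact absurd (hmin L q hq) (not_le.mpr hlt)

/-- **2.4**: `M ∩ L ≤ L_σ`. -/
theorem meet_le (hG : IsMinSimpleOddOrder G) (d : PairData M L p A x z) (hf : IsCoreFrobenius L) :
    L ⊓ M ≤ sigmaCore L := by
  haveI := Fact.mk d.hp.1
  set E := L ⊓ M with hEdef
  intro s hs
  refine mem_sigmaCore_of_order hG d.hL hs.1 fun q hq hqd => by_contra fun hqσ => ?_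
  haveI := Fact.mk hq
  have hdec : IsSigmaDecomposition M ⊥ E := ⟨inferInstance,
    ⟨bot_le, fun r hr hd => absurd (Subgroup.card_bot (G := G) ▸ hd) hr.not_dvd_one,
      fun r _ hr => absurd hr (by simp [d.κM])⟩, by rw [bot_sup_eq]; exact d.sov.compl, bot_le⟩
  obtain ⟨U₀, hU₀, hexp, hfree⟩ := Cfsg.Agent.S1360.result hG M d.hM ⊥ E hdec
  have hget : ∀ r : ℕ, r.Prime → ∀ g ∈ E, r ∣ orderOf g → ∃ u ∈ U₀, orderOf u = r := by
    intro r hr g hg hd
    haveI := Fact.mk hr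
    have h1 : r ∣ Monoid.exponent U₀ := by
      rw [hexp]
      exact hd.trans (by rw [← Subgroup.orderOf_mk (H := E) g hg]; exact Monoid.order_dvd_exponent _)
    obtain ⟨⟨u, hu⟩, hu'⟩ := exists_prime_orderOf_dvd_card' r (h1.trans Group.exponent_dvd_nat_card)
    exact ⟨u, hu, by rw [← hu', Subgroup.orderOf_mk]⟩
  obtain ⟨t, ht, hto⟩ := hget q hq s hs hqd
  obtain ⟨b, hb, hbo⟩ := hget p d.hp.1 x (d.AM d.xA) (d.xord ▸ dvd_rfl)
  obtain ⟨⟨hEA, hline⟩, -, -⟩ := Cfsg.Agent.S1418.result hG M d.hM E d.sov.compl p d.hp A ⟨d.AM, d.hA, d.hA2⟩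
  have hbA : b ∈ A := hline (zpowers b) (Subgroup.zpowers_le.mpr (hU₀ hb)) (by rw [Nat.card_zpowers, hbo])
    (mem_zpowers b)
  have hxhat : x ∈ sigmaHat M := ⟨(d.AM d.xA).2, z, d.zM, d.z_ne, d.zx⟩
  have hBt : ∀ n : ℕ, t ^ n * b * (t ^ n)⁻¹ ∈ zpowers b := by
    intro n
    have hle : zpowers b ≤ U₀ ⊓ A := Subgroup.zpowers_le.mpr ⟨hb, hbA⟩
    have hne : U₀ ⊓ A ≠ A := fun e => d.x_ne (hfree x (e.ge d.xA).1 hxhat)
    have hb1 : zpowers b ≠ ⊥ := fun e => d.hp.1.ne_one (by rw [← hbo, Subgroup.zpowers_eq_bot.mp e, orderOf_one])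
    rw [Subgroup.eq_of_le_of_card_ge hle (by
      rw [Nat.card_zpowers, hbo, card_line d.hA2 inf_le_right (ne_bot_of_le_ne_bot hb1 hle) hne])]
    exact ⟨U₀.mul_mem (U₀.mul_mem (U₀.pow_mem ht n) hb) (U₀.inv_mem (U₀.pow_mem ht n)),
      (Subgroup.mem_normalizer_iff.mp (hEA (E.pow_mem (hU₀ ht) n)) b).mp hbA⟩
  -- the pair acts on the centre of `M_σ`
  set V := sigmaCore M ⊓ centralizer (sigmaCore M : Set G) with hV
  haveI hVc : IsMulCommutative V := ⟨⟨fun a c => Subtype.ext ((a.2.2 c c.2.1).symm)⟩⟩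
  have hMV : M ≤ normalizer (V : Set G) := by
    intro m hm
    have hmK := le_normalizer_sigmaCore hG d.hM le_rfl hm
    refine mem_normalizer_of_conj_smul (Subgroup.eq_of_le_of_card_ge ?_ (CfsgLib.card_conj_smul m V).ge)
    rintro _ ⟨v, hv, rfl⟩
    show m * v * m⁻¹ ∈ V
    refine ⟨(Subgroup.mem_normalizer_iff.mp hmK v).mp hv.1, fun y hy => ?_⟩
    have hy' : m⁻¹ * y * m ∈ sigmaCore M :=
      (Subgroup.mem_normalizer_iff.mp hmK _).mpr (by simpa [mul_assoc] using hy)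
    calc y * (m * v * m⁻¹) = m * ((m⁻¹ * y * m) * v) * m⁻¹ := by group
      _ = m * (v * (m⁻¹ * y * m)) * m⁻¹ := by rw [hv.2 _ hy']
      _ = m * v * m⁻¹ * y := by group
  have hUM : U₀ ≤ M := hU₀.trans inf_le_right
  set φ := V.normalizerMonoidHom.comp (Subgroup.inclusion (hUM.trans hMV)) with hφ
  have hfix : ∀ u : U₀, u ≠ 1 → ∀ v : V, φ u v = v → v = 1 := by
    intro u hu v hv
    by_contra hv1
    have h : (u : G) * v * (u : G)⁻¹ = v := congrArg Subtype.val hv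
    exact hu (Subtype.ext (hfree u u.2 ⟨hUM u.2, v, v.2.1, fun e => hv1 (Subtype.ext e),
      mul_inv_eq_iff_eq_mul.mp h⟩))
  have hconj : ∀ n : ℕ, Commute b (t ^ n * b⁻¹ * (t ^ n)⁻¹) := fun n => by
    obtain ⟨i, hi⟩ := Subgroup.mem_zpowers_iff.mp (hBt n)
    rw [show t ^ n * b⁻¹ * (t ^ n)⁻¹ = (b ^ i)⁻¹ by rw [hi]; group]
    exact (Commute.refl b).zpow_right i |>.inv_right
  have hVne : V ≠ ⊥ := by
    haveI := nilpotent_of_kappa_empty hG d.hM d.κM
    haveI : Nontrivial (sigmaCore M) := (Subgroup.nontrivial_iff_ne_bot _).mpr (sigmaCore_ne_bot hG d.hM)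
    obtain ⟨⟨v, hv⟩, hv1⟩ := Subgroup.ne_bot_iff_exists_ne_one.mp
      (Group.IsNilpotent.center_ne_bot (G := sigmaCore M))
    intro e
    refine hv1 (Subtype.ext (Subtype.ext (Subgroup.mem_bot.mp (e ▸ ⟨v.2, fun y hy => ?_⟩ : (v : G) ∈ (⊥ : Subgroup G)))))
    exact congrArg Subtype.val (Subgroup.mem_center_iff.mp hv ⟨y, hy⟩)
  obtain ⟨⟨v, hvV⟩, hv1⟩ := Subgroup.ne_bot_iff_exists_ne_one.mp hVne
  have hfinal := no_fpf_pq (φ ⟨b, hb⟩) (φ ⟨t, ht⟩) (p := p) hq.pos
    (by rw [← map_pow, show (⟨b, hb⟩ : U₀) ^ p = 1 from Subtype.ext (hbo ▸ pow_orderOf_eq_one b), map_one])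
    (by rw [← map_pow, show (⟨t, ht⟩ : U₀) ^ q = 1 from Subtype.ext (hto ▸ pow_orderOf_eq_one t), map_one])
    (fun n => by
      rw [← map_pow, ← map_inv, ← map_inv, ← map_mul, ← map_mul]
      exact Commute.map (show Commute (⟨b, hb⟩ : U₀) _ from Subtype.ext (hconj n).eq) φ)
    (hfix _ fun e => hq.ne_one (by rw [← hto, show t = 1 from congrArg Subtype.val e, orderOf_one]))
    (fun n hn0 hnq w hw => by
      rw [← map_pow, ← map_inv, ← map_inv, ← map_mul, ← map_mul, ← map_mul] at hw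
      refine hfix _ (fun e => ?_) w hw
      have e' : b * (t ^ n * b⁻¹ * (t ^ n)⁻¹) = 1 := by simpa using congrArg Subtype.val e
      have hcomm : Commute (t ^ n) b := by
        show t ^ n * b = b * t ^ n
        calc t ^ n * b = (b * (t ^ n * b⁻¹ * (t ^ n)⁻¹))⁻¹ * (b * t ^ n) := by group
          _ = b * t ^ n := by rw [e', inv_one, one_mul]
      obtain ⟨c, hc⟩ := exists_pow_eq_self_of_coprime (x := t) (n := n)
        (by rw [hto]; exact (hq.coprime_iff_not_dvd.mpr (Nat.not_dvd_of_pos_of_lt hn0 hnq)).symm)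
      have hb1 : b ≠ 1 := fun e => d.hp.1.ne_one (by rw [← hbo, e, orderOf_one])
      have := hf b (d.AL hbA) hb1 ⟨(hU₀ ht).1, Subgroup.mem_centralizer_singleton_iff.mpr (hc ▸ hcomm.pow_left c).eq⟩
      exact hqσ (order_sigma hG d.hL this q hq (hto ▸ dvd_rfl)))
    ⟨v, hvV⟩
  refine d.not_dvd hG ?_
  have hvo : orderOf v = p := orderOf_eq_prime (by simpa using congrArg Subtype.val hfinal)
    fun e => hv1 (Subtype.ext e)
  exact hvo ▸ Subgroup.orderOf_dvd_natCard _ hvV.1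

/-- **2.5**: `2 |L : L_σ| ≤ p + 1`. -/
theorem index_le (hG : IsMinSimpleOddOrder G) (d : PairData M L p A x z) (hκ : kappa L = ∅)
    (hf : IsCoreFrobenius L) : 2 * (sigmaCore L).relIndex L ≤ p + 1 := by
  haveI := Fact.mk d.hp.1
  obtain ⟨W, hW1, hWA, hWn, hWc, hWab⟩ := d.exists_socle hG (nilpotent_of_kappa_empty hG d.hL hκ)
  haveI : IsMulCommutative W := ⟨⟨fun a c => Subtype.ext
    (show (a : G) * c = c * a from congrArg (fun t : A => (t : G)) (d.hA.1.is_comm.comm (⟨a, hWA a.2⟩ : A) ⟨c, hWA c.2⟩))⟩⟩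
  set f := W.normalizerMonoidHom.comp (Subgroup.inclusion hWn) with hfdef
  set R := f.range with hR
  have hker : f.ker = (sigmaCore L).subgroupOf L := by
    rw [hfdef, ← MonoidHom.comap_ker, Subgroup.normalizerMonoidHom_ker]
    refine SetLike.ext fun g => ⟨fun hg => ?_, fun hg => hWc hg⟩
    obtain ⟨⟨w, hw⟩, hw1⟩ := Subgroup.ne_bot_iff_exists_ne_one.mp hW1
    exact hf w (d.AL (hWA hw)) (fun e => hw1 (Subtype.ext e))
      ⟨g.2, Subgroup.mem_centralizer_singleton_iff.mpr ((show (g : G) ∈ centralizer (W : Set G) from hg) w hw).symm⟩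
  have hcard : Nat.card R = (sigmaCore L).relIndex L := by
    rw [hR, ← Subgroup.index_ker, hker]; rfl
  have hodd : Odd (Nat.card R) := by
    rw [hcard]
    exact hG.1.of_dvd_nat ((Subgroup.relIndex_dvd_card _ _).trans (Subgroup.card_subgroup_dvd_card L))
  have hfree : ∀ r ∈ R, ∀ v : W, v ≠ 1 → r v = v → r = 1 := by
    rintro _ ⟨g, rfl⟩ v hv hrv
    rw [← MonoidHom.mem_ker, hker]
    exact hf v (d.AL (hWA v.2)) (fun e => hv (Subtype.ext e)) ⟨g.2, Subgroup.mem_centralizer_singleton_iff.mpr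
      (mul_inv_eq_iff_eq_mul.mp (show (g : G) * v * (g : G)⁻¹ = v from congrArg Subtype.val hrv))⟩
  have hp2 : p ≠ 2 := fun e => by
    have := hG.1.of_dvd_nat (e ▸ d.xord ▸ orderOf_dvd_natCard x)
    exact absurd this (by decide)
  rw [← hcard]
  by_cases hWA' : W = A
  · subst hWA'
    have hab := hWab rfl
    obtain ⟨S, -, -, -, -, hcomm⟩ := abelian_tau2_sylow hG d.hM d.sov.compl d.hp hab d.AM d.hA d.hA2
    refine two_mul_card_le d.hA2 (fun v => Subtype.ext (d.hA.2 v v.2)) hodd hp2 ?_ hfree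
      (x := ⟨x, d.xA⟩) (fun e => d.x_ne (congrArg Subtype.val e)) ?_
    · rintro _ ⟨g, rfl⟩ _ ⟨g', rfl⟩
      have hk : g * g' * g⁻¹ * g'⁻¹ ∈ f.ker := by
        rw [hfdef, ← MonoidHom.comap_ker, Subgroup.normalizerMonoidHom_ker]
        exact hcomm (Subgroup.commutator_mem_commutator (hWn g.2) (hWn g'.2))
      rwa [MonoidHom.mem_ker, map_mul, map_mul, map_mul, map_inv, map_inv, mul_inv_eq_one,
        mul_inv_eq_iff_eq_mul] at hk
    · rintro _ ⟨g, rfl⟩ hx
      obtain ⟨i, hi⟩ := Subgroup.mem_zpowers_iff.mp hx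
      have hi' : x ^ i = (g : G) * x * (g : G)⁻¹ := congrArg Subtype.val hi
      have hgen : zpowers ((g : G) * x * (g : G)⁻¹) = zpowers x := Subgroup.eq_of_le_of_card_ge
        (Subgroup.zpowers_le.mpr (hi' ▸ Subgroup.zpow_mem_zpowers x i))
        (by rw [Nat.card_zpowers, Nat.card_zpowers, orderOf_conj])
      have hle : centralizer ({x} : Set G) ≤ MulAut.conj (g : G) • M := by
        rw [centralizer_zpowers, ← hgen, ← centralizer_zpowers, ← conj_centralizer_singleton]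
        exact conj_smul_mono d.centralizer_le _
      have hgM : (g : G) ∈ M := by
        rw [← normalizer_coatom hG d.hM]
        exact mem_normalizer_of_conj_smul (d.sov.uniq _ (conj_isCoatom d.hM _) hle)
      rw [← MonoidHom.mem_ker, hker]
      exact d.meet_le hG hf ⟨g.2, hgM⟩
  · have hWp := card_line d.hA2 hWA hW1 hWA'
    have h := card_dvd_pred hfree (S := {v : W | v ≠ 1}) (by simp) fun r hr v hv e => hv (by
      rw [← map_one r] at e
      exact r.injective e)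
    have hcard' : Nat.card {v : W | v ≠ 1} = p - 1 := by
      classical
      haveI := Fintype.ofFinite W
      change Nat.card {v : W // v ≠ 1} = _
      rw [Nat.card_eq_fintype_card, Fintype.card_subtype_compl, ← Nat.card_eq_fintype_card, hWp,
        Fintype.card_subtype_eq]
    rw [hcard'] at h
    have h2 : 2 ∣ p - 1 := by
      obtain ⟨k, hk⟩ := d.hp.1.odd_of_ne_two hp2
      exact ⟨k, by omega⟩
    have := Nat.le_of_dvd (by have := d.hp.1.two_le; omega)
      (Nat.Coprime.mul_dvd_of_dvd_of_dvd (Nat.coprime_two_left.mpr hodd) h2 h)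
    omega

/-- `|M_σ : M_σ'| ≥ 5`. -/
theorem five_le_relIndex (hG : IsMinSimpleOddOrder G) (d : PairData M L p A x z) :
    5 ≤ (⁅sigmaCore M, sigmaCore M⁆).relIndex (sigmaCore M) := by
  haveI := Fact.mk d.hp.1
  set K := sigmaCore M
  set D := ⁅K, K⁆ with hD
  have hDK : D ≤ K := Subgroup.commutator_le_self K
  have hodd := hG.1.of_dvd_nat ((Subgroup.relIndex_dvd_card D K).trans (Subgroup.card_subgroup_dvd_card K))
  obtain ⟨j, hj⟩ := hodd
  by_contra hlt
  have h1 : D.relIndex K ≠ 1 := fun e => d.zder (Subgroup.relIndex_eq_one.mp e d.zM)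
  have h3 : D.relIndex K = 3 := by omega
  have hKnD : K ≤ normalizer (D : Set G) := fun g hg => mem_normalizer_of_conj_smul
    ((Subgroup.map_commutator _ _ _).trans (by
      show ⁅MulAut.conj g • K, MulAut.conj g • K⁆ = _
      rw [conj_smul_eq_of_mem_normalizer (Subgroup.le_normalizer hg)]))
  have hAK : A ≤ normalizer (K : Set G) := (d.AM.trans inf_le_right).trans (le_normalizer_sigmaCore hG d.hM le_rfl)
  have hAD : A ≤ normalizer (D : Set G) := fun g hg => mem_normalizer_of_conj_smul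
    ((Subgroup.map_commutator _ _ _).trans (by
      show ⁅MulAut.conj g • K, MulAut.conj g • K⁆ = _
      rw [conj_smul_eq_of_mem_normalizer (hAK hg)]))
  haveI hn : (D.subgroupOf K).Normal := (Subgroup.normal_subgroupOf_iff_le_normalizer hDK).mpr hKnD
  have hQ : Nat.card (K ⧸ D.subgroupOf K) = 3 := h3
  set k := z
  have hk : k ∈ K := d.zM
  have hcase : ∀ y ∈ K, y ∉ D → y * k⁻¹ ∈ D ∨ y * k ∈ D := by
    intro y hy hyD
    set qk : K ⧸ D.subgroupOf K := QuotientGroup.mk ⟨k, hk⟩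
    set qy : K ⧸ D.subgroupOf K := QuotientGroup.mk ⟨y, hy⟩
    haveI : Fact (Nat.Prime 3) := ⟨Nat.prime_three⟩
    have hk1 : qk ≠ 1 := fun e => d.zder ((QuotientGroup.eq_one_iff (N := D.subgroupOf K) _).mp e)
    have hy1 : qy ≠ 1 := fun e => hyD ((QuotientGroup.eq_one_iff (N := D.subgroupOf K) _).mp e)
    have ho : orderOf qk = 3 := orderOf_eq_prime (by rw [← hQ]; exact pow_card_eq_one') hk1
    obtain ⟨i, hi, hie⟩ := (Submonoid.mem_powers_iff qy qk).mp (mem_powers_iff_mem_zpowers.mpr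
      (by rw [Subgroup.eq_top_of_card_eq (zpowers qk) (by rw [Nat.card_zpowers, ho, hQ])]; trivial)) |>.elim
      fun i hi => (⟨i % 3, Nat.mod_lt i three_pos, by rw [← ho, pow_mod_orderOf]; exact hi⟩ :
        ∃ i, i < 3 ∧ qk ^ i = qy)
    interval_cases i
    · exact absurd (by simpa using hie.symm) hy1
    · refine Or.inl ((QuotientGroup.eq_one_iff (N := D.subgroupOf K) (⟨y, hy⟩ * ⟨k, hk⟩⁻¹)).mp ?_)
      rw [QuotientGroup.mk_mul, QuotientGroup.mk_inv]
      show qy * qk⁻¹ = 1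
      rw [← hie, pow_one, mul_inv_cancel]
    · refine Or.inr ((QuotientGroup.eq_one_iff (N := D.subgroupOf K) (⟨y, hy⟩ * ⟨k, hk⟩)).mp ?_)
      rw [QuotientGroup.mk_mul]
      show qy * qk = 1
      rw [← hie, ← pow_succ, show 2 + 1 = orderOf qk from ho.symm, pow_orderOf_eq_one]
  have hfix : ∀ a ∈ A, a * k * a⁻¹ * k⁻¹ ∈ D := by
    have hcD : ∀ a ∈ A, ∀ v ∈ D, a * v * a⁻¹ ∈ D := fun a ha v hv =>
      (Subgroup.mem_normalizer_iff.mp (hAD ha) v).mp hv
    have hsq : ∀ a ∈ A, a * a * k * (a * a)⁻¹ * k⁻¹ ∈ D := by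
      intro a ha
      have hy : a * k * a⁻¹ ∈ K := (Subgroup.mem_normalizer_iff.mp (hAK ha) k).mp hk
      have hyD : a * k * a⁻¹ ∉ D := fun h => d.zder ((Subgroup.mem_normalizer_iff.mp (hAD ha) k).mpr h)
      rcases hcase _ hy hyD with h | h
      · have := mul_mem (hcD a ha _ h) h
        convert this using 1
        group
      · have hc : ⁅a * k * a⁻¹, k⁆ ∈ D := Subgroup.commutator_mem_commutator hy hk
        have h4 := mul_mem (mul_mem (hcD a ha _ h) (inv_mem h)) hc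
        convert h4 using 1
        simp only [commutatorElement_def]
        group
    intro a ha
    obtain ⟨m, hm⟩ : Odd p := d.hp.1.odd_of_ne_two fun e => by
      have := hG.1.of_dvd_nat (e ▸ d.xord ▸ orderOf_dvd_natCard x)
      exact absurd this (by decide)
    have := hsq (a ^ (m + 1)) (A.pow_mem ha _)
    rwa [← pow_add, show m + 1 + (m + 1) = p + 1 by omega, pow_succ, d.hA.2 a ha, one_mul] at this
  obtain ⟨c, hc, hcD⟩ := CfsgLib.coprime_fixed_quotient hAK (CfsgLib.Signalizer.ea_coprime d.hA (d.not_dvd hG))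
    (Or.inl (CfsgLib.Signalizer.ea_solvable d.hA)) hDK hKnD hAD hk hfix
  obtain ⟨-, -, -, hCA, -⟩ := Cfsg.Agent.S1417.result hG M d.hM p d.hp A ⟨d.AM.trans inf_le_right, d.hA, d.hA2⟩
  rw [hCA, Subgroup.mem_bot] at hc
  subst hc
  rw [mul_one] at hcD
  exact d.zder (by simpa using inv_mem hcD)

end PairData

end CfsgLib.OddOrder.S12
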