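import Cfsg.Agent.Lib.OddOrder.S12.CoherentData
import Cfsg.Agent.Lib.CharTheory.CyclicTI3
import Cfsg.Agent.Lib.OddOrder.Found.CyclicSigma
import Cfsg.Agent.S1506
import Mathlib.GroupTheory.FiniteAbelian.Duality

/-!
Peterfalvi (12.4), (12.5): the coherent images of a Frobenius kernel are orthogonal to those of a non-conjugate one
and to the family of a cyclic TI subgroup whose hat lies outside the support of the Dade map.
-/

set_option autoImplicit false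
set_option linter.unusedSectionVars false
set_option linter.style.haveILetI false
set_option maxHeartbeats 1000000

namespace CfsgLib.OddOrder.S12

open Subgroup Cfsg CfsgLib.MinSimpleOdd CfsgLib.CharTheory
open scoped Pointwise ComplexConjugate

universe u
variable {G : Type u} [Group G] [Fintype G]

/-- **(12.4)** Images for non-conjugate Frobenius kernels are orthogonal. -/
theorem core_images_orth (hG : IsMinSimpleOddOrder G) {L N : Subgroup G} [Fintype L] [Fintype N] (hL : IsCoatom L)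
    (hN : IsCoatom N) (hn : ∀ g : G, N ≠ MulAut.conj g • L) (hfr : IsCoreFrobenius L) (hfrN : IsCoreFrobenius N)
    {S : Finset (L → ℂ)} {τ₁ : (L → ℂ) → (G → ℂ)} {S' : Finset (N → ℂ)} {τ₁' : (N → ℂ) → (G → ℂ)}
    (D : Found.IsKernelData ((sigmaCore L : Set G) \ {1}) L (supportR L) ((sigmaCore L).subgroupOf L) S τ₁)
    (D' : Found.IsKernelData ((sigmaCore N : Set G) \ {1}) N (supportR N) ((sigmaCore N).subgroupOf N) S' τ₁')
    {ξ : L → ℂ} (hξ : ξ ∈ S) {η : N → ℂ} (hη : η ∈ S') : classInner (τ₁ ξ) (τ₁' η) = 0 := by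
  haveI := core_normal hG hL
  haveI := core_normal hG hN
  exact Found.kernel_images_orth D D' (core_supp_disjoint hG hL hN hn)
    (fun ξ h => core_induced_irr hG hL hfr (D.mem h)) (fun ξ h => core_induced_irr hG hN hfrN (D'.mem h))
    (fun ξ h => induced_conj_ne L _ (hG.1.of_dvd_nat L.card_subgroup_dvd_card) (core_subgroupOf_lt_top hG hL)
      (centralizer_le_core hfr) (D.mem h))
    (fun ξ h => induced_conj_ne N _ (hG.1.of_dvd_nat N.card_subgroup_dvd_card) (core_subgroupOf_lt_top hG hN)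
      (centralizer_le_core hfrN) (D'.mem h))
    hξ hη

/-- A difference `a - ā` of orthogonal signed irreducible characters vanishing on the hat misses the family. -/
theorem family_orth_of_vanish {W₁ W₂ : Subgroup G} (hW : IsSelfNormalizingCyclic W₁ W₂)
    (hodd : Odd (Nat.card ↥(W₁ ⊔ W₂))) {χ : Found.WLin W₁ W₂ → (G → ℂ)} (hχ : IsCyclicTIFamily W₁ W₂ χ)
    {a : G → ℂ} (ha : IsSignedIrr a) (hac : classInner a (conjFun a) = 0)
    (hV : ∀ w : ↥(W₁ ⊔ W₂), (w : G) ∉ W₁ → (w : G) ∉ W₂ → a w - conjFun a w = 0) (ω : Found.WLin W₁ W₂) :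
    classInner a (χ ω) = 0 := by
  classical
  have hW' := hW
  obtain ⟨hne1, hne2, hdisj, hcomm, hcyc, -⟩ := hW
  haveI := hcyc
  rcases signed_cases ha (hχ.irr_or_neg ω) with h | ⟨ε, hε, h⟩
  · exact h
  exfalso
  have hεc : conj ε = ε := by rcases hε with rfl | rfl <;> simp
  have hε0 : ε ≠ 0 := by rcases hε with rfl | rfl <;> simp
  have hb : conjFun a = ε • χ ω⁻¹ := by
    rw [← Found.cycFamily_conj hW' hodd hχ ω, h]
    funext g
    simp [conjFun, hεc]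
  have hωne : ω ≠ ω⁻¹ := fun e => by
    rw [hb, h, classInner_smul_left, classInner_smul_right, hχ.orthonormal, ← e, if_pos rfl, mul_one, hεc] at hac
    exact mul_ne_zero hε0 hε0 hac
  set d : G → ℂ := a - conjFun a with hd
  have hdc : IsClassFunction G d := by
    have hcl : IsClassFunction G (χ ω) ∧ IsClassFunction G (χ ω⁻¹) :=
      ⟨(isGenChar_iff_coeff_int.mp (Found.cycFamily_signed hχ ω)).1,
        (isGenChar_iff_coeff_int.mp (Found.cycFamily_signed hχ ω⁻¹)).1⟩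
    rw [hd, h, ← h, hb, h]
    exact isClassFunction_sub (isClassFunction_smul _ hcl.1) (isClassFunction_smul _ hcl.2)
  have ht : ∀ η, classInner d (χ η) = ε * ((if ω = η then 1 else 0) - if ω⁻¹ = η then 1 else 0) := fun η => by
    rw [hd, hb, h, classInner_sub_left, classInner_smul_left, classInner_smul_left, hχ.orthonormal, hχ.orthonormal]
    ring
  have hrect : ∀ φ ψ : Found.WLin W₁ W₂, (∀ w : ↥(W₁ ⊔ W₂), (w : G) ∈ W₂ → φ w = 1) →
      (∀ w : ↥(W₁ ⊔ W₂), (w : G) ∈ W₁ → ψ w = 1) →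
      classInner d (χ (φ * ψ)) + classInner d (χ 1) = classInner d (χ φ) + classInner d (χ ψ) := fun φ ψ hφ hψ => by
    have := Cfsg.Agent.S1506.result W₁ W₂ hW' χ hχ d hdc (fun w h1 h2 => hV w h1 h2) φ 1 ψ 1
      (fun w hw => ⟨hφ w hw, rfl⟩) (fun w hw => ⟨hψ w hw, rfl⟩)
    have e1 : φ * 1 = φ := MonoidHom.ext fun w => by simp
    have e2 : 1 * ψ = ψ := MonoidHom.ext fun w => by simp
    have e3 : (1 : Found.WLin W₁ W₂) * 1 = 1 := MonoidHom.ext fun w => by simp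
    rw [e1, e2, e3] at this
    exact this
  obtain ⟨e, he⟩ := exists_prod_equiv hdisj hcomm
  have hmem2 : ∀ z : ↥(W₁ ⊔ W₂), ∀ h : (z : G) ∈ W₂, e.symm z = (1, ⟨z, h⟩) := fun z h => e.injective (by
    rw [MulEquiv.apply_symm_apply]; exact Subtype.ext (by rw [he]; simp))
  have hmem1 : ∀ z : ↥(W₁ ⊔ W₂), ∀ h : (z : G) ∈ W₁, e.symm z = (⟨z, h⟩, 1) := fun z h => e.injective (by
    rw [MulEquiv.apply_symm_apply]; exact Subtype.ext (by rw [he]; simp))
  let p₁ : ↥(W₁ ⊔ W₂) →* W₁ := (MonoidHom.fst W₁ W₂).comp e.symm.toMonoidHom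
  let p₂ : ↥(W₁ ⊔ W₂) →* W₂ := (MonoidHom.snd W₁ W₂).comp e.symm.toMonoidHom
  have hp12 : ∀ (f : W₁ →* ℂˣ) (w : ↥(W₁ ⊔ W₂)), (w : G) ∈ W₂ → (f.comp p₁) w = 1 := fun f w hw => by
    simp [p₁, hmem2 w hw]
  have hp21 : ∀ (f : W₂ →* ℂˣ) (w : ↥(W₁ ⊔ W₂)), (w : G) ∈ W₁ → (f.comp p₂) w = 1 := fun f w hw => by
    simp [p₂, hmem1 w hw]
  obtain ⟨φ, ψ, hφ2, hψ1, hω⟩ : ∃ φ ψ : Found.WLin W₁ W₂, (∀ w : ↥(W₁ ⊔ W₂), (w : G) ∈ W₂ → φ w = 1) ∧
      (∀ w : ↥(W₁ ⊔ W₂), (w : G) ∈ W₁ → ψ w = 1) ∧ ∀ w, ω w = φ w * ψ w := by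
    refine ⟨(ω.comp (Subgroup.inclusion le_sup_left)).comp p₁, (ω.comp (Subgroup.inclusion le_sup_right)).comp p₂,
      hp12 _, hp21 _, fun w => ?_⟩
    have hw : w = Subgroup.inclusion le_sup_left (p₁ w) * Subgroup.inclusion le_sup_right (p₂ w) := by
      apply Subtype.ext
      have := he (e.symm w)
      rw [MulEquiv.apply_symm_apply] at this
      exact this
    conv_lhs => rw [hw, map_mul]
    rfl
  have hωeq : ω = φ * ψ := MonoidHom.ext hω
  -- values away from `ω` and `ω⁻¹`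
  have key : ∀ η : Found.WLin W₁ W₂, (∃ w, η w ≠ ω w ∧ η w ≠ (ω w)⁻¹) → classInner d (χ η) = 0 := by
    rintro η ⟨w, h2, h3⟩
    rw [ht, if_neg, if_neg]
    · ring
    · rintro rfl; exact h3 rfl
    · rintro rfl; exact h2 rfl
  have hsq : ∃ w, ω w ≠ (ω w)⁻¹ := by
    by_contra hno
    push Not at hno
    exact hωne (MonoidHom.ext fun w => hno w)
  have h1 : classInner d (χ 1) = 0 := by
    obtain ⟨w, hw⟩ := hsq
    refine key 1 ⟨w, ?_, ?_⟩
    · intro e'; rw [MonoidHom.one_apply] at e'; exact hw (by rw [← e', inv_one])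
    · intro e'; rw [MonoidHom.one_apply] at e'; exact hw (by rw [inv_eq_one.mp e'.symm, inv_one])
  have hval : classInner d (χ ω) = ε := by
    rw [ht, if_pos rfl, if_neg (Ne.symm hωne)]; ring
  have off1 : ∀ η : Found.WLin W₁ W₂, (∃ w, η w = 1 ∧ ω w ≠ 1) → classInner d (χ η) = 0 := by
    rintro η ⟨w, h2, h3⟩
    exact key η ⟨w, fun e' => h3 (by rw [← e', h2]), fun e' => h3 (inv_eq_one.mp (by rw [← e', h2]))⟩
  have off2 : ∀ η : Found.WLin W₁ W₂, (∃ w, η w ≠ 1 ∧ ω w = 1) → classInner d (χ η) = 0 := by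
    rintro η ⟨w, h2, h3⟩
    exact key η ⟨w, fun e' => h2 (by rw [e', h3]), fun e' => h2 (by rw [e', h3, inv_one])⟩
  have nonTriv : ∀ X : Subgroup G, X ≤ W₁ ⊔ W₂ → X ≠ ⊥ → ∃ f : X →* ℂˣ, ∃ x, f x ≠ 1 := by
    intro X hX hX1
    obtain ⟨x, hx, hx1⟩ := (Subgroup.bot_or_exists_ne_one X).resolve_left hX1
    haveI : IsCyclic X := isCyclic_of_injective (Subgroup.inclusion hX) (Subgroup.inclusion_injective _)
    letI := IsCyclic.commGroup (α := X)
    obtain ⟨f, hf⟩ := CommGroup.exists_apply_ne_one_of_hasEnoughRootsOfUnity X ℂ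
      (a := ⟨x, hx⟩) (fun e => hx1 (congrArg Subtype.val e))
    exact ⟨f, _, hf⟩
  by_cases hψ0 : ∀ w : ↥(W₁ ⊔ W₂), (w : G) ∈ W₂ → ψ w = 1
  · have hωφ : ω = φ := MonoidHom.ext fun w => by
      rw [hω w, show ψ = 1 from cyc_hom_ext hcomm _ _ fun z hz => hz.elim (hψ1 z) (hψ0 z), MonoidHom.one_apply, mul_one]
    obtain ⟨f, x, hfx⟩ := nonTriv W₂ le_sup_right hne2
    let w₂ : ↥(W₁ ⊔ W₂) := ⟨x, Subgroup.mem_sup_right x.2⟩
    have hw₂ : (f.comp p₂) w₂ ≠ 1 := by simpa [p₂, hmem2 w₂ x.2] using hfx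
    have hω2 : ω w₂ = 1 := by rw [hωφ]; exact hφ2 _ x.2
    have := hrect φ (f.comp p₂) hφ2 (hp21 f)
    rw [h1, ← hωφ, hval, off2 (f.comp p₂) ⟨w₂, hw₂, hω2⟩,
      off2 (ω * f.comp p₂) ⟨w₂, by rw [MonoidHom.mul_apply, hω2, one_mul]; exact hw₂, hω2⟩] at this
    exact hε0 (by linear_combination -this)
  by_cases hφ0 : ∀ w : ↥(W₁ ⊔ W₂), (w : G) ∈ W₁ → φ w = 1
  · have hωψ : ω = ψ := MonoidHom.ext fun w => by
      rw [hω w, show φ = 1 from cyc_hom_ext hcomm _ _ fun z hz => hz.elim (hφ0 z) (hφ2 z), MonoidHom.one_apply, one_mul]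
    obtain ⟨f, x, hfx⟩ := nonTriv W₁ le_sup_left hne1
    let w₁ : ↥(W₁ ⊔ W₂) := ⟨x, Subgroup.mem_sup_left x.2⟩
    have hw₁ : (f.comp p₁) w₁ ≠ 1 := by simpa [p₁, hmem1 w₁ x.2] using hfx
    have hω1 : ω w₁ = 1 := by rw [hωψ]; exact hψ1 _ x.2
    have := hrect (f.comp p₁) ψ (hp12 f) hψ1
    rw [h1, ← hωψ, hval, off2 (f.comp p₁) ⟨w₁, hw₁, hω1⟩,
      off2 (f.comp p₁ * ω) ⟨w₁, by rw [MonoidHom.mul_apply, hω1, mul_one]; exact hw₁, hω1⟩] at this
    exact hε0 (by linear_combination -this)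
  push Not at hψ0 hφ0
  obtain ⟨w, hw, hwne⟩ := hψ0
  obtain ⟨v, hv, hvne⟩ := hφ0
  have := hrect φ ψ hφ2 hψ1
  rw [h1, ← hωeq, hval, off1 φ ⟨w, hφ2 w hw, by rw [hω w, hφ2 w hw, one_mul]; exact hwne⟩,
    off1 ψ ⟨v, hψ1 v hv, by rw [hω v, hψ1 v hv, mul_one]; exact hvne⟩] at this
  exact hε0 (by linear_combination this)

/-- **(12.5)** Coherent images are orthogonal to a cyclic TI family with hat outside the support. -/
theorem core_orth_family (hG : IsMinSimpleOddOrder G) {L : Subgroup G} [Fintype L] (hL : IsCoatom L)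
    (hfr : IsCoreFrobenius L) {S : Finset (L → ℂ)} {τ₁ : (L → ℂ) → (G → ℂ)}
    (D : Found.IsKernelData ((sigmaCore L : Set G) \ {1}) L (supportR L) ((sigmaCore L).subgroupOf L) S τ₁)
    {W₁ W₂ : Subgroup G} (hW : IsSelfNormalizingCyclic W₁ W₂) {χ : Found.WLin W₁ W₂ → (G → ℂ)}
    (hχ : IsCyclicTIFamily W₁ W₂ χ)
    (hout : ∀ w : ↥(W₁ ⊔ W₂), (w : G) ∉ W₁ → (w : G) ∉ W₂ →
      (w : G) ∉ Found.dadeSupp ((sigmaCore L : Set G) \ {1}) (supportR L))
    {ξ : L → ℂ} (hξ : ξ ∈ S) (ω : Found.WLin W₁ W₂) : classInner (τ₁ ξ) (χ ω) = 0 := by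
  classical
  haveI := core_normal hG hL
  have hiso : IsLinearIsometryOn (zspan (inducedIrrAbove ((sigmaCore L).subgroupOf L) ⊥)) τ₁ := D.set_eq ▸ D.iso
  have hag : ∀ α ∈ zspanOn (inducedIrrAbove ((sigmaCore L).subgroupOf L) ⊥) {1}ᶜ,
      τ₁ α = dadeIsometry ((sigmaCore L : Set G) \ {1}) L (supportR L) α := D.set_eq ▸ D.agree
  obtain ⟨ε, hε, him, -⟩ := core_image hG hL hfr hiso hag
  obtain ⟨hirr, hc⟩ := him ξ (D.mem hξ)
  have hmem := inducedIrrAbove_conj ((sigmaCore L).subgroupOf L) ⊥ (D.mem hξ)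
  have hsigned : IsSignedIrr (τ₁ ξ) := by
    rcases hε with rfl | rfl
    · exact Or.inl (by simpa using hirr)
    · exact Or.inr (by simpa using hirr)
  refine family_orth_of_vanish hW (hG.1.of_dvd_nat (Subgroup.card_subgroup_dvd_card _)) hχ hsigned ?_
    (fun w h1 h2 => ?_) ω
  · rw [← hc, hiso.2.2.1 _ (Submodule.subset_span (D.mem hξ)) _ (Submodule.subset_span hmem)]
    exact classInner_irr_ne (core_induced_irr hG hL hfr (D.mem hξ)) (core_induced_irr hG hL hfr hmem)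
      (Ne.symm (induced_conj_ne L _ (hG.1.of_dvd_nat L.card_subgroup_dvd_card) (core_subgroupOf_lt_top hG hL)
        (centralizer_le_core hfr) (D.mem hξ)))
  · rw [← hc, ← Pi.sub_apply]
    have hm : ξ - conjFun ξ ∈ zspanOn (inducedIrrAbove ((sigmaCore L).subgroupOf L) ⊥) {1}ᶜ := by
      refine ⟨Submodule.sub_mem _ (Submodule.subset_span (D.mem hξ)) (Submodule.subset_span hmem), fun x hx => ?_⟩
      rw [Set.notMem_compl_iff, Set.mem_singleton_iff] at hx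
      obtain ⟨k, -, hk⟩ := irr_degree_pos (core_induced_irr hG hL hfr (D.mem hξ))
      simp [hx, conjFun, hk]
    have e : τ₁ (ξ - conjFun ξ) = τ₁ ξ - τ₁ (conjFun ξ) :=
      Found.isometryOn_sub hiso (Submodule.subset_span (D.mem hξ)) (Submodule.subset_span hmem)
    rw [← e, hag _ hm]
    exact Found.dade_eq_zero_of_notMem D.dade _ (hout w h1 h2)

end CfsgLib.OddOrder.S12
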