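import Cfsg.Agent.Lib.OddOrder.S12.Psi
import Cfsg.Agent.Lib.OddOrder.Found.InvDade
import Cfsg.Agent.Lib.CharTheory.TI
import Cfsg.Agent.Lib.CharTheory.CoherenceDescend
import Cfsg.Agent.S1518
import Cfsg.Agent.S0161

/-!
Section 12, lemma 12.2: an irreducible character `e` with `⟨e - ē, τ f⟩ = 0` for the admissible `f` is orthogonal to
the Dade images of signed sums of characters above `K`, and hence its means are constant in the expected way.
-/

set_option autoImplicit false
set_option linter.unusedSectionVars false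
set_option linter.style.haveILetI false

namespace CfsgLib.OddOrder.S12

open Cfsg CfsgLib.CharTheory CfsgLib.Dade CfsgLib.OddOrder.Found
open scoped ComplexConjugate

universe u
variable {G : Type u} [Group G] [Fintype G] {A : Set G} {N : Subgroup G} [Fintype N] {H : G → Subgroup G}
  {K : Subgroup N} [K.Normal] [Fintype K]

/-- Functions carried by `A` with zero sum over every coset of `K` outside `K`. -/
def Adm (A : Set G) (K : Subgroup N) [Fintype K] (f : N → ℂ) : Prop :=
  IsClassFunction N f ∧ (∀ x : N, (x : G) ∉ A → f x = 0) ∧ ∀ g : N, g ∉ K → ∑ k : K, f (g * k) = 0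

/-- A Dade set containing every element that centralises a non-identity element of `K`. -/
structure OrthData (A : Set G) (N : Subgroup G) (H : G → Subgroup G) (K : Subgroup N) [K.Normal] : Prop where
  dade : DadeHypothesis A N H
  setting : Setting K
  hat : ∀ x : N, (x : G) ∉ A → x ≠ 1 → ∀ k ∈ K, x * k = k * x → k = 1
  odd : Odd (Nat.card N)

/-- An irreducible character whose difference with its conjugate is orthogonal to the admissible images. -/
def Outside (A : Set G) (H : G → Subgroup G) (K : Subgroup N) [Fintype K] (e : G → ℂ) : Prop :=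
  IsIrrCharacter G e ∧ e ≠ conjFun e ∧
    ∀ f : N → ℂ, Adm A K f → classInner (e - conjFun e) (dadeIsometry A N H f) = 0

theorem OrthData.mem_of_kernel (d : OrthData A N H K) {x : N} (hx : x ∈ K) (hx1 : x ≠ 1) : (x : G) ∈ A :=
  by_contra fun h => hx1 (d.hat x h hx1 x hx rfl)

theorem OrthData.above_vanish (d : OrthData A N H K) {ψ : N → ℂ} (hψ : IsAbove K ψ) {x : N} (hx : (x : G) ∉ A)
    (hx1 : x ≠ 1) : ψ x = 0 :=
  hψ.eq_zero_off K (d.hat x hx hx1)

theorem IsAbove.conj_above {ψ : N → ℂ} (h : IsAbove K ψ) : IsAbove K (conjFun ψ) := by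
  refine ⟨isIrrCharacter_conjChar h.1, ?_⟩
  obtain ⟨k, hk, hne⟩ := h.2
  exact ⟨k, hk, fun e => hne ((starRingEnd ℂ).injective e)⟩

theorem OrthData.conj_ne (d : OrthData A N H K) {ψ : N → ℂ} (h : IsAbove K ψ) : conjFun ψ ≠ ψ := by
  intro e
  have h1 : ψ = fun _ => 1 := Cfsg.Agent.S0161.result d.odd ⟨ψ, h.1⟩ fun g =>
    Complex.conj_eq_iff_im.mp (congrFun e g)
  obtain ⟨k, -, hne⟩ := h.2
  exact hne (by rw [h1])

/-- A difference of two sums of characters above `K` of the same total degree is admissible. -/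
theorem OrthData.adm_sub (d : OrthData A N H K) (P Q : Finset (N → ℂ)) (hP : ∀ χ ∈ P, IsAbove K χ)
    (hQ : ∀ χ ∈ Q, IsAbove K χ) (h1 : (∑ χ ∈ P, χ) 1 = (∑ χ ∈ Q, χ) 1) :
    Adm A K (∑ χ ∈ P, χ - ∑ χ ∈ Q, χ) := by
  refine ⟨fun a b => ?_, fun x hx => ?_, fun g _ => ?_⟩
  · simp only [Pi.sub_apply, Finset.sum_apply]
    rw [Finset.sum_congr rfl fun χ hχ => isClassFunction_irr (hP χ hχ).1 a b,
      Finset.sum_congr rfl fun χ hχ => isClassFunction_irr (hQ χ hχ).1 a b]
  · by_cases hx1 : x = 1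
    · subst hx1
      rw [Pi.sub_apply, h1, sub_self]
    · rw [Pi.sub_apply, Finset.sum_apply, Finset.sum_apply,
        Finset.sum_eq_zero fun χ hχ => d.above_vanish (hP χ hχ) hx hx1,
        Finset.sum_eq_zero fun χ hχ => d.above_vanish (hQ χ hχ) hx hx1, sub_self]
  · simp only [Pi.sub_apply, Finset.sum_apply, Finset.sum_sub_distrib]
    rw [Finset.sum_comm, Finset.sum_eq_zero fun χ hχ => (hP χ hχ).sum_coset K g, Finset.sum_comm,
      Finset.sum_eq_zero fun χ hχ => (hQ χ hχ).sum_coset K g, sub_self]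

theorem OrthData.adm_pair (d : OrthData A N H K) {χ χ' : N → ℂ} (h : IsAbove K χ) (h' : IsAbove K χ')
    (h1 : χ 1 = χ' 1) : Adm A K (χ - χ') := by
  have := d.adm_sub {χ} {χ'} (by simpa using h) (by simpa using h') (by simpa using h1)
  simpa using this

theorem conjFun_one_eq {χ : N → ℂ} (h : IsIrrCharacter N χ) : conjFun χ 1 = χ 1 := by
  obtain ⟨n, -, hn⟩ := irr_degree_pos h
  show conj (χ 1) = χ 1
  rw [hn, Complex.conj_natCast]

/-- The pair of irreducibles belonging to `χ` avoids `e`. -/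
theorem OrthData.exists_pair (d : OrthData A N H K) {e : G → ℂ} (he : Outside A H K e) {χ : N → ℂ}
    (hχ : IsAbove K χ) : ∃ μ : G → ℂ, IsIrrCharacter G μ ∧ μ ≠ conjFun μ ∧
      dadeIsometry A N H (χ - conjFun χ) = μ - conjFun μ ∧ e ≠ μ ∧ e ≠ conjFun μ := by
  obtain ⟨μ, hμ, hτ⟩ := Cfsg.Agent.S1518.result A N H d.dade χ hχ.1 fun x hx1 hx => d.above_vanish hχ hx hx1
  have hadm := d.adm_pair hχ hχ.conj_above (conjFun_one_eq hχ.1).symm
  have hn := classInner_dade_dade d.dade hadm.1 hadm.2.1 hadm.1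
  have hμne : μ ≠ conjFun μ := fun h => by
    rw [hτ, ← h, sub_self] at hn
    simp only [classInner_sub_left, classInner_sub_right, classInner_irr_self hχ.1,
      classInner_irr_self hχ.conj_above.1, classInner_irr_ne hχ.1 hχ.conj_above.1 (d.conj_ne hχ).symm,
      classInner_irr_ne hχ.conj_above.1 hχ.1 (d.conj_ne hχ)] at hn
    norm_num at hn
  have h0 := he.2.2 _ hadm
  rw [hτ] at h0
  have hee : IsIrrCharacter G (conjFun e) := isIrrCharacter_conjChar he.1
  have hμ' : IsIrrCharacter G (conjFun μ) := isIrrCharacter_conjChar hμ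
  refine ⟨μ, hμ, hμne, hτ, fun h => ?_, fun h => ?_⟩
  · subst h
    simp only [classInner_sub_left, classInner_sub_right, classInner_irr_self he.1, classInner_irr_self hee,
      classInner_irr_ne he.1 hee hμne, classInner_irr_ne hee he.1 hμne.symm] at h0
    norm_num at h0
  · have hc : conjFun e = μ := by
      rw [h]; funext g; exact Complex.conj_conj _
    subst h
    rw [hc] at h0
    simp only [classInner_sub_left, classInner_sub_right, classInner_irr_self hμ, classInner_irr_self hμ',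
      classInner_irr_ne hμ' hμ hμne.symm, classInner_irr_ne hμ hμ' hμne] at h0
    norm_num at h0

theorem classInner_sum_irr {P : Finset (N → ℂ)} (hP : ∀ χ ∈ P, IsIrrCharacter N χ) [DecidablePred (· ∈ P)]
    {ψ : N → ℂ} (hψ : IsIrrCharacter N ψ) : classInner (∑ χ ∈ P, χ) ψ = if ψ ∈ P then 1 else 0 := by
  rw [classInner_sum_left]
  split_ifs with h
  · rw [Finset.sum_eq_single ψ (fun χ hχ hne => classInner_irr_ne (hP χ hχ) hψ hne) (fun hh => absurd h hh),
      classInner_irr_self hψ]
  · exact Finset.sum_eq_zero fun χ hχ => classInner_irr_ne (hP χ hχ) hψ fun e => h (e ▸ hχ)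

/-- **(12.2)** `e` is orthogonal to the images of signed sums without conjugate pairs. -/
theorem OrthData.inner_signed_sum (d : OrthData A N H K) {e : G → ℂ} (he : Outside A H K e)
    (P Q : Finset (N → ℂ)) (hP : ∀ χ ∈ P, IsAbove K χ) (hQ : ∀ χ ∈ Q, IsAbove K χ) (hPQ : Disjoint P Q)
    (hconj : ∀ χ, χ ∈ P ∨ χ ∈ Q → ¬ (conjFun χ ∈ P ∨ conjFun χ ∈ Q))
    (h1 : (∑ χ ∈ P, χ) 1 = (∑ χ ∈ Q, χ) 1) :
    classInner (dadeIsometry A N H (∑ χ ∈ P, χ - ∑ χ ∈ Q, χ)) e = 0 := by
  classical
  set g := ∑ χ ∈ P, χ - ∑ χ ∈ Q, χ with hg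
  have hadm := d.adm_sub P Q hP hQ h1
  have hgen : IsGeneralizedCharacter N g :=
    isGenChar_sub (isGenChar_sum P _ fun χ hχ => isGenChar_of_char (isCharacter_of_irr (hP χ hχ).1))
      (isGenChar_sum Q _ fun χ hχ => isGenChar_of_char (isCharacter_of_irr (hQ χ hχ).1))
  set S := P ∪ Q with hS
  have hab : ∀ χ ∈ S, IsAbove K χ := fun χ h => (Finset.mem_union.mp h).elim (hP χ) (hQ χ)
  have hcoef : ∀ ψ, IsIrrCharacter N ψ →
      classInner g ψ = (if ψ ∈ P then 1 else 0) - if ψ ∈ Q then 1 else 0 := fun ψ hψ => by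
    rw [hg, classInner_sub_left, classInner_sum_irr (fun χ h => (hP χ h).1) hψ,
      classInner_sum_irr (fun χ h => (hQ χ h).1) hψ]
  have hnorm : classInner g g = (S.card : ℂ) := by
    conv_lhs => rw [hg]
    rw [classInner_sub_left, classInner_sum_left, classInner_sum_left,
      Finset.sum_congr rfl fun χ hχ => show classInner χ g = 1 by
        rw [← classInner_comm, hcoef χ (hP χ hχ).1, if_pos hχ, if_neg (Finset.disjoint_left.mp hPQ hχ), sub_zero,
          map_one],
      Finset.sum_congr rfl fun χ hχ => show classInner χ g = -1 by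
        rw [← classInner_comm, hcoef χ (hQ χ hχ).1, if_neg (fun h => Finset.disjoint_left.mp hPQ h hχ), if_pos hχ,
          zero_sub, map_neg, map_one],
      hS, Finset.card_union_of_disjoint hPQ]
    simp [sub_neg_eq_add]
  obtain ⟨c, -, hc, hsq⟩ := classInner_self_eq_sum_sq (isGenChar_dade d.dade hgen hadm.2.1)
  rw [classInner_dade_dade d.dade hadm.1 hadm.2.1 hadm.1, hnorm] at hsq
  have hsum : (S.card : ℤ) = ∑ ψ : IrrCharacter G, c ψ ^ 2 := by exact_mod_cast hsq
  -- each member of `S` provides a constituent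
  have hex : ∀ χ : S, ∃ ν : IrrCharacter G, c ν ≠ 0 ∧ ν.1 ≠ e ∧ ∃ μ : G → ℂ,
      IsIrrCharacter G μ ∧ μ ≠ conjFun μ ∧ dadeIsometry A N H (χ.1 - conjFun χ.1) = μ - conjFun μ ∧
        (ν.1 = μ ∨ ν.1 = conjFun μ) := by
    rintro ⟨χ, hχ⟩
    obtain ⟨μ, hμ, hμne, hτ, he1, he2⟩ := d.exists_pair he (hab χ hχ)
    have hpa := d.adm_pair (hab χ hχ) (hab χ hχ).conj_above (conjFun_one_eq (hab χ hχ).1).symm
    have h := classInner_dade_dade d.dade hadm.1 hadm.2.1 hpa.1
    have hnot := hconj χ (Finset.mem_union.mp hχ)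
    rw [hτ, classInner_sub_right, classInner_sub_right, hcoef χ (hab χ hχ).1,
      hcoef _ (hab χ hχ).conj_above.1, if_neg (fun hh => hnot (Or.inl hh)), if_neg (fun hh => hnot (Or.inr hh)),
      hc ⟨μ, hμ⟩, hc ⟨conjFun μ, isIrrCharacter_conjChar hμ⟩] at h
    by_cases hz : c ⟨μ, hμ⟩ = 0
    · refine ⟨⟨_, isIrrCharacter_conjChar hμ⟩, fun hz' => ?_, he2.symm, μ, hμ, hμne, hτ, Or.inr rfl⟩
      rw [hz] at h
      have hz'' : c ⟨conjFun μ, isIrrCharacter_conjChar hμ⟩ = 0 := hz'
      rw [hz''] at h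
      rcases Finset.mem_union.mp hχ with hχ' | hχ'
      · rw [if_pos hχ', if_neg (Finset.disjoint_left.mp hPQ hχ')] at h; norm_num at h
      · rw [if_pos hχ', if_neg (fun hh => Finset.disjoint_left.mp hPQ hh hχ')] at h; norm_num at h
    · exact ⟨⟨μ, hμ⟩, hz, he1.symm, μ, hμ, hμne, hτ, Or.inl rfl⟩
  choose ν hν hνe μ hμ hμne hτ hνμ using hex
  have hinj : Function.Injective ν := by
    intro χ χ' h
    by_contra hne
    have hne' : χ.1 ≠ χ'.1 := fun e => hne (Subtype.ext e)
    have hx := hab χ.1 χ.2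
    have hy := hab χ'.1 χ'.2
    have hnot := hconj χ.1 (Finset.mem_union.mp χ.2)
    have hcy : conjFun χ.1 ≠ χ'.1 := fun e => hnot (Finset.mem_union.mp (e ▸ χ'.2))
    have hyc : χ.1 ≠ conjFun χ'.1 := fun e => hcy (by rw [e]; funext g; exact Complex.conj_conj _)
    have hcc : conjFun χ.1 ≠ conjFun χ'.1 := fun e => hne' (irr_conj_inj.mp e)
    have hpa := d.adm_pair hx hx.conj_above (conjFun_one_eq hx.1).symm
    have hpb := d.adm_pair hy hy.conj_above (conjFun_one_eq hy.1).symm
    have hz := classInner_dade_dade d.dade hpa.1 hpa.2.1 hpb.1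
    rw [hτ χ, hτ χ'] at hz
    simp only [classInner_sub_left, classInner_sub_right, classInner_irr_ne hx.1 hy.1 hne',
      classInner_irr_ne hx.1 hy.conj_above.1 hyc, classInner_irr_ne hx.conj_above.1 hy.1 hcy,
      classInner_irr_ne hx.conj_above.1 hy.conj_above.1 hcc, sub_zero] at hz
    have hcase : μ χ = μ χ' ∨ μ χ = conjFun (μ χ') := by
      have h' : (ν χ).1 = (ν χ').1 := congrArg Subtype.val h
      have inv : ∀ f : G → ℂ, conjFun (conjFun f) = f := fun f => funext fun g => Complex.conj_conj _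
      rcases hνμ χ with a | a <;> rcases hνμ χ' with b | b <;> rw [a, b] at h'
      · exact Or.inl h'
      · exact Or.inr h'
      · exact Or.inr (by rw [← inv (μ χ), h'])
      · exact Or.inl (by rw [← inv (μ χ), h', inv])
    have a1 := classInner_irr_self (hμ χ')
    have a2 := classInner_irr_self (isIrrCharacter_conjChar (hμ χ'))
    have a3 := classInner_irr_ne (hμ χ') (isIrrCharacter_conjChar (hμ χ')) (hμne χ')
    have a4 := classInner_irr_ne (isIrrCharacter_conjChar (hμ χ')) (hμ χ') (hμne χ').symm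
    rcases hcase with e | e
    · rw [e] at hz
      change _ = (1:ℂ) at a2
      change classInner (μ χ') (conjFun (μ χ')) = 0 at a3
      change classInner (conjFun (μ χ')) (μ χ') = 0 at a4
      change classInner (conjFun (μ χ')) (conjFun (μ χ')) = 1 at a2
      rw [a1, a2, a3, a4] at hz
      norm_num at hz
    · rw [e, show conjFun (conjFun (μ χ')) = μ χ' from funext fun g => Complex.conj_conj _] at hz
      change classInner (μ χ') (conjFun (μ χ')) = 0 at a3
      change classInner (conjFun (μ χ')) (μ χ') = 0 at a4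
      change classInner (conjFun (μ χ')) (conjFun (μ χ')) = 1 at a2
      rw [a1, a2, a3, a4] at hz
      norm_num at hz
  let E : IrrCharacter G := ⟨e, he.1⟩
  have hEn : E ∉ Finset.univ.image ν := fun h => by
    obtain ⟨χ, -, e'⟩ := Finset.mem_image.mp h
    exact hνe χ (congrArg Subtype.val e')
  have hle : c E ^ 2 + ∑ ψ ∈ Finset.univ.image ν, c ψ ^ 2 ≤ ∑ ψ : IrrCharacter G, c ψ ^ 2 := by
    rw [← Finset.sum_insert (f := fun ψ => c ψ ^ 2) hEn]
    exact Finset.sum_le_sum_of_subset_of_nonneg (Finset.subset_univ _) fun _ _ _ => sq_nonneg _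
  have hge : (S.card : ℤ) ≤ ∑ ψ ∈ Finset.univ.image ν, c ψ ^ 2 := by
    rw [Finset.sum_image fun a _ b _ h => hinj h]
    calc (S.card : ℤ) = ∑ _χ : S, (1 : ℤ) := by simp
      _ ≤ _ := Finset.sum_le_sum fun χ _ => (Int.one_le_abs (hν χ)).trans (by
          rw [← sq_abs]; nlinarith [Int.one_le_abs (hν χ)])
  have hzero : c E = 0 := by nlinarith [sq_nonneg (c E)]
  have := hc E
  rw [hzero] at this
  exact_mod_cast this

/-- Two characters over the same `θ`. -/
theorem indFun_eq_of_common {θ θ' : K → ℂ} (hθ : IsIrrCharacter K θ) (hθ' : IsIrrCharacter K θ') {χ : N → ℂ}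
    (hχ : IsIrrCharacter N χ) (h : classInner (indFun K θ) χ ≠ 0) (h' : classInner (indFun K θ') χ ≠ 0) :
    ∃ g : N, conjNormFun K g θ' = θ := by
  by_contra hn
  exact classInner_ne_zero_of_common (isCharacter_indFun K (isCharacter_of_irr hθ))
    (isCharacter_indFun K (isCharacter_of_irr hθ')) hχ h h' (indFun_orthogonal_of_not_conj K hθ hθ' hn)

/-- No constituent of `Ind θ` has its conjugate among the constituents. -/
theorem OrthData.conj_not_common (d : OrthData A N H K) {θ : K → ℂ} (hθ : IsIrrCharacter K θ)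
    (hθ1 : θ ≠ fun _ => 1) {χ : N → ℂ} (hχ : IsIrrCharacter N χ) (h : classInner (indFun K θ) χ ≠ 0) :
    classInner (indFun K θ) (conjFun χ) = 0 := by
  by_contra h'
  have h'' : classInner (indFun K (conjFun θ)) χ ≠ 0 := by
    intro h0
    refine h' ?_
    have := congrArg conj h0
    rw [map_zero, indFun_conjFun] at this
    rw [← this]
    simp [classInner, conjFun, map_sum]
  obtain ⟨g, hg⟩ := indFun_eq_of_common hθ (show IsIrrCharacter K (conjFun θ) from isIrrCharacter_conjChar hθ) hχ h h''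
  have hg' : conjNormFun K g θ = conjFun θ := by
    funext n
    have := congrArg conj (congrFun hg n)
    simp only [conjNormFun, conjFun, Complex.conj_conj] at this ⊢
    exact this
  have hg2 : g * g ∈ inertia K θ := by
    rw [mem_inertia, conjNormFun_mul, hg', hg]
  obtain ⟨k, hk⟩ := d.odd.of_dvd_nat (orderOf_dvd_natCard g)
  have hgT : g ∈ inertia K θ := by
    have := (inertia K θ).pow_mem hg2 (k + 1)
    rwa [← sq, ← pow_mul, show 2 * (k + 1) = orderOf g + 1 by omega, pow_succ, pow_orderOf_eq_one, one_mul] at this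
  rw [(mem_inertia K).mp hgT] at hg'
  exact hθ1 (Cfsg.Agent.S0161.result (d.odd.of_dvd_nat (Subgroup.card_subgroup_dvd_card K)) ⟨θ, hθ⟩ fun n =>
    Complex.conj_eq_iff_im.mp (congrFun hg' n).symm)

/-- **(12.2)** `⟨τ χ - τ χ', e⟩ = 0` for constituents of one induced character. -/
theorem OrthData.inner_pair (d : OrthData A N H K) {e : G → ℂ} (he : Outside A H K e) {θ : K → ℂ}
    (hθ : IsIrrCharacter K θ) (hθ1 : θ ≠ fun _ => 1) {χ χ' : N → ℂ} (hχ : IsIrrCharacter N χ)
    (hχ' : IsIrrCharacter N χ') (h : classInner (indFun K θ) χ ≠ 0) (h' : classInner (indFun K θ) χ' ≠ 0) :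
    classInner (dadeIsometry A N H (χ - χ')) e = 0 := by
  classical
  obtain ⟨C, -, hC, hin⟩ := d.setting.degree_eq K hθ hθ1
  by_cases he' : χ = χ'
  · subst he'
    rw [sub_self, show (0 : N → ℂ) = (0 : ℂ) • (0 : N → ℂ) from (zero_smul ℂ _).symm, dade_smul, classInner_smul_left,
      zero_mul]
  have hd1 := (hC χ (hin χ hχ h)).2
  have hd2 := (hC χ' (hin χ' hχ' h')).2
  have hx := (hC χ (hin χ hχ h)).1
  have hy := (hC χ' (hin χ' hχ' h')).1
  have := d.inner_signed_sum he {χ} {χ'} (by simpa using hx) (by simpa using hy) (by simpa using he') (fun ψ hψ hψ' => ?_)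
    (by simpa using hd1.trans hd2.symm)
  · simpa using this
  · simp only [Finset.mem_singleton] at hψ hψ'
    have hψin : classInner (indFun K θ) ψ ≠ 0 := by rcases hψ with e | e <;> rw [e] <;> assumption
    have hψin' : classInner (indFun K θ) (conjFun ψ) ≠ 0 := by rcases hψ' with e | e <;> rw [e] <;> assumption
    exact hψin' (d.conj_not_common hθ hθ1 (by rcases hψ with e | e <;> rw [e] <;> assumption) hψin)

/-- The linear form `φ ↦ ⟨τ φ, e⟩`. -/
noncomputable def innerForm (A : Set G) (H : G → Subgroup G) (e : G → ℂ) : (N → ℂ) →ₗ[ℂ] ℂ where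
  toFun φ := classInner (dadeIsometry A N H φ) e
  map_add' a b := by rw [dade_add, classInner_add_left]
  map_smul' c a := by rw [dade_smul, classInner_smul_left]; rfl

/-- **(12.2)** `⟨τ φ, e⟩ = 0` for `φ` vanishing on `K` and orthogonal to the characters of `N / K`. -/
theorem OrthData.inner_eq_zero (d : OrthData A N H K) {e : G → ℂ} (he : Outside A H K e) {φ : N → ℂ}
    (hφ : IsClassFunction N φ) (hK : ∀ k ∈ K, φ k = 0)
    (hker : ∀ χ, IsIrrCharacter N χ → ¬ IsAbove K χ → classInner φ χ = 0) :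
    classInner (dadeIsometry A N H φ) e = 0 :=
  d.setting.linear_eq_zero K (innerForm A H e) (fun θ hθ hθ1 χ χ' hχ hχ' h h' => by
    rw [← sub_eq_zero, ← map_sub]
    exact d.inner_pair he hθ hθ1 hχ hχ' h h') hφ hK hker

end CfsgLib.OddOrder.S12
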