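import Cfsg.Agent.Lib.CharTheory.Clifford
import Cfsg.Agent.Lib.CharTheory.Gallagher
import Cfsg.Agent.S1491
import Cfsg.Prelude.Def_OddOrderChar

/-!
Section 12, facts 12.0c: the irreducible characters of a group `M` that are non-trivial on a normal subgroup `K`.
-/

set_option autoImplicit false
set_option linter.unusedSectionVars false
set_option linter.style.haveILetI false

namespace CfsgLib.OddOrder.S12

open Cfsg CfsgLib.CharTheory
open scoped ComplexConjugate

universe u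
variable {M : Type u} [Group M] [Fintype M] (K : Subgroup M) [K.Normal]

/-- An irreducible character whose kernel does not contain `K`. -/
def IsAbove (ψ : M → ℂ) : Prop := IsIrrCharacter M ψ ∧ ∃ k ∈ K, ψ k ≠ ψ 1

theorem IsAbove.cosetAvg_eq_zero {ψ : M → ℂ} [Fintype K] (h : IsAbove K ψ) : cosetAvg K ψ = 0 := by
  rcases kernel_or_cosetAvg_eq_zero K h.1 with h' | h'
  · obtain ⟨k, hk, hne⟩ := h.2
    exact absurd (h' k hk) hne
  · exact h'

theorem IsAbove.sum_coset {ψ : M → ℂ} [Fintype K] (h : IsAbove K ψ) (g : M) :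
    ∑ k : K, ψ (g * k) = 0 := by
  have h1 := congrFun (h.cosetAvg_eq_zero K) g
  simp only [cosetAvg, Pi.zero_apply, mul_eq_zero, inv_eq_zero, Nat.cast_eq_zero] at h1
  have h2 := h1.resolve_left Nat.card_pos.ne'
  rw [← h2]
  refine Fintype.sum_congr _ _ fun k => ?_
  have := isClassFunction_irr h.1 ((k : M) * g) g
  rw [← this]
  group

/-- A class function with zero sum over `x K` vanishes at `x` when `C_K(x) = 1`. -/
theorem eq_zero_of_sum_coset {ψ : M → ℂ} [Fintype K] (hψ : IsClassFunction M ψ) {x : M}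
    (hx : ∀ k ∈ K, x * k = k * x → k = 1) (hs : ∑ k : K, ψ (x * k) = 0) : ψ x = 0 := by
  let Φ : K → K := fun k => ⟨x⁻¹ * ((k : M) * x * (k : M)⁻¹), by
    rw [show x⁻¹ * ((k : M) * x * (k : M)⁻¹) = x⁻¹ * k * x * (k : M)⁻¹ by group]
    exact K.mul_mem (by simpa using (inferInstance : K.Normal).conj_mem k k.2 x⁻¹) (K.inv_mem k.2)⟩
  have hinj : Function.Injective Φ := fun a b h => by
    have h1 : x⁻¹ * ((a : M) * x * (a : M)⁻¹) = x⁻¹ * ((b : M) * x * (b : M)⁻¹) := congrArg Subtype.val h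
    have h2 := mul_left_cancel h1
    have h3 : x * ((a : M)⁻¹ * b) = (a : M)⁻¹ * b * x := by
      calc x * ((a : M)⁻¹ * b) = (a : M)⁻¹ * ((a : M) * x * (a : M)⁻¹) * b := by group
        _ = (a : M)⁻¹ * ((b : M) * x * (b : M)⁻¹) * b := by rw [h2]
        _ = (a : M)⁻¹ * b * x := by group
    exact Subtype.ext (inv_mul_eq_one.mp (hx _ (K.mul_mem (K.inv_mem a.2) b.2) h3))
  have hval : ∀ k : K, ψ (x * (Φ k : M)) = ψ x := fun k => by
    show ψ (x * (x⁻¹ * ((k : M) * x * (k : M)⁻¹))) = ψ x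
    rw [mul_inv_cancel_left]; exact hψ _ _
  have h := Fintype.sum_bijective Φ ⟨hinj, Finite.surjective_of_injective hinj⟩ (fun k => ψ (x * (Φ k : M)))
    (fun k => ψ (x * k)) (fun _ => rfl)
  rw [hs] at h
  simp only [hval, Finset.sum_const, Finset.card_univ, nsmul_eq_mul, mul_eq_zero, Nat.cast_eq_zero] at h
  exact h.resolve_left Fintype.card_pos.ne'

theorem IsAbove.eq_zero_off {ψ : M → ℂ} (h : IsAbove K ψ) {x : M}
    (hx : ∀ k ∈ K, x * k = k * x → k = 1) : ψ x = 0 := by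
  classical
  exact eq_zero_of_sum_coset K (isClassFunction_irr h.1) hx (h.sum_coset K x)

theorem isAbove_of_constituent [Fintype K] {θ : K → ℂ} (hθ : IsIrrCharacter K θ) (hθ1 : θ ≠ fun _ => 1)
    {ψ : M → ℂ} (hψ : IsIrrCharacter M ψ) (h : classInner (indFun K θ) ψ ≠ 0) : IsAbove K ψ := by
  refine ⟨hψ, ?_⟩
  by_contra hne
  push Not at hne
  refine h ?_
  rw [frobenius_reciprocity K θ (isClassFunction_irr hψ),
    show (fun k : K => ψ k) = ψ 1 • (fun _ => (1 : ℂ)) from funext fun k => by simp [hne k k.2],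
    classInner_smul_right, classInner_irr_ne hθ isIrrCharacter_one hθ1, mul_zero]

/-- Every character above `K` is a constituent of some induced character. -/
theorem IsAbove.exists_theta [Fintype K] {ψ : M → ℂ} (h : IsAbove K ψ) :
    ∃ θ : K → ℂ, IsIrrCharacter K θ ∧ θ ≠ (fun _ => 1) ∧ classInner (indFun K θ) ψ ≠ 0 := by
  by_contra hne
  push Not at hne
  obtain ⟨k, hk, hψk⟩ := h.2
  apply hψk
  set r : K → ℂ := fun k => ψ k with hr
  have hrc := isClassFunction_char (isCharacter_restrict (isCharacter_of_irr h.1) K)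
  have h2 : r - classInner r (fun _ => 1) • (fun _ => (1 : ℂ)) = 0 := by
    refine eq_zero_of_orthogonal (fun a b => ?_) fun θ hθ => ?_
    · simp only [Pi.sub_apply, Pi.smul_apply]
      rw [show r (b * a * b⁻¹) = r a from hrc a b]
    · rw [classInner_sub_left, classInner_smul_left]
      by_cases e : θ = fun _ => 1
      · subst e
        rw [classInner_irr_self isIrrCharacter_one, mul_one, sub_self]
      · rw [classInner_irr_ne isIrrCharacter_one hθ (Ne.symm e), mul_zero, sub_zero]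
        have h0 := hne θ hθ e
        rw [frobenius_reciprocity K θ (isClassFunction_irr h.1)] at h0
        rw [← classInner_comm, h0, map_zero]
  have e1 := congrFun h2 ⟨k, hk⟩
  have e2 := congrFun h2 1
  simp only [Pi.sub_apply, Pi.smul_apply, smul_eq_mul, mul_one, Pi.zero_apply, sub_eq_zero] at e1 e2
  show ψ k = ψ 1
  rw [show ψ k = r ⟨k, hk⟩ from rfl, show ψ 1 = r 1 from rfl, e1, e2]

/-- The inertia subgroups over `K` are abelian modulo `K`, and `K` is a Hall subgroup. -/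
structure Setting : Prop where
  cop : (Nat.card K).Coprime K.index
  abelian : ∀ θ : K → ℂ, IsIrrCharacter K θ → θ ≠ (fun _ => 1) →
    ∀ x y : M, conjNormFun K x θ = θ → conjNormFun K y θ = θ → x * y * x⁻¹ * y⁻¹ ∈ K

/-- Two characters above `K` with a common `θ` below have the same degree and multiplicity one. -/
theorem Setting.degree_eq (hS : Setting K) [Fintype K] {θ : K → ℂ} (hθ : IsIrrCharacter K θ) (hθ1 : θ ≠ fun _ => 1) :
    ∃ C : Finset (M → ℂ), indFun K θ = ∑ χ ∈ C, χ ∧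
      (∀ χ ∈ C, IsAbove K χ ∧ χ 1 = ((inertia K θ).index : ℂ) * θ 1) ∧
      ∀ χ, IsIrrCharacter M χ → classInner (indFun K θ) χ ≠ 0 → χ ∈ C := by
  obtain ⟨C, hirr, -, hsum, hdeg⟩ := Cfsg.Agent.S1491.result K (inertia K θ) θ hθ
    (fun g => ⟨fun hg h => congrFun ((mem_inertia K).mp hg) h, fun hg => (mem_inertia K).mpr (funext hg)⟩)
    (fun x hx y hy => hS.abelian θ hθ hθ1 x y ((mem_inertia K).mp hx) ((mem_inertia K).mp hy))
    (hS.cop.coprime_dvd_right (Subgroup.relIndex_dvd_index_of_normal K _))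
  have hin : ∀ χ, IsIrrCharacter M χ → classInner (indFun K θ) χ ≠ 0 → χ ∈ C := fun χ hχ h => by
    by_contra hc
    refine h ?_
    rw [hsum, classInner_sum_left]
    exact Finset.sum_eq_zero fun φ hφ => classInner_irr_ne (hirr φ hφ) hχ fun e => hc (e ▸ hφ)
  refine ⟨C, hsum, fun χ hχ => ⟨isAbove_of_constituent K hθ hθ1 (hirr χ hχ) ?_, hdeg χ hχ⟩, hin⟩
  rw [hsum, classInner_sum_left, Finset.sum_eq_single χ
    (fun φ hφ hne => classInner_irr_ne (hirr φ hφ) (hirr χ hχ) hne) (fun h => absurd hχ h),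
    classInner_irr_self (hirr χ hχ)]
  exact one_ne_zero

/-- A linear form that agrees on the constituents of each `Ind θ` kills every class function that vanishes on
`K` and is orthogonal to the characters with `K` in the kernel. -/
theorem Setting.linear_eq_zero (hS : Setting K) [Fintype K] (Λ : (M → ℂ) →ₗ[ℂ] ℂ)
    (hΛ : ∀ θ : K → ℂ, IsIrrCharacter K θ → θ ≠ (fun _ => 1) → ∀ χ χ' : M → ℂ, IsIrrCharacter M χ →
      IsIrrCharacter M χ' → classInner (indFun K θ) χ ≠ 0 → classInner (indFun K θ) χ' ≠ 0 → Λ χ = Λ χ')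
    {φ : M → ℂ} (hφ : IsClassFunction M φ) (hK : ∀ k ∈ K, φ k = 0)
    (hker : ∀ χ, IsIrrCharacter M χ → ¬ IsAbove K χ → classInner φ χ = 0) : Λ φ = 0 := by
  classical
  have hind : ∀ θ : K → ℂ, classInner φ (indFun K θ) = 0 := fun θ => by
    rw [frobenius_reciprocity' K θ hφ]
    simp [classInner, show ∀ k : K, φ k = 0 from fun k => hK k k.2]
  rw [eq_sum_irr hφ, map_sum]
  simp only [map_smul, smul_eq_mul]
  set S := (Finset.univ : Finset (IrrCharacter M)).filter fun χ => IsAbove K χ.1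
  rw [← Finset.sum_filter_add_sum_filter_not Finset.univ fun χ : IrrCharacter M => IsAbove K χ.1]
  rw [Finset.sum_eq_zero (s := Finset.filter (fun χ : IrrCharacter M => ¬ IsAbove K χ.1) _) fun χ hχ => by
    rw [hker χ.1 χ.2 (Finset.mem_filter.mp hχ).2, zero_mul], add_zero]
  change ∑ χ ∈ S, classInner φ χ.1 * Λ χ.1 = 0
  suffices h : ∀ T : Finset (IrrCharacter M), T ⊆ S →
      (∀ χ ∈ T, ∀ θ : K → ℂ, IsIrrCharacter K θ → θ ≠ (fun _ => 1) → classInner (indFun K θ) χ.1 ≠ 0 →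
        ∀ χ' ∈ S, classInner (indFun K θ) χ'.1 ≠ 0 → χ' ∈ T) →
      ∑ χ ∈ T, classInner φ χ.1 * Λ χ.1 = 0 from
    h S (Finset.Subset.refl _) fun _ _ _ _ _ _ χ' hχ' _ => hχ'
  intro T
  induction T using Finset.strongInduction with
  | _ T ih =>
  intro hTS hcl
  obtain rfl | ⟨χ₀, hχ₀⟩ := T.eq_empty_or_nonempty
  · simp
  have hab₀ : IsAbove K χ₀.1 := (Finset.mem_filter.mp (hTS hχ₀)).2
  obtain ⟨θ, hθ, hθ1, hne⟩ := hab₀.exists_theta K
  set P := T.filter fun χ => classInner (indFun K θ) χ.1 ≠ 0 with hP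
  have hP0 : χ₀ ∈ P := Finset.mem_filter.mpr ⟨hχ₀, hne⟩
  rw [← Finset.sum_filter_add_sum_filter_not T fun χ => classInner (indFun K θ) χ.1 ≠ 0]
  obtain ⟨C, hsum, hC, hCin⟩ := hS.degree_eq K hθ hθ1
  have hPsum : ∑ χ ∈ P, classInner φ χ.1 = 0 := by
    have h := hind θ
    rw [hsum, classInner_sum_right] at h
    rw [← h]
    refine Finset.sum_bij (fun χ _ => χ.1) (fun χ hχ => hCin χ.1 χ.2 (Finset.mem_filter.mp hχ).2)
      (fun _ _ _ _ e => Subtype.ext e) (fun ψ hψ => ?_) (fun _ _ => rfl)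
    have hψne : classInner (indFun K θ) ψ ≠ 0 := by
      rw [hsum, classInner_sum_left, Finset.sum_eq_single ψ
        (fun φ' hφ' hn => classInner_irr_ne (hC φ' hφ').1.1 (hC ψ hψ).1.1 hn) (fun hn => absurd hψ hn),
        classInner_irr_self (hC ψ hψ).1.1]
      exact one_ne_zero
    exact ⟨⟨ψ, (hC ψ hψ).1.1⟩, Finset.mem_filter.mpr ⟨hcl χ₀ hχ₀ θ hθ hθ1 hne _
      (Finset.mem_filter.mpr ⟨Finset.mem_univ _, (hC ψ hψ).1⟩) hψne, hψne⟩, rfl⟩
  have h1 : ∑ χ ∈ P, classInner φ χ.1 * Λ χ.1 = 0 := by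
    rw [Finset.sum_congr rfl fun χ hχ => show classInner φ χ.1 * Λ χ.1 = classInner φ χ.1 * Λ χ₀.1 by
      rw [hΛ θ hθ hθ1 χ.1 χ₀.1 χ.2 χ₀.2 (Finset.mem_filter.mp hχ).2 hne], ← Finset.sum_mul, hPsum, zero_mul]
  rw [h1, zero_add]
  refine ih _ (Finset.filter_ssubset.mpr ⟨χ₀, hχ₀, fun h => h hne⟩) ((Finset.filter_subset _ _).trans hTS) ?_
  intro χ hχ θ' hθ' hθ'1 hne' χ' hχ' hne''
  obtain ⟨hχT, hχn⟩ := Finset.mem_filter.mp hχ
  refine Finset.mem_filter.mpr ⟨hcl χ hχT θ' hθ' hθ'1 hne' χ' hχ' hne'', fun h' => hχn fun h0 => ?_⟩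
  have heq : indFun K θ' = indFun K θ := by
    by_contra hd
    have hnc : θ' ∉ conjOrbit K θ := fun hc => by
      obtain ⟨g, rfl⟩ := (mem_conjOrbit K).mp hc
      exact hd (indFun_conjNormFun K g θ)
    exact classInner_ne_zero_of_common (isCharacter_indFun K (isCharacter_of_irr hθ'))
      (isCharacter_indFun K (isCharacter_of_irr hθ)) χ'.2 hne'' h'
      (indFun_orthogonal_of_not_conj K hθ' hθ fun e => hnc ((mem_conjOrbit K).mpr e))
  exact hne' (heq ▸ h0)

end CfsgLib.OddOrder.S12
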