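import Cfsg.Agent.Lib.MinSimpleOdd.SigmaTilde
import Cfsg.Agent.Lib.MinSimpleOdd.HallFusion
import Cfsg.Agent.S1432
import Cfsg.Agent.S1436
import Cfsg.Prelude.Def_OddOrderChar

/-!
Section 12 set-up: the Dade hypotheses for `M_σ^#` and, when `κ(M) = ∅`, for `M̂_σ^#`.
-/

set_option autoImplicit false
set_option linter.unusedSectionVars false
set_option linter.style.haveILetI false
set_option maxHeartbeats 1000000

namespace CfsgLib.OddOrder.S12

open Subgroup Cfsg CfsgLib.MinSimpleOdd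
open scoped Pointwise

universe u
variable {G : Type u} [Group G] [Finite G] (hG : IsMinSimpleOddOrder G) {M : Subgroup G} (hM : IsCoatom M)

include hG hM

/-- An element of `M̂_σ` outside `M_σ` has a power of prime order outside `σ(M)` with a unique maximal
overgroup of its centraliser, provided `κ(M) = ∅`. -/
theorem hat_outside (hκ : kappa M = ∅) {a : G} (ha : a ∈ sigmaHat M) (has : a ∉ sigmaCore M) :
    ∃ k : ℕ, (orderOf (a ^ k)).Prime ∧ orderOf (a ^ k) ∉ sigma M ∧ orderOf (a ^ k) ∈ tau2 M ∧ a ^ k ≠ 1 ∧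
      centralizer ({a ^ k} : Set G) ≤ M ∧
      ∀ L : Subgroup G, IsCoatom L → centralizer ({a ^ k} : Set G) ≤ L → L = M := by
  obtain ⟨haM, z, hz, hz1, hc⟩ := ha
  obtain ⟨r, hr, hrd, hrσ⟩ : ∃ r : ℕ, r.Prime ∧ r ∣ orderOf a ∧ r ∉ sigma M := by
    by_contra hne
    push Not at hne
    exact has (mem_sigmaCore_of_order hG hM haM hne)
  have hk : orderOf (a ^ (orderOf a / r)) = r :=
    orderOf_pow_orderOf_div (orderOf_pos a).ne' hrd
  set k := orderOf a / r
  have hne : a ^ k ≠ 1 := fun e => hr.ne_one (by rw [← hk, e, orderOf_one])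
  have hmem : a ^ k ∈ M ⊓ centralizer ({z} : Set G) :=
    ⟨M.pow_mem haM k, Subgroup.mem_centralizer_singleton_iff.mpr ((show Commute a z from hc).pow_left k).eq⟩
  rcases Cfsg.Agent.S1432.result hG M hM z hz hz1 (a ^ k) hmem hne (fun p hp hd => by
      rw [hk, Nat.prime_dvd_prime_iff_eq hp hr] at hd; exact hd ▸ hrσ) with ⟨h, -⟩ | ⟨h, -, hle, huniq⟩
  · exact absurd (hκ ▸ h r hr hk.symm.dvd) (Set.notMem_empty r)
  · exact ⟨k, hk ▸ hr, hk ▸ hrσ, hk ▸ h r hr hk.symm.dvd, hne, hle, huniq⟩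

theorem centralizer_le_of_hat (hκ : kappa M = ∅) {a : G} (ha : a ∈ sigmaHat M) (has : a ∉ sigmaCore M) :
    centralizer ({a} : Set G) ≤ M := by
  obtain ⟨k, -, -, -, -, hle, -⟩ := hat_outside hG hM hκ ha has
  refine fun c hc => hle (Subgroup.mem_centralizer_singleton_iff.mpr ?_)
  exact ((show Commute c a from Subgroup.mem_centralizer_singleton_iff.mp hc).pow_right k).eq

theorem supportR_hat_eq_bot (hκ : kappa M = ∅) {a : G} (ha : a ∈ sigmaHat M) (has : a ∉ sigmaCore M) :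
    supportR M a = ⊥ :=
  supportR_eq_bot hG hM (centralizer_le_of_hat hG hM hκ ha has)

theorem hat_fusion (hκ : kappa M = ∅) {a g : G} (ha : a ∈ sigmaHat M) (has : a ∉ sigmaCore M)
    (hg : g * a * g⁻¹ ∈ sigmaHat M) : g ∈ M := by
  obtain ⟨k, hr, hrσ, -, hne, -, huniq⟩ := hat_outside hG hM hκ ha has
  obtain ⟨hbM, z, hz, hz1, hc⟩ := hg
  have hb : g * a ^ k * g⁻¹ = (g * a * g⁻¹) ^ k := by rw [conj_pow]
  have ho : orderOf (g * a ^ k * g⁻¹) = orderOf (a ^ k) := orderOf_conj g _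
  have hmem : g * a ^ k * g⁻¹ ∈ M ⊓ centralizer ({z} : Set G) := by
    rw [hb]
    exact ⟨M.pow_mem hbM k, Subgroup.mem_centralizer_singleton_iff.mpr ((show Commute _ z from hc).pow_left k).eq⟩
  rcases Cfsg.Agent.S1432.result hG M hM z hz hz1 _ hmem (fun e => hne (conj_eq_one_iff.mp e))
      (fun p hp hd => by rw [ho, Nat.prime_dvd_prime_iff_eq hp hr] at hd; exact hd ▸ hrσ) with ⟨h, -⟩ | ⟨-, -, hle, -⟩
  · exact absurd (hκ ▸ h _ hr ho.symm.dvd) (Set.notMem_empty _)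
  · have h2 : MulAut.conj g⁻¹ • M = M := by
      refine huniq _ (conj_isCoatom hM _) ?_
      rw [show a ^ k = g⁻¹ * (g * a ^ k * g⁻¹) * g⁻¹⁻¹ by group, ← conj_centralizer_singleton]
      exact conj_smul_mono hle _
    have := mem_normalizer_of_conj_smul h2
    rw [normalizer_coatom hG hM] at this
    simpa using M.inv_mem this

theorem sigmaCore_fusion {a g : G} (ha : a ∈ sigmaCore M) (hg : g * a * g⁻¹ ∈ sigmaCore M) :
    ∃ n ∈ M, n * a * n⁻¹ = g * a * g⁻¹ := by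
  obtain ⟨n, hn, hne⟩ := hall_fusion hG hM le_rfl
    (by rw [Subgroup.relIndex_self]; exact Nat.coprime_one_right _) ha hg
  exact ⟨n, hn.1, hne⟩

theorem coprime_supportR {a b : G} (ha : a ∈ sigmaCore M) (ha1 : a ≠ 1)
    (hb : (b ∈ sigmaCore M ∧ b ≠ 1) ∨ (tau2 M).Nonempty) :
    (Nat.card (supportR M a)).Coprime (Nat.card ↥(M ⊓ centralizer ({b} : Set G))) := by
  refine Nat.coprime_of_dvd fun r hr h1 h2 => ?_
  rcases supportR_cases hG hM ha ha1 with ⟨-, h⟩ | ⟨N, hN, h⟩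
  · rw [h, Subgroup.card_bot] at h1
    exact hr.ne_one (Nat.dvd_one.mp h1)
  haveI := Fact.mk hr
  obtain ⟨u, hu⟩ := exists_prime_orderOf_dvd_card' r h1
  obtain ⟨v, hv⟩ := exists_prime_orderOf_dvd_card' r h2
  have hrN : r ∈ sigma N := order_sigma hG hN.hN ((h.le u.2).1) r hr (by rw [Subgroup.orderOf_coe, hu])
  have hrM : r ∉ sigma M := fun hrM => by
    obtain ⟨g, hg⟩ := sigma_disjointness hG hM hN.hN hrM hrN
    obtain ⟨q, hq, hqd⟩ := exists_prime_dvd_order ha1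
    exact (hN.tau2 q hq hqd).2.1 (by rw [hg, sigma_conj]; exact order_sigma hG hM ha q hq hqd)
  have hvM : (v : G) ∈ M := v.2.1
  have hrd : r ∣ Nat.card M := by
    have := Subgroup.orderOf_dvd_natCard M hvM
    rwa [Subgroup.orderOf_coe, hv] at this
  obtain ⟨hκ, hτ⟩ := (Cfsg.Agent.S1436.result hG M hM a ha ha1 (hN.not_le hG hM) N hN.hN hN.le).1 ⟨r, hrN, hrd⟩
  rcases hb with ⟨hbs, hb1⟩ | hne
  · have hv1 : (v : G) ≠ 1 := fun e => hr.ne_one (by rw [← hv, ← Subgroup.orderOf_coe, e, orderOf_one])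
    rcases Cfsg.Agent.S1432.result hG M hM b hbs hb1 v v.2 hv1 (fun p hp hd => by
        rw [Subgroup.orderOf_coe, hv, Nat.prime_dvd_prime_iff_eq hp hr] at hd; exact hd ▸ hrM) with ⟨h, -⟩ | ⟨h, -⟩
    · exact Set.notMem_empty r (hκ ▸ h r hr (by rw [Subgroup.orderOf_coe, hv]))
    · exact Set.notMem_empty r (hτ ▸ h r hr (by rw [Subgroup.orderOf_coe, hv]))
  · exact hne.ne_empty hτ

theorem conj_mem_core {n x : G} (hn : n ∈ M) (hx : x ∈ sigmaCore M) : n * x * n⁻¹ ∈ sigmaCore M :=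
  (Subgroup.mem_normalizer_iff.mp (le_normalizer_sigmaCore hG hM le_rfl hn) x).mp hx

/-- The Dade hypothesis for `M_σ^#`. -/
theorem dade_sigmaCore : DadeHypothesis ((sigmaCore M : Set G) \ {1}) M (supportR M) where
  one_not_mem h := h.2 rfl
  subset a ha := piCoreOf_le _ _ ha.1
  conj_mem x hx a ha := ⟨conj_mem_core hG hM hx ha.1, fun e => ha.2 (conj_eq_one_iff.mp e)⟩
  fusion a ha g hg := sigmaCore_fusion hG hM ha.1 hg.1
  le_centralizer a ha := supportR_le_centralizer hG hM ha.1 ha.2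
  conj_mem_H a ha c hc u hu :=
    (Subgroup.mem_normalizer_iff.mp ((centralizer_compl hG hM ha.1 ha.2).2 hc) u).mp hu
  inf_eq_bot a ha := by rw [inf_comm]; exact (centralizer_compl hG hM ha.1 ha.2).1.2.2.1
  sup_eq a ha := by
    obtain ⟨⟨h1, h2, -, h4⟩, -⟩ := centralizer_compl hG hM ha.1 ha.2
    refine le_antisymm (sup_le h2 h1) fun c hc => ?_
    obtain ⟨e, he, r, hr, rfl⟩ := h4 c hc
    exact mul_mem (Subgroup.mem_sup_right he) (Subgroup.mem_sup_left hr)
  coprime a ha b hb := coprime_supportR hG hM ha.1 ha.2 (Or.inl hb)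

/-- The Dade hypothesis for `M̂_σ^#` when `κ(M) = ∅`. -/
theorem dade_hat (hκ : kappa M = ∅) : DadeHypothesis (sigmaHat M \ {1}) M (supportR M) where
  one_not_mem h := h.2 rfl
  subset a ha := ha.1.1
  conj_mem x hx a ha := by
    obtain ⟨⟨haM, z, hz, hz1, hc⟩, ha1⟩ := ha
    refine ⟨⟨M.mul_mem (M.mul_mem hx haM) (M.inv_mem hx), x * z * x⁻¹, conj_mem_core hG hM hx hz,
      fun e => hz1 (conj_eq_one_iff.mp e), ?_⟩, fun e => ha1 (conj_eq_one_iff.mp e)⟩
    calc x * a * x⁻¹ * (x * z * x⁻¹) = x * (a * z) * x⁻¹ := by group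
      _ = x * (z * a) * x⁻¹ := by rw [hc]
      _ = x * z * x⁻¹ * (x * a * x⁻¹) := by group
  fusion a ha g hg := by
    by_cases has : a ∈ sigmaCore M
    · exact sigmaCore_fusion hG hM has (mem_sigmaCore_of_order hG hM hg.1.1 fun p hp hd =>
        order_sigma hG hM has p hp (by rwa [orderOf_conj] at hd))
    · exact ⟨g, hat_fusion hG hM hκ ha.1 has hg.1, rfl⟩
  le_centralizer a ha := by
    by_cases has : a ∈ sigmaCore M
    · exact supportR_le_centralizer hG hM has ha.2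
    · rw [supportR_hat_eq_bot hG hM hκ ha.1 has]; exact bot_le
  conj_mem_H a ha c hc u hu := by
    by_cases has : a ∈ sigmaCore M
    · exact (Subgroup.mem_normalizer_iff.mp ((centralizer_compl hG hM has ha.2).2 hc) u).mp hu
    · rw [supportR_hat_eq_bot hG hM hκ ha.1 has, Subgroup.mem_bot] at hu ⊢
      rw [hu]; group
  inf_eq_bot a ha := by
    by_cases has : a ∈ sigmaCore M
    · exact (dade_sigmaCore hG hM).inf_eq_bot a ⟨has, ha.2⟩
    · rw [supportR_hat_eq_bot hG hM hκ ha.1 has, bot_inf_eq]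
  sup_eq a ha := by
    by_cases has : a ∈ sigmaCore M
    · exact (dade_sigmaCore hG hM).sup_eq a ⟨has, ha.2⟩
    · rw [supportR_hat_eq_bot hG hM hκ ha.1 has, bot_sup_eq, inf_eq_right]
      exact centralizer_le_of_hat hG hM hκ ha.1 has
  coprime a ha b hb := by
    by_cases has : a ∈ sigmaCore M
    · refine coprime_supportR hG hM has ha.2 ?_
      by_cases hbs : b ∈ sigmaCore M
      · exact Or.inl ⟨hbs, hb.2⟩
      · obtain ⟨k, -, -, hτ, -⟩ := hat_outside hG hM hκ hb.1 hbs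
        exact Or.inr ⟨_, hτ⟩
    · rw [supportR_hat_eq_bot hG hM hκ ha.1 has, Subgroup.card_bot]
      exact Nat.coprime_one_left _

end CfsgLib.OddOrder.S12
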